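import Groth.Agent.Lib.ProjSpace.Basic
import Groth.Agent.Lib.CurveCoh17.Degree
import Groth.Agent.Lib.CurveAmple18.Basic
import Groth.Agent.Lib.Snapper.Main
import Groth.Prelude.Def_ArSurf

/-!
# Vertical curves on arithmetic surfaces: first properties
-/

set_option autoImplicit false
set_option linter.style.haveILetI false
set_option backward.isDefEq.respectTransparency false

universe u

open CategoryTheory CategoryTheory.Limits AlgebraicGeometry TopologicalSpace Opposite

namespace Groth.Agent.ArInter

variable {R : Type u} [CommRing R] [IsDomain R] [IsDiscreteValuationRing R]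
  {X : Over (Spec (CommRingCat.of R))}

variable (X) in
/-- What the theory of the fibre divisor uses of the surface. -/
structure IsPre : Prop where
  lft : LocallyOfFiniteType X.hom
  qc : QuasiCompact X.hom
  integral : IsIntegral X.left
  flat : Flat X.hom

variable (X) in
/-- What the intersection theory on a surface over a discrete valuation ring uses of the surface. -/
structure IsSurf : Prop where
  proper : IsProper X.hom
  integral : IsIntegral X.left
  flat : Flat X.hom

/-- An arithmetic surface qualifies. -/
theorem isSurf (hX : ArSurf.IsArithSurface R X) : IsSurf X := by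
  refine ⟨?_, hX.2.1, hX.2.2.2.1⟩
  obtain ⟨n, i, hi, h⟩ := hX.2.2.2.2
  haveI := hi
  rw [← h]
  infer_instance

theorem IsSurf.pre (hX : IsSurf X) : IsPre X :=
  haveI := hX.proper
  ⟨inferInstance, inferInstance, hX.integral, hX.flat⟩

theorem isProper_hom (hX : IsSurf X) : IsProper X.hom := hX.proper

theorem isProper_curve (hX : IsSurf X) (Γ : ArSurf.VertComp R X) : IsProper Γ.curve.hom := by
  haveI := isProper_hom hX
  haveI : IsProper (Γ.curve.hom ≫ Spec.map (CommRingCat.ofHom (IsLocalRing.residue R))) := by
    rw [← Γ.w]
    infer_instance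
  exact IsProper.of_comp Γ.curve.hom (Spec.map (CommRingCat.ofHom (IsLocalRing.residue R)))

/-- The degree on a vertical curve is the degree in the sense of Euler characteristics. -/
theorem curveDeg_eq_deg (hX : IsSurf X) (Γ : ArSurf.VertComp R X) {M : Γ.curve.left.Modules}
    (hM : Coh.IsCoh M) :
    ArSurf.curveDeg (IsLocalRing.ResidueField R) Γ.curve.left M =
      Curv2.deg (IsLocalRing.ResidueField R) Γ.curve.left M 1 := by
  haveI : IsProper (Γ.curve.left ↘ Spec (CommRingCat.of (IsLocalRing.ResidueField R))) := isProper_curve hX Γ
  have hc := CurveAmple18.curveLike (IsLocalRing.ResidueField R) Γ.curve.left Γ.dim_eq.le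
  have hO : Coh.IsCoh (Coh.structureModule Γ.curve.left) :=
    haveI := hc.noetherian
    Snapper.isCoh_of_isInvertible (PicLoc.isInvertible_structureModule _)
  rw [ArSurf.curveDeg, Curv2.deg, (hc.adm hM).euler_eq, (hc.adm hO).euler_eq]
  simp only [FGA.eulerCharLE, Finset.sum_range_succ, Finset.range_zero, Finset.sum_empty, pow_zero, pow_one,
    Nat.cast_one, one_mul, zero_add]
  ring

end Groth.Agent.ArInter
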