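import Groth.Agent.Lib.ArInter.Fibre
import Mathlib.Algebra.Order.BigOperators.Ring.Finset
import Mathlib.Tactic.LinearCombination

/-!
# The intersection form on vertical divisors
-/

set_option autoImplicit false
set_option linter.style.haveILetI false
set_option linter.unusedSectionVars false
set_option backward.isDefEq.respectTransparency false

universe u

open CategoryTheory CategoryTheory.Limits AlgebraicGeometry TopologicalSpace Opposite

namespace Groth.Agent.ArInter

/-! ### Quadratic forms with non-positive row sums -/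

section form

variable {T : Type*} [Fintype T] (N : T → T → ℚ) (w : T → ℚ)

theorem form_identity (hsymm : ∀ p q, N p q = N q p) (y : T → ℚ) :
    2 * ∑ p, ∑ q, (w p * y p) * (w q * y q) * N q p =
      2 * ∑ p, w p * y p ^ 2 * (∑ q, w q * N q p) - ∑ p, ∑ q, w p * w q * N q p * (y p - y q) ^ 2 := by
  have h1 : ∑ p, ∑ q, w p * w q * N q p * y q ^ 2 = ∑ p, ∑ q, w p * w q * N q p * y p ^ 2 := by
    rw [Finset.sum_comm]
    refine Finset.sum_congr rfl fun p _ => Finset.sum_congr rfl fun q _ => ?_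
    rw [hsymm p q]
    ring
  have h2 : ∑ p, w p * y p ^ 2 * (∑ q, w q * N q p) = ∑ p, ∑ q, w p * w q * N q p * y p ^ 2 := by
    refine Finset.sum_congr rfl fun p _ => ?_
    rw [Finset.mul_sum]
    exact Finset.sum_congr rfl fun q _ => by ring
  have h3 : ∑ p, ∑ q, w p * w q * N q p * (y p - y q) ^ 2 =
      ∑ p, ∑ q, w p * w q * N q p * y p ^ 2 + ∑ p, ∑ q, w p * w q * N q p * y q ^ 2 -
        2 * ∑ p, ∑ q, (w p * y p) * (w q * y q) * N q p := by
    simp only [Finset.mul_sum, ← Finset.sum_add_distrib, ← Finset.sum_sub_distrib]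
    exact Finset.sum_congr rfl fun p _ => Finset.sum_congr rfl fun q _ => by ring
  linarith

variable (hw : ∀ p, 0 < w p) (hoff : ∀ p q, p ≠ q → 0 ≤ N q p)

include hw hoff in
theorem term_nonneg (y : T → ℚ) (p q : T) : 0 ≤ w p * w q * N q p * (y p - y q) ^ 2 := by
  rcases eq_or_ne p q with rfl | h
  · simp
  · exact mul_nonneg (mul_nonneg (mul_pos (hw p) (hw q)).le (hoff p q h)) (sq_nonneg _)

include hw hoff in
theorem form_nonpos (hsymm : ∀ p q, N p q = N q p) (hrow : ∀ p, ∑ q, w q * N q p ≤ 0) (x : T → ℚ) :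
    ∑ p, ∑ q, x p * x q * N q p ≤ 0 := by
  let y := fun p => x p / w p
  have hx : ∀ p, w p * y p = x p := fun p => mul_div_cancel₀ _ (hw p).ne'
  have h := form_identity N w hsymm y
  simp only [hx] at h
  have h1 : ∑ p, w p * y p ^ 2 * (∑ q, w q * N q p) ≤ 0 :=
    Finset.sum_nonpos fun p _ => mul_nonpos_of_nonneg_of_nonpos (mul_nonneg (hw p).le (sq_nonneg _)) (hrow p)
  have h2 : 0 ≤ ∑ p, ∑ q, w p * w q * N q p * (y p - y q) ^ 2 :=
    Finset.sum_nonneg fun p _ => Finset.sum_nonneg fun q _ => term_nonneg N w hw hoff y p q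
  linarith

include hw hoff in
theorem eq_of_kernel (hsymm : ∀ p q, N p q = N q p) (hrow : ∀ p, ∑ q, w q * N q p = 0) (x : T → ℚ)
    (hker : ∀ p, ∑ q, x q * N q p = 0) {p q : T} (hpq : N q p ≠ 0) : x p / w p = x q / w q := by
  let y := fun p => x p / w p
  have hx : ∀ p, w p * y p = x p := fun p => mul_div_cancel₀ _ (hw p).ne'
  have h := form_identity N w hsymm y
  simp only [hx, hrow, mul_zero, Finset.sum_const_zero, zero_sub] at h
  have h0 : ∑ p, ∑ q, x p * x q * N q p = 0 := by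
    refine Finset.sum_eq_zero fun p _ => ?_
    simp only [mul_assoc, ← Finset.mul_sum, hker, mul_zero]
  rw [h0, mul_zero] at h
  have h2 := (Finset.sum_eq_zero_iff_of_nonneg fun p _ => Finset.sum_nonneg fun q _ => term_nonneg N w hw hoff y p q).mp
    (neg_eq_zero.mp h.symm) p (Finset.mem_univ p)
  have h3 := (Finset.sum_eq_zero_iff_of_nonneg fun q _ => term_nonneg N w hw hoff y p q).mp h2 q (Finset.mem_univ q)
  rcases mul_eq_zero.mp h3 with h4 | h4
  · exact absurd h4 (mul_ne_zero (mul_ne_zero (hw p).ne' (hw q).ne') hpq)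
  · exact sub_eq_zero.mp (pow_eq_zero_iff two_ne_zero |>.mp h4)

include hw hoff in
theorem eq_of_form_eq_zero (hsymm : ∀ p q, N p q = N q p) (hrow : ∀ p, ∑ q, w q * N q p = 0) (x : T → ℚ)
    (h0 : ∑ p, ∑ q, x p * x q * N q p = 0) {p q : T} (hpq : N q p ≠ 0) : x p / w p = x q / w q := by
  let y := fun p => x p / w p
  have hx : ∀ p, w p * y p = x p := fun p => mul_div_cancel₀ _ (hw p).ne'
  have h := form_identity N w hsymm y
  simp only [hx, hrow, mul_zero, Finset.sum_const_zero, zero_sub] at h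
  rw [h0, mul_zero] at h
  have h2 := (Finset.sum_eq_zero_iff_of_nonneg fun p _ => Finset.sum_nonneg fun q _ => term_nonneg N w hw hoff y p q).mp
    (neg_eq_zero.mp h.symm) p (Finset.mem_univ p)
  have h3 := (Finset.sum_eq_zero_iff_of_nonneg fun q _ => term_nonneg N w hw hoff y p q).mp h2 q (Finset.mem_univ q)
  rcases mul_eq_zero.mp h3 with h4 | h4
  · exact absurd h4 (mul_ne_zero (mul_ne_zero (hw p).ne' (hw q).ne') hpq)
  · exact sub_eq_zero.mp (pow_eq_zero_iff two_ne_zero |>.mp h4)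

omit N w in
/-- Grouping a quadratic form along a map of index sets. -/
theorem sum_grouped [DecidableEq T] {ι : Type*} [Fintype ι] (c : ι → T) (a : ι → ℚ) (N : T → T → ℚ) :
    ∑ i, ∑ j, a i * a j * N (c j) (c i) =
      ∑ p, ∑ q, (∑ i with c i = p, a i) * (∑ i with c i = q, a i) * N q p := by
  have h1 : ∀ g : T → ℚ, ∑ i, a i * g (c i) = ∑ p, (∑ i with c i = p, a i) * g p := fun g => by
    simp only [Finset.sum_mul]
    rw [← Finset.sum_fiberwise Finset.univ c (fun i => a i * g (c i))]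
    refine Finset.sum_congr rfl fun p _ => Finset.sum_congr rfl fun i hi => ?_
    rw [(Finset.mem_filter.mp hi).2]
  simp only [mul_assoc, ← Finset.mul_sum]
  rw [← h1 fun p => ∑ q, (∑ i with c i = q, a i) * N q p]
  exact Finset.sum_congr rfl fun i _ => congrArg (a i * ·) (h1 fun q => N q (c i))

end form

/-! ### Application to vertical curves -/

variable {R : Type u} [CommRing R] [IsDomain R] [IsDiscreteValuationRing R]
  {X : Over (Spec (CommRingCat.of R))}

theorem inter_congr_left (hX : IsSurf X) (Δ : ArSurf.VertComp R X) {Γ Γ' : ArSurf.VertComp R X}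
    (h : Set.range Γ.ι.base = Set.range Γ'.ι.base) {L L' : X.left.Modules}
    (hL : ClSub.IsInverseOf L (ClSub.idealMod Γ.ι.ker)) (hL' : ClSub.IsInverseOf L' (ClSub.idealMod Γ'.ι.ker)) :
    ArSurf.inter R X L Δ = ArSurf.inter R X L' Δ := by
  rw [inter_eq_neg_ideg hX Δ (isEffCartierIdeal_ker hL) hL, inter_eq_neg_ideg hX Δ (isEffCartierIdeal_ker hL') hL',
    ker_eq_of_range_eq h]

theorem inter_eq_length_of_range_ne (hX : IsSurf X) {Γ Δ : ArSurf.VertComp R X}
    (hΔ : BlowUp.IsEffCartierIdeal Δ.ι.ker) (h : Set.range Δ.ι.base ≠ Set.range Γ.ι.base) {L : X.left.Modules}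
    (hL : ClSub.IsInverseOf L (ClSub.idealMod Γ.ι.ker)) :
    ArSurf.inter R X L Δ = (Models.lengthH R X (ClSub.quotMod (Γ.ι.ker ⊔ Δ.ι.ker)) 0 : ℤ) := by
  refine inter_eq_lengthH hX Δ (isEffCartierIdeal_ker hL) ?_ hL
  rw [coe_support_ker]
  exact genPtOf_notMem_range hX.pre hΔ (isEffCartierIdeal_ker hL) h

variable {T : Type*} [Fintype T] {Γ : T → ArSurf.VertComp R X} {L : T → X.left.Modules}

theorem inter_symm (hX : IsSurf X) (hinj : Function.Injective fun p => Set.range (Γ p).ι.base)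
    (hL : ∀ p, ClSub.IsInverseOf (L p) (ClSub.idealMod (Γ p).ι.ker)) (p q : T) :
    ArSurf.inter R X (L p) (Γ q) = ArSurf.inter R X (L q) (Γ p) := by
  rcases eq_or_ne p q with rfl | h
  · rfl
  · rw [inter_eq_length_of_range_ne hX (isEffCartierIdeal_ker (hL q)) (fun e => h (hinj e).symm) (hL p),
      inter_eq_length_of_range_ne hX (isEffCartierIdeal_ker (hL p)) (fun e => h (hinj e)) (hL q), sup_comm]

theorem inter_nonneg (hX : IsSurf X) (hinj : Function.Injective fun p => Set.range (Γ p).ι.base)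
    (hL : ∀ p, ClSub.IsInverseOf (L p) (ClSub.idealMod (Γ p).ι.ker)) (p q : T) (h : p ≠ q) :
    0 ≤ ArSurf.inter R X (L q) (Γ p) := by
  rw [inter_eq_length_of_range_ne hX (isEffCartierIdeal_ker (hL p)) (fun e => h (hinj e)) (hL q)]
  exact Nat.cast_nonneg _

/-- The positive weights coming from the closed fibre. -/
theorem exists_weights (hX : IsSurf X) (hinj : Function.Injective fun p => Set.range (Γ p).ι.base)
    (hL : ∀ p, ClSub.IsInverseOf (L p) (ClSub.idealMod (Γ p).ι.ker)) :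
    ∃ (a : T → ℕ) (Q : X.left.IdealSheafData), (∀ p, 0 < a p) ∧
      (∀ p, Models.genPtOf R X (Γ p) ∉ (Q.support : Set X.left)) ∧ BlowUp.IsEffCartierIdeal Q ∧
      (∀ Δ : ArSurf.VertComp R X, ∑ p, (a p : ℤ) * ArSurf.inter R X (L p) Δ = ideg Δ Q) ∧
      (∀ p, ∑ q, (a q : ℤ) * ArSurf.inter R X (L q) (Γ p) ≤ 0) ∧
      ((∀ x ∈ Models.specialFibreSet R X, ∃ p, x ∈ Set.range (Γ p).ι.base) →
        Q = ⊤ ∧ ∀ p, Models.mult R X (Γ p) = a p) := by
  obtain ⟨π, hπ⟩ := IsDiscreteValuationRing.exists_irreducible R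
  have hE := fun p => isEffCartierIdeal_ker (hL p)
  obtain ⟨a, Q, hZ, hQ, ha, hno⟩ := exists_decomp hX.pre hπ Γ hE hinj
  refine ⟨a, Q, ha, hno, hQ, sum_mul_inter hX hπ Γ L hL hZ hQ, fun p => ?_,
    fun hcov => ⟨eq_top_of_cover hX.pre hπ Γ hE hcov hZ hQ hno, mult_eq hX.pre hπ Γ hE hinj hZ hno⟩⟩
  rw [sum_mul_inter hX hπ Γ L hL hZ hQ, ideg_eq_neg_lengthH hX (Γ p) hQ (hno p)]
  exact neg_nonpos.mpr (Nat.cast_nonneg _)

/-- The self-intersection depends only on the set. -/
theorem inter_congr_right (hX : IsSurf X) (hinj : Function.Injective fun p => Set.range (Γ p).ι.base)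
    (hL : ∀ p, ClSub.IsInverseOf (L p) (ClSub.idealMod (Γ p).ι.ker)) (q : T) {Δ : ArSurf.VertComp R X} {p : T}
    (hΔ : Set.range Δ.ι.base = Set.range (Γ p).ι.base) :
    ArSurf.inter R X (L q) Δ = ArSurf.inter R X (L q) (Γ p) := by
  classical
  have hker := ker_eq_of_range_eq hΔ
  have hΔE : BlowUp.IsEffCartierIdeal Δ.ι.ker := hker ▸ isEffCartierIdeal_ker (hL p)
  have hne : ∀ r, r ≠ p → ArSurf.inter R X (L r) Δ = ArSurf.inter R X (L r) (Γ p) := fun r hr => by
    rw [inter_eq_length_of_range_ne hX hΔE (fun e => hr (hinj (hΔ.symm.trans e)).symm) (hL r),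
      inter_eq_length_of_range_ne hX (isEffCartierIdeal_ker (hL p)) (fun e => hr (hinj e).symm) (hL r), hker]
  obtain ⟨a, Q, ha, hno, hQ, hsum, -, -⟩ := exists_weights hX hinj hL
  rcases eq_or_ne q p with rfl | hqp
  · have hgen : Models.genPtOf R X Δ ∉ (Q.support : Set X.left) := fun hm => hno q (by
      have h1 : Models.genPtOf R X (Γ q) ∈ closure {Models.genPtOf R X Δ} := by
        rw [← range_eq_closure, hΔ]
        exact genPtOf_mem_range _
      exact Q.support.isClosed.closure_subset_iff.mpr (Set.singleton_subset_iff.mpr hm) h1)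
    have h1 := hsum Δ
    have h2 := hsum (Γ q)
    rw [ideg_eq_neg_lengthH hX Δ hQ hgen, hker, ← ideg_eq_neg_lengthH hX (Γ q) hQ (hno q), ← h2,
      ← Finset.add_sum_erase _ _ (Finset.mem_univ q), ← Finset.add_sum_erase _ _ (Finset.mem_univ q),
      Finset.sum_congr rfl fun r hr => by rw [hne r (Finset.ne_of_mem_erase hr)]] at h1
    exact mul_left_cancel₀ (Nat.cast_ne_zero.mpr (ha q).ne') (add_right_cancel h1)
  · exact hne q hqp

/-- A listing of the components covers the closed fibre. -/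
theorem cover_of_isComponentList {n : ℕ} {Γ : Fin n → ArSurf.VertComp R X} (hΓ : Models.IsComponentList R X Γ) :
    ∀ x ∈ Models.specialFibreSet R X, ∃ p, x ∈ Set.range (Γ p).ι.base := by
  intro x hx
  let F := Models.specialFibreSet R X
  let z : ↥F := ⟨x, hx⟩
  let S : Set X.left := Subtype.val '' irreducibleComponent z
  have hS : IsIrreducible S := isIrreducible_irreducibleComponent.image _ continuous_subtype_val.continuousOn
  have hSF : S ⊆ F := by
    rintro _ ⟨y, -, rfl⟩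
    exact y.2
  have hmax : S ∈ Models.fibreComponents R X := by
    refine ⟨⟨hS, hSF⟩, fun S' hS' hle => ?_⟩
    have hpre : IsPreirreducible ((Subtype.val : ↥F → X.left) ⁻¹' S') := by
      intro u v hu hv ⟨a, ha, hau⟩ ⟨b, hb, hbv⟩
      obtain ⟨u', hu', rfl⟩ := isOpen_induced_iff.mp hu
      obtain ⟨v', hv', rfl⟩ := isOpen_induced_iff.mp hv
      obtain ⟨c, hc, hcu, hcv⟩ := hS'.1.2 u' v' hu' hv' ⟨a.1, ha, hau⟩ ⟨b.1, hb, hbv⟩
      exact ⟨⟨c, hS'.2 hc⟩, hc, hcu, hcv⟩
    have heq := eq_irreducibleComponent hpre fun w hw => hle (Set.mem_image_of_mem _ hw)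
    intro c hc
    exact ⟨⟨c, hS'.2 hc⟩, heq.le hc, rfl⟩
  obtain ⟨p, hp⟩ := hΓ.2.ge hmax
  exact ⟨p, hp.ge ⟨z, mem_irreducibleComponent, rfl⟩⟩

end Groth.Agent.ArInter
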