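import Groth.Agent.Lib.ArInter.Euler
import Groth.Agent.Lib.ArInter.Form
import Groth.Agent.Lib.CurveCoh17.Section
import Groth.Agent.Lib.HensProper6.Fibres

/-!
# Constants on vertical divisors along a computation sequence
-/

set_option autoImplicit false
set_option linter.style.haveILetI false
set_option linter.unusedSectionVars false
set_option backward.isDefEq.respectTransparency false

universe u

open CategoryTheory CategoryTheory.Limits AlgebraicGeometry TopologicalSpace Opposite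

namespace Groth.Agent.ArInter

variable {R : Type u} [CommRing R] [IsDomain R] [IsDiscreteValuationRing R]
  {X : Over (Spec (CommRingCat.of R))}

/-- Functions on `Z + Γ` restrict injectively to `Z` when `Γ` meets `Z` positively. -/
theorem injective_inclusion_appTop (hX : IsSurf X) (Γ : ArSurf.VertComp R X) (hΓ : BlowUp.IsEffCartierIdeal Γ.ι.ker)
    {J : X.left.IdealSheafData} (hJ : BlowUp.IsEffCartierIdeal J) (hneg : ideg Γ J < 0)
    (hle : Γ.ι.ker * J ≤ J) :
    Function.Injective (Scheme.IdealSheafData.inclusion hle).appTop.hom := by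
  let k := IsLocalRing.ResidueField R
  haveI := isNoetherian_left hX.pre
  haveI : IsProper (Γ.curve.left ↘ Spec (CommRingCat.of k)) := isProper_curve hX Γ
  have hc := CurveAmple18.curveLike k Γ.curve.left Γ.dim_eq.le
  haveI := hc.noetherian
  obtain ⟨S, hS, ⟨e₁⟩, e₂, e₃, π, hπ, hπ₂, hπ₃⟩ := exists_quot_ses hΓ hJ
  have hN := PicLoc.isInvertible_pullback Γ.ι (M2.isInvertible_idealMod J hJ)
  obtain ⟨q⟩ := HilbRS3.nonempty_quotMod_ker Γ.ι
  let e : S.X₁ ≅ (Scheme.Modules.pushforward Γ.ι).obj ((Scheme.Modules.pullback Γ.ι).obj (ClSub.idealMod J)) :=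
    e₁ ≪≫ M2.tensorIso (Iso.refl _) q ≪≫ M2.tensorComm _ _ ≪≫
      AmpleFin18.projIso Γ.ι (ClSub.idealMod J) (Coh.structureModule Γ.curve.left) (M2.isInvertible_idealMod J hJ) ≪≫
      (Scheme.Modules.pushforward Γ.ι).mapIso (M2.tensorLUnit _)
  -- the kernel has no sections
  have h0 : Subsingleton (Coh.HH X.left S.X₁ 0) := by
    have hz : Subsingleton (Coh.HH Γ.curve.left ((Scheme.Modules.pullback Γ.ι).obj (ClSub.idealMod J)) 0) := by
      by_contra h
      exact absurd (hc.deg_nonneg (CurveCoh17.rkOne_of_invertible Γ.dim_eq.le hN)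
        (not_subsingleton_iff_nontrivial.mp h)).1 (not_le.mpr hneg)
    haveI := hz
    haveI : ((Scheme.Modules.pullback Γ.ι).obj (ClSub.idealMod J)).IsQuasicoherent := (Snapper.isCoh_of_isInvertible hN).1
    letI : Γ.curve.left.Over (Spec (CommRingCat.of R)) := ⟨Γ.ι ≫ X.hom⟩
    obtain ⟨q'⟩ := CurveCoh17.nonempty_hequiv_push R Γ.ι rfl ((Scheme.Modules.pullback Γ.ι).obj (ClSub.idealMod J)) 0
    exact ((CurveCoh17.hequiv R e 0).trans q').toEquiv.subsingleton
  let i := Scheme.IdealSheafData.inclusion hle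
  let ι' := (Γ.ι.ker * J).subschemeι
  have gen : ∀ (w : J.subscheme ⟶ X.left), w = J.subschemeι → ∃ e₃' : S.X₃ ≅
      (Scheme.Modules.pushforward w).obj (Coh.structureModule J.subscheme), π ≫ S.g ≫ e₃'.hom = ClSub.unitToPush w := by
    rintro w rfl
    exact ⟨e₃, hπ₃⟩
  obtain ⟨e₃', he₃'⟩ := gen (i ≫ ι') (Scheme.IdealSheafData.inclusion_subschemeι hle)
  let u : ClSub.quotMod (Γ.ι.ker * J) ⟶ (Scheme.Modules.pushforward (i ≫ ι')).obj (Coh.structureModule J.subscheme) :=
    (Scheme.Modules.pushforward ι').map (ClSub.unitToPush i) ≫ (Scheme.Modules.pushforwardComp i ι').hom.app _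
  have hu : ClSub.toSubscheme (Γ.ι.ker * J) ≫ u = ClSub.unitToPush (i ≫ ι') := by
    refine Scheme.Modules.hom_ext _ _ fun U => ?_
    ext s
    rfl
  haveI := hπ
  have hcomm : S.g ≫ e₃'.hom = e₂.hom ≫ u := by
    rw [← cancel_epi π, he₃', ← Category.assoc, hπ₂, hu]
  have hinj : Function.Injective (CurveCoh17.hmap R (e₂.hom ≫ u) 0) := by
    rw [← hcomm]
    refine (injective_iff_map_eq_zero _).mpr fun z hz => ?_
    rw [CurveCoh17.hmap_comp] at hz
    have hz' : CurveCoh17.hmap R S.g 0 z = 0 := (CurveCoh17.hequiv R e₃' 0).injective (hz.trans (map_zero _).symm)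
    obtain ⟨y, rfl⟩ := (CurveCoh17.exact_hmap_hmap R hS 0 z).mp hz'
    rw [Subsingleton.elim y 0, map_zero]
  intro s t hst
  let toHH : Γ((Γ.ι.ker * J).subscheme, ⊤) → Coh.HH X.left S.X₂ 0 := fun a =>
    (CurveCoh17.hequiv R e₂ 0).symm ((CurveCoh17.hh0 (ClSub.quotMod (Γ.ι.ker * J))).symm a)
  have hval : ∀ a, CurveCoh17.hh0 _ (CurveCoh17.hmap R (e₂.hom ≫ u) 0 (toHH a)) =
      (show Γ(J.subscheme, ⊤) from i.appTop a) := fun a => by
    rw [CurveCoh17.hmap_comp]
    refine (CurveCoh17.hh0_hmap R u _).trans ?_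
    show u.app ⊤ (CurveCoh17.hh0 _ ((CurveCoh17.hequiv R e₂ 0) (toHH a))) = _
    simp only [toHH, LinearEquiv.apply_symm_apply]
    rw [AddEquiv.apply_symm_apply]
    rfl
  have := hinj ((CurveCoh17.hh0 _).injective (((hval s).trans hst).trans (hval t).symm))
  exact (CurveCoh17.hh0 _).symm.injective ((CurveCoh17.hequiv R e₂ 0).symm.injective this)

theorem isField_appTop_of_injective {J K : X.left.IdealSheafData} (h : K ≤ J)
    (hJ : IsField Γ(J.subscheme, ⊤)) (hinj : Function.Injective (Scheme.IdealSheafData.inclusion h).appTop.hom)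
    (hK : Module.length R (Coh.HH X.left (ClSub.quotMod K) 0) ≠ ⊤) : IsField Γ(K.subscheme, ⊤) := by
  letI := hJ.toField
  haveI : IsDomain Γ(K.subscheme, ⊤) :=
    Function.Injective.isDomain (Scheme.IdealSheafData.inclusion h).appTop.hom hinj
  let φ : R →+* Γ(K.subscheme, ⊤) := K.subschemeι.appTop.hom.comp (Coh.toGlobal X.hom)
  letI : Algebra R Γ(K.subscheme, ⊤) := φ.toAlgebra
  let e : Coh.HH X.left (ClSub.quotMod K) 0 ≃ₗ[R] Γ(K.subscheme, ⊤) :=
    { toFun := fun x => CurveCoh17.hh0 (ClSub.quotMod K) x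
      invFun := fun x => (CurveCoh17.hh0 (ClSub.quotMod K)).symm x
      left_inv := fun x => (CurveCoh17.hh0 (ClSub.quotMod K)).symm_apply_apply x
      right_inv := fun x => (CurveCoh17.hh0 (ClSub.quotMod K)).apply_symm_apply x
      map_add' := fun x y => map_add _ x y
      map_smul' := fun r x => hh0_quotMod_smul (A := R) K r x }
  rw [e.length_eq, Module.length_ne_top_iff, isFiniteLength_iff_isNoetherian_isArtinian] at hK
  obtain ⟨-, hA⟩ := hK
  haveI : IsArtinianRing Γ(K.subscheme, ⊤) := isArtinian_of_tower R hA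
  exact IsArtinianRing.isField_of_isDomain _

/-- The first step: an integral component has a field of constants. -/
theorem isField_component (hX : IsSurf X) (Γ : ArSurf.VertComp R X) :
    IsField Γ(Γ.ι.ker.subscheme, ⊤) := by
  haveI : IsProper Γ.curve.hom := isProper_curve hX Γ
  letI : Algebra (IsLocalRing.ResidueField R) Γ(Γ.curve.left, ⊤) :=
    RingHom.toAlgebra (S := Γ(Γ.curve.left, ⊤)) (Coh.toGlobal Γ.curve.hom)
  haveI : Module.Finite (IsLocalRing.ResidueField R) Γ(Γ.curve.left, ⊤) := HensProper6.finite_toGlobal Γ.curve.hom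
  have hF : IsField Γ(Γ.curve.left, ⊤) := isField_of_isIntegral_of_isField' (Field.toIsField (IsLocalRing.ResidueField R))
  obtain ⟨e, -⟩ := HilbRS3.exists_iso_subscheme Γ.ι
  exact MulEquiv.isField hF (RingEquiv.ofBijective e.hom.appTop.hom
    (ConcreteCategory.bijective_of_isIso e.hom.appTop)).toMulEquiv

/-- Adding a component meeting positively keeps the constants a field. -/
theorem isField_mul_component (hX : IsSurf X) (Γ : ArSurf.VertComp R X) (hΓ : BlowUp.IsEffCartierIdeal Γ.ι.ker)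
    {J : X.left.IdealSheafData} (hJ : BlowUp.IsEffCartierIdeal J) (hneg : ideg Γ J < 0)
    (hfl : FinLen R (ClSub.quotMod J)) (hF : IsField Γ(J.subscheme, ⊤)) :
    IsField Γ((Γ.ι.ker * J).subscheme, ⊤) := by
  have hle : Γ.ι.ker * J ≤ J := fun U => by
    rw [Scheme.IdealSheafData.ideal_mul, Pi.mul_apply]
    exact Ideal.mul_le_right
  exact isField_appTop_of_injective hle hF (injective_inclusion_appTop hX Γ hΓ hJ hneg hle)
    (chiLen_mul_component hX Γ hΓ hJ hfl).1.1

section sequence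

variable {T : Type*} [Fintype T] (Γ : T → ArSurf.VertComp R X) (L : T → X.left.Modules)

/-- `Z · Γ_i`. -/
noncomputable def dot (a : T → ℕ) (i : T) : ℤ := ∑ j, (a j : ℤ) * ArSurf.inter R X (L j) (Γ i)

/-- Constants form a field. -/
def IsFieldDiv (a : T → ℕ) : Prop := IsField Γ((∏ j, (Γ j).ι.ker ^ a j).subscheme, ⊤)

theorem isFieldDiv_single (hX : IsSurf X) [DecidableEq T] (i : T) : IsFieldDiv Γ (Pi.single i 1) := by
  classical
  unfold IsFieldDiv
  have : (∏ j, (Γ j).ι.ker ^ (Pi.single i 1 : T → ℕ) j) = (Γ i).ι.ker := by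
    rw [Finset.prod_eq_single i (fun j _ hji => by rw [Pi.single_eq_of_ne hji, pow_zero])
      (fun h => absurd (Finset.mem_univ i) h), Pi.single_eq_same, pow_one]
  rw [this]
  exact isField_component hX (Γ i)

theorem isFieldDiv_add_single (hX : IsSurf X) [DecidableEq T]
    (hL : ∀ j, ClSub.IsInverseOf (L j) (ClSub.idealMod (Γ j).ι.ker)) {a : T → ℕ} (ha : IsFieldDiv Γ a) {i : T}
    (hpos : 0 < dot Γ L a i) : IsFieldDiv Γ (a + Pi.single i 1) := by
  classical
  have hE := fun j => isEffCartierIdeal_ker (hL j)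
  obtain ⟨hJ, hfl⟩ := finLen_finsetProd hX Γ hE a Finset.univ
  unfold IsFieldDiv
  have hprod : (∏ j, (Γ j).ι.ker ^ (a + Pi.single i 1 : T → ℕ) j) = (Γ i).ι.ker * ∏ j, (Γ j).ι.ker ^ a j := by
    simp only [Pi.add_apply, pow_add, Finset.prod_mul_distrib]
    rw [mul_comm, Finset.prod_eq_single i (fun j _ hji => by rw [Pi.single_eq_of_ne hji, pow_zero])
      (fun h => absurd (Finset.mem_univ i) h), Pi.single_eq_same, pow_one]
  rw [hprod]
  refine isField_mul_component hX (Γ i) (hE i) hJ ?_ hfl ha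
  rw [ideg_finsetProd hX (Γ i) (fun j => (Γ j).ι.ker) a hE]
  have : dot Γ L a i = -∑ j, (a j : ℤ) * ideg (Γ i) (Γ j).ι.ker := by
    rw [dot, ← Finset.sum_neg_distrib]
    exact Finset.sum_congr rfl fun j _ => by rw [inter_eq_neg_ideg hX (Γ i) (hE j) (hL j)]; ring
  rw [this] at hpos
  linarith

/-- One step of a computation sequence. -/
inductive Reach [DecidableEq T] (a₀ : T → ℕ) : (T → ℕ) → Prop
  | refl : Reach a₀ a₀
  | step {a : T → ℕ} (i : T) : Reach a₀ a → 0 < dot Γ L a i → Reach a₀ (a + Pi.single i 1)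

theorem Reach.isFieldDiv (hX : IsSurf X) [DecidableEq T]
    (hL : ∀ j, ClSub.IsInverseOf (L j) (ClSub.idealMod (Γ j).ι.ker)) {a₀ a : T → ℕ} (h₀ : IsFieldDiv Γ a₀)
    (h : Reach Γ L a₀ a) : IsFieldDiv Γ a := by
  induction h with
  | refl => exact h₀
  | step i _ hpos ih => exact isFieldDiv_add_single Γ L hX hL ih hpos

/-- If below `z` one can always go on unless finished, the sequence stops at a finished divisor. -/
theorem exists_reach [DecidableEq T] {a₀ z : T → ℕ} (h₀ : a₀ ≤ z) (Done : (T → ℕ) → Prop)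
    (hstep : ∀ a, a₀ ≤ a → a ≤ z → ¬ Done a → ∃ i, 0 < dot Γ L a i ∧ a i < z i) :
    ∃ a, Reach Γ L a₀ a ∧ a₀ ≤ a ∧ a ≤ z ∧ Done a := by
  have key : ∀ N a, Reach Γ L a₀ a → a₀ ≤ a → a ≤ z → ∑ j, (z j - a j) ≤ N →
      ∃ b, Reach Γ L a₀ b ∧ a₀ ≤ b ∧ b ≤ z ∧ Done b := by
    intro N
    induction N with
    | zero =>
      intro a hr h0 h1 hN
      refine ⟨a, hr, h0, h1, ?_⟩
      by_contra hd
      obtain ⟨i, -, hi⟩ := hstep a h0 h1 hd
      have h := (Finset.single_le_sum (f := fun j => z j - a j) (fun j _ => Nat.zero_le _) (Finset.mem_univ i)).trans hN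
      omega
    | succ N ih =>
      intro a hr h0 h1 hN
      by_cases hd : Done a
      · exact ⟨a, hr, h0, h1, hd⟩
      obtain ⟨i, hpos, hi⟩ := hstep a h0 h1 hd
      refine ih _ (hr.step i hpos) (h0.trans fun j => Nat.le_add_right _ _) (fun j => ?_) ?_
      · by_cases hji : j = i
        · subst hji; rw [Pi.add_apply, Pi.single_eq_same]; show a j + 1 ≤ z j; omega
        · rw [Pi.add_apply, Pi.single_eq_of_ne hji]; exact h1 j
      · have hlt : ∑ j, (z j - (a + Pi.single i 1 : T → ℕ) j) < ∑ j, (z j - a j) := by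
          refine Finset.sum_lt_sum (fun j _ => Nat.sub_le_sub_left (Nat.le_add_right _ _) _) ⟨i, Finset.mem_univ i, ?_⟩
          rw [Pi.add_apply, Pi.single_eq_same]
          omega
        omega
  exact key _ a₀ .refl le_rfl h₀ le_rfl

/-- Raising a coefficient changes `Z · Γ_i` monotonically in the other coefficients. -/
theorem dot_le_of_le {a z : T → ℕ} (h : a ≤ z) {i : T} (hi : a i = z i)
    (hoff : ∀ j, j ≠ i → 0 ≤ ArSurf.inter R X (L j) (Γ i)) : dot Γ L a i ≤ dot Γ L z i := by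
  refine Finset.sum_le_sum fun j _ => ?_
  by_cases hj : j = i
  · subst hj; rw [hi]
  · exact mul_le_mul_of_nonneg_right (by exact_mod_cast h j) (hoff j hj)

end sequence

end Groth.Agent.ArInter

namespace Groth.Agent.ArInter

variable {R : Type u} [CommRing R] [IsDomain R] [IsDiscreteValuationRing R]
  {X : Over (Spec (CommRingCat.of R))}

theorem inter_offDiag_nonneg (hX : IsSurf X) {T : Type*} {Γ : T → ArSurf.VertComp R X}
    (hinj : Function.Injective fun q => Set.range (Γ q).ι.base) {L : T → X.left.Modules}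
    (hL : ∀ j, ClSub.IsInverseOf (L j) (ClSub.idealMod (Γ j).ι.ker)) {i j : T} (hij : i ≠ j) :
    0 ≤ ArSurf.inter R X (L j) (Γ i) ∧
      (ArSurf.inter R X (L j) (Γ i) = 0 → Disjoint (Set.range (Γ i).ι.base) (Set.range (Γ j).ι.base)) := by
  have hE := fun q => isEffCartierIdeal_ker (hL q)
  have h := inter_nonneg_and_eq_zero_iff hX (Γ i) (hE j) (by
    rw [coe_support_ker]
    exact genPtOf_notMem_range hX.pre (hE i) (hE j) fun e => hij (hinj e)) (hL j)
  rw [coe_support_ker] at h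
  exact ⟨h.1, h.2.mp⟩

/-- In a connected family every proper nonempty subfamily meets its complement. -/
theorem exists_adjacent' (hX : IsSurf X) {T : Type*} [Fintype T] {Γ : T → ArSurf.VertComp R X}
    (hinj : Function.Injective fun q => Set.range (Γ q).ι.base) {L : T → X.left.Modules}
    (hL : ∀ j, ClSub.IsInverseOf (L j) (ClSub.idealMod (Γ j).ι.ker))
    (hconn : _root_.IsConnected (⋃ i, Set.range (Γ i).ι.base)) (P : T → Prop) {i₀ : T} (h₀ : P i₀) {j₀ : T}
    (h₁ : ¬ P j₀) : ∃ i j, P i ∧ ¬ P j ∧ 0 < ArSurf.inter R X (L i) (Γ j) := by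
  classical
  let A := ⋃ i ∈ {i | P i}, Set.range (Γ i).ι.base
  let B := ⋃ i ∈ {i | ¬ P i}, Set.range (Γ i).ι.base
  have hA : IsClosed A := (Set.toFinite _).isClosed_biUnion fun i _ => (Γ i).ι.isClosedEmbedding.isClosed_range
  have hB : IsClosed B := (Set.toFinite _).isClosed_biUnion fun i _ => (Γ i).ι.isClosedEmbedding.isClosed_range
  obtain ⟨x, -, hxA, hxB⟩ := isPreconnected_closed_iff.mp hconn.isPreconnected A B hA hB
    (fun x hx => by
      obtain ⟨i, hi⟩ := Set.mem_iUnion.mp hx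
      rcases em (P i) with h | h
      · exact Or.inl (Set.mem_biUnion (s := {i | P i}) h hi)
      · exact Or.inr (Set.mem_biUnion (s := {i | ¬ P i}) h hi))
    ⟨_, Set.mem_iUnion.mpr ⟨i₀, genPtOf_mem_range _⟩, Set.mem_biUnion (s := {i | P i}) h₀ (genPtOf_mem_range _)⟩
    ⟨_, Set.mem_iUnion.mpr ⟨j₀, genPtOf_mem_range _⟩, Set.mem_biUnion (s := {i | ¬ P i}) h₁ (genPtOf_mem_range _)⟩
  obtain ⟨i, hi, hxi⟩ := Set.mem_iUnion₂.mp hxA
  obtain ⟨j, hj, hxj⟩ := Set.mem_iUnion₂.mp hxB
  have hji : j ≠ i := fun h => hj (h ▸ hi)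
  obtain ⟨h1, h2⟩ := inter_offDiag_nonneg hX hinj hL hji
  exact ⟨i, j, hi, hj, lt_of_le_of_ne h1 fun h0 => Set.disjoint_left.mp (h2 h0.symm) hxj hxi⟩

/-- A nonzero finished divisor has full support. -/
theorem pos_of_dot_nonpos (hX : IsSurf X) {T : Type*} [Fintype T] {Γ : T → ArSurf.VertComp R X}
    (hinj : Function.Injective fun q => Set.range (Γ q).ι.base) {L : T → X.left.Modules}
    (hL : ∀ j, ClSub.IsInverseOf (L j) (ClSub.idealMod (Γ j).ι.ker))
    (hconn : _root_.IsConnected (⋃ i, Set.range (Γ i).ι.base)) {a : T → ℕ} {i₀ : T} (ha : a i₀ ≠ 0)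
    (hd : ∀ i, dot Γ L a i ≤ 0) (i : T) : 1 ≤ a i := by
  by_contra h
  obtain ⟨p, q, hp, hq, hpq⟩ := exists_adjacent' hX hinj hL hconn (fun j => a j ≠ 0) (i₀ := i₀) ha (j₀ := i) (by simp only [not_not]; omega)
  refine absurd (hd q) (not_le.mpr ?_)
  simp only [not_not] at hq
  refine lt_of_lt_of_le (mul_pos (by exact_mod_cast Nat.pos_of_ne_zero hp) hpq)
    (Finset.single_le_sum (f := fun j => (a j : ℤ) * ArSurf.inter R X (L j) (Γ q)) (fun j _ => ?_) (Finset.mem_univ p))
  by_cases hj : j = q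
  · subst hj; rw [hq, Nat.cast_zero, zero_mul]
  · exact mul_nonneg (Int.natCast_nonneg _) (inter_offDiag_nonneg hX hinj hL (Ne.symm hj)).1

end Groth.Agent.ArInter

namespace Groth.Agent.ArInter

variable {R : Type u} [CommRing R] [IsDomain R] [IsDiscreteValuationRing R]
  {X : Over (Spec (CommRingCat.of R))}

/-- Global functions on a vertical divisor are a finite module over the base. -/
theorem finite_toGlobal_of_finLen {K : X.left.IdealSheafData} (h : FinLen R (ClSub.quotMod K)) :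
    ((K.subschemeι ≫ X.hom).appTop.hom.comp (Scheme.ΓSpecIso (CommRingCat.of R)).inv.hom).Finite := by
  let φ : R →+* Γ(K.subscheme, ⊤) := K.subschemeι.appTop.hom.comp (Coh.toGlobal X.hom)
  have hφ : ((K.subschemeι ≫ X.hom).appTop.hom.comp (Scheme.ΓSpecIso (CommRingCat.of R)).inv.hom) = φ := rfl
  rw [hφ]
  letI : Algebra R Γ(K.subscheme, ⊤) := φ.toAlgebra
  let e : Coh.HH X.left (ClSub.quotMod K) 0 ≃ₗ[R] Γ(K.subscheme, ⊤) :=
    { toFun := fun x => CurveCoh17.hh0 (ClSub.quotMod K) x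
      invFun := fun x => (CurveCoh17.hh0 (ClSub.quotMod K)).symm x
      left_inv := fun x => (CurveCoh17.hh0 (ClSub.quotMod K)).symm_apply_apply x
      right_inv := fun x => (CurveCoh17.hh0 (ClSub.quotMod K)).apply_symm_apply x
      map_add' := fun x y => map_add _ x y
      map_smul' := fun r x => hh0_quotMod_smul (A := R) K r x }
  obtain ⟨hN, -⟩ := isFiniteLength_iff_isNoetherian_isArtinian.mp (Module.length_ne_top_iff.mp h.1)
  haveI := hN
  exact Module.Finite.equiv e

variable {T : Type*} [Fintype T] [DecidableEq T] {Γ : T → ArSurf.VertComp R X} {L : T → X.left.Modules}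

theorem Reach.trans {a b c : T → ℕ} (h : Reach Γ L a b) (h' : Reach Γ L b c) : Reach Γ L a c := by
  induction h' with
  | refl => exact h
  | step i _ hpos ih => exact ih.step i hpos

/-- A computation sequence as a list of divisors. -/
theorem Reach.exists_seq {a₀ a : T → ℕ} (h : Reach Γ L a₀ a) :
    ∃ (s : ℕ) (c : Fin (s + 1) → T → ℕ), c 0 = a₀ ∧ c (Fin.last s) = a ∧
      (∀ j : Fin s, ∃ i, c j.succ = c j.castSucc + Pi.single i 1) ∧ ∀ j, Reach Γ L a₀ (c j) := by
  induction h with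
  | refl => exact ⟨0, fun _ => a₀, rfl, rfl, fun j => j.elim0, fun _ => .refl⟩
  | @step b i hb hpos ih =>
    obtain ⟨s, c, h0, hl, hs, hr⟩ := ih
    refine ⟨s + 1, Fin.snoc c (b + Pi.single i 1), ?_, Fin.snoc_last _ _, fun j => ?_, fun j => ?_⟩
    · rw [← Fin.castSucc_zero, Fin.snoc_castSucc]; exact h0
    · refine Fin.lastCases ?_ (fun j => ?_) j
      · refine ⟨i, ?_⟩
        rw [Fin.succ_last, Fin.snoc_last, Fin.snoc_castSucc, hl]
      · obtain ⟨i', hi'⟩ := hs j
        exact ⟨i', by rw [Fin.succ_castSucc, Fin.snoc_castSucc, Fin.snoc_castSucc, hi']⟩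
    · refine Fin.lastCases ?_ (fun j => ?_) j
      · rw [Fin.snoc_last]; exact hb.step i hpos
      · rw [Fin.snoc_castSucc]; exact hr j

/-- From one component to the reduced divisor. -/
theorem reach_one (hX : IsSurf X) (hinj : Function.Injective fun q => Set.range (Γ q).ι.base)
    (hL : ∀ j, ClSub.IsInverseOf (L j) (ClSub.idealMod (Γ j).ι.ker))
    (hconn : _root_.IsConnected (⋃ i, Set.range (Γ i).ι.base)) (i₀ : T) :
    Reach Γ L (Pi.single i₀ 1) 1 := by
  have h₀ : (Pi.single i₀ 1 : T → ℕ) ≤ 1 := fun j => by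
    by_cases h : j = i₀
    · subst h; rw [Pi.single_eq_same]; exact le_rfl
    · rw [Pi.single_eq_of_ne h]; exact Nat.zero_le _
  obtain ⟨a, hr, -, ha1, hd⟩ := exists_reach Γ L h₀ (fun a => ∀ i, 1 ≤ a i) fun a ha0 _ hnd => by
    obtain ⟨q₀, hq₀⟩ := not_forall.mp hnd
    obtain ⟨p, q, hp, hq, hpq⟩ := exists_adjacent' hX hinj hL hconn (fun j => 1 ≤ a j) (i₀ := i₀)
      (show 1 ≤ a i₀ from (Pi.single_eq_same (M := fun _ => ℕ) i₀ 1).ge.trans (ha0 i₀)) (j₀ := q₀) hq₀
    have hq0 : a q = 0 := by omega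
    refine ⟨q, lt_of_lt_of_le (mul_pos (by exact_mod_cast (hp : 1 ≤ a p)) hpq)
      (Finset.single_le_sum (f := fun j => (a j : ℤ) * ArSurf.inter R X (L j) (Γ q)) (fun j _ => ?_)
        (Finset.mem_univ p)), by rw [hq0]; exact Nat.one_pos⟩
    by_cases hj : j = q
    · subst hj; rw [hq0, Nat.cast_zero, zero_mul]
    · exact mul_nonneg (Int.natCast_nonneg _) (inter_offDiag_nonneg hX hinj hL (Ne.symm hj)).1
  obtain rfl : a = 1 := le_antisymm ha1 hd
  exact hr

end Groth.Agent.ArInter
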