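import Groth.Agent.Lib.ArInter.Form
import Groth.Agent.Lib.HensProper6.Fibres
import Groth.Agent.S1684
import Groth.Agent.S2821
import Mathlib.AlgebraicGeometry.Morphisms.UniversallyOpen

/-!
# Regular models of curves
-/

set_option autoImplicit false
set_option linter.style.haveILetI false
set_option linter.unusedSectionVars false
set_option backward.isDefEq.respectTransparency false

universe u

open CategoryTheory CategoryTheory.Limits AlgebraicGeometry TopologicalSpace Opposite

namespace Groth.Agent.ArInter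

variable {R : Type u} [CommRing R] [IsDomain R] [IsDiscreteValuationRing R]
  {C X : Scheme.{u}} {f : C ⟶ Spec (CommRingCat.of (FractionRing R))} {p : X ⟶ Spec (CommRingCat.of R)}

theorem genericPoint_eq_image (hp : Flat p) (hlft : LocallyOfFiniteType p) [IsIntegral C] {g : C ⟶ X}
    (hg : IsPullback g f p (Spec.map (CommRingCat.ofHom (algebraMap R (FractionRing R))))) (x : X) :
    g.base (genericPoint C) ⤳ x := by
  haveI := hlft
  haveI : IsLocallyNoetherian X := LocallyOfFiniteType.isLocallyNoetherian p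
  obtain ⟨y, -, hyx, hmax⟩ := SecDiv.exists_maximal_generisation (⊥ : X.IdealSheafData) (z := x) (by rw [Scheme.IdealSheafData.support_bot]; trivial)
  let q₀ : PrimeSpectrum R := ⟨⊥, Ideal.isPrime_bot⟩
  have hq : (q₀ : Spec (CommRingCat.of R)) ⤳ p y :=
    (PrimeSpectrum.le_iff_specializes q₀ (p y)).mp bot_le
  haveI := hp
  obtain ⟨y', hy', hpy'⟩ := Flat.generalizingMap p hq
  obtain rfl : y' = y := hmax y' (by rw [Scheme.IdealSheafData.support_bot]; trivial) hy'
  obtain ⟨k⟩ := (inferInstance : Nonempty (Spec (CommRingCat.of (FractionRing R))))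
  have hk : (Spec.map (CommRingCat.ofHom (algebraMap R (FractionRing R)))) k = p y' := by
    rw [hpy']
    apply PrimeSpectrum.ext
    haveI := k.isPrime
    show Ideal.comap (algebraMap R (FractionRing R)) k.asIdeal = ⊥
    rw [(Ideal.eq_bot_or_top k.asIdeal).resolve_right (Ideal.IsPrime.ne_top inferInstance),
      ← RingHom.ker_eq_comap_bot, (RingHom.injective_iff_ker_eq_bot _).mp (IsFractionRing.injective R (FractionRing R))]
  obtain ⟨z, hz, -⟩ := Scheme.Pullback.exists_preimage_pullback (f := p)
    (g := Spec.map (CommRingCat.ofHom (algebraMap R (FractionRing R)))) y' k hk.symm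
  have hc : g (hg.isoPullback.inv z) = y' := by
    rw [← Scheme.Hom.comp_apply, IsPullback.isoPullback_inv_fst, hz]
  exact (hc ▸ ((genericPoint_spec C).specializes (y := hg.isoPullback.inv z) trivial).map g.continuous).trans hyx

theorem isIntegral_of_isModel (hC : Curve.IsSmoothProperCurve (FractionRing R) C f) (hX : Models.IsModel R X p C f)
    (hreg : Models.IsRegularScheme X) : IsIntegral X := by
  haveI := hC.2.2.1
  obtain ⟨hflat, hlft, -, g, hg⟩ := hX
  haveI : ∀ x : X, _root_.IsReduced (X.presheaf.stalk x) := fun x =>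
    haveI := hreg x
    haveI := RegLoc.isDomain (X.presheaf.stalk x)
    inferInstance
  haveI : AlgebraicGeometry.IsReduced X := isReduced_of_isReduced_stalk X
  have hgen : IsGenericPoint (g.base (genericPoint C)) (Set.univ : Set X) :=
    Set.eq_univ_of_forall fun x => specializes_iff_mem_closure.mp (genericPoint_eq_image hflat hlft hg x)
  haveI : IrreducibleSpace X :=
    (irreducibleSpace_def X).mpr hgen.isIrreducible
  exact isIntegral_of_irreducibleSpace_of_isReduced X

theorem isPre_of_isModel (hC : Curve.IsSmoothProperCurve (FractionRing R) C f) (hX : Models.IsModel R X p C f)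
    (hreg : Models.IsRegularScheme X) : IsPre (Over.mk p) :=
  ⟨hX.2.1, hX.2.2.1, isIntegral_of_isModel hC hX hreg, hX.1⟩

theorem isSurf_of_model (hC : Curve.IsSmoothProperCurve (FractionRing R) C f)
    (hX : Models.IsRegularProperModel R X p C f) : IsSurf (Over.mk p) :=
  ⟨hX.2.1, isIntegral_of_isModel hC hX.1 hX.2.2, hX.1.1⟩

theorem appTop_injective_of_generic [IsIntegral X] [IsIntegral C] (g : C ⟶ X)
    (h : ∀ x : X, g.base (genericPoint C) ⤳ x) : Function.Injective g.appTop.hom := by
  refine (injective_iff_map_eq_zero _).mpr fun a ha => ?_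
  by_contra hne
  obtain ⟨x, hx⟩ : (X.basicOpen a : Set X).Nonempty := by
    rw [Set.nonempty_iff_ne_empty]
    intro he
    exact hne ((basicOpen_eq_bot_iff a).mp (TopologicalSpace.Opens.ext he))
  have h1 : genericPoint C ∈ g ⁻¹ᵁ X.basicOpen a := (h x).mem_open (X.basicOpen a).isOpen hx
  rw [Scheme.preimage_basicOpen] at h1
  rw [show g.app ⊤ a = 0 from ha, Scheme.basicOpen_zero] at h1
  exact h1

theorem bijective_appTop (hC : Curve.IsSmoothProperCurve (FractionRing R) C f) (hH0 : IsIso f.appTop)
    (hX : Models.IsRegularProperModel R X p C f) : Function.Bijective p.appTop.hom := by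
  haveI := hC.2.2.1
  haveI := hX.2.1
  haveI := isIntegral_of_isModel hC hX.1 hX.2.2
  obtain ⟨hflat, hlft, -, g, hg⟩ := hX.1
  let φ : R →+* Γ(X, ⊤) := Coh.toGlobal p
  let ψ : FractionRing R →+* Γ(C, ⊤) := Coh.toGlobal f
  have hψ : Function.Bijective ψ :=
    (ConcreteCategory.bijective_of_isIso f.appTop).comp
      (ConcreteCategory.bijective_of_isIso (Scheme.ΓSpecIso (CommRingCat.of (FractionRing R))).inv)
  have hcomm : g.appTop.hom.comp φ = ψ.comp (algebraMap R (FractionRing R)) := by
    ext r
    have h2 := congrArg (fun π => ((Scheme.ΓSpecIso (CommRingCat.of R)).inv ≫ π.appTop).hom r) hg.w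
    simp only [Scheme.Hom.comp_appTop] at h2
    rw [← Scheme.ΓSpecIso_inv_naturality_assoc] at h2
    exact h2
  have hinj := appTop_injective_of_generic g (genericPoint_eq_image hflat hlft hg)
  let j : Γ(X, ⊤) →+* FractionRing R := ((RingEquiv.ofBijective ψ hψ).symm : _ →+* _).comp g.appTop.hom
  have hj : Function.Injective j := (RingEquiv.ofBijective ψ hψ).symm.injective.comp hinj
  have hjφ : j.comp φ = algebraMap R (FractionRing R) := by
    rw [RingHom.comp_assoc, hcomm]
    ext r
    exact (RingEquiv.ofBijective ψ hψ).symm_apply_apply _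
  have hφ : Function.Bijective φ := by
    refine ⟨fun a b hab => IsFractionRing.injective R (FractionRing R) ?_, fun a => ?_⟩
    · rw [← hjφ]
      exact congrArg j hab
    · letI := φ.toAlgebra
      haveI : Module.Finite R Γ(X, ⊤) := HensProper6.finite_toGlobal p
      let jA : Γ(X, ⊤) →ₐ[R] FractionRing R := { j with commutes' := RingHom.congr_fun hjφ }
      obtain ⟨r, hr⟩ := IsIntegrallyClosed.algebraMap_eq_of_integral
        ((IsIntegral.of_finite R a).map jA)
      exact ⟨r, hj (((RingHom.congr_fun hjφ r)).trans hr)⟩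
  have e : p.appTop.hom = φ.comp (Scheme.ΓSpecIso (CommRingCat.of R)).hom.hom := by
    ext r
    show _ = p.appTop ((Scheme.ΓSpecIso (CommRingCat.of R)).inv ((Scheme.ΓSpecIso (CommRingCat.of R)).hom r))
    exact congrArg p.appTop.hom ((Scheme.ΓSpecIso (CommRingCat.of R)).hom_inv_id_apply r).symm
  rw [e, RingHom.coe_comp]
  exact hφ.comp (ConcreteCategory.bijective_of_isIso (Scheme.ΓSpecIso (CommRingCat.of R)).hom)

/-- The special fibre of a regular proper model with `H⁰ = K` is connected. -/
theorem isConnected_specialFibreSet (hC : Curve.IsSmoothProperCurve (FractionRing R) C f) (hH0 : IsIso f.appTop)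
    (hX : Models.IsRegularProperModel R X p C f) :
    _root_.IsConnected (Models.specialFibreSet R (Over.mk p)) := by
  haveI := hX.2.1
  haveI := hC.2.2.1
  refine ⟨?_, HensProper6.isPreconnected_fibre p (bijective_appTop hC hH0 hX) (IsLocalRing.closedPoint R)⟩
  obtain ⟨-, -, -, g, -⟩ := hX.1
  let x : X := g.base (genericPoint C)
  have hcl : IsClosed (Set.range p.base) := p.isClosedMap.isClosed_range
  obtain ⟨z, hz⟩ := (IsLocalRing.specializes_closedPoint (R := R) (p x)).mem_closed hcl ⟨x, rfl⟩
  exact ⟨z, hz⟩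

/-! ### Components of the fibre -/

variable {Xo : Over (Spec (CommRingCat.of R))}

theorem isIntegral_subscheme_ker (Γ : ArSurf.VertComp R Xo) : IsIntegral Γ.ι.ker.subscheme := by
  haveI : Nonempty Γ.ι.ker.subscheme := ⟨Γ.ι.toImage (genericPoint Γ.curve.left)⟩
  exact isIntegral_of_isOpenImmersion (inv Γ.ι.toImage)

theorem isEffCartierIdeal_component (hX : IsPre Xo) (hreg : Models.IsRegularScheme Xo.left)
    {n : ℕ} {Γ : Fin n → ArSurf.VertComp R Xo} (hΓ : Models.IsComponentList R Xo Γ) (i : Fin n) :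
    BlowUp.IsEffCartierIdeal (Γ i).ι.ker := by
  haveI := isNoetherian_left hX
  haveI := isIntegral_subscheme_ker (Γ i)
  obtain ⟨π, hπ⟩ := IsDiscreteValuationRing.exists_irreducible R
  refine Groth.Agent.S1684.result Xo.left _ ?_ fun x _ => ?_
  · have hgen : ((Γ i).ι.ker.subschemeι) (genericPoint (Γ i).ι.ker.subscheme) = Models.genPtOf R Xo (Γ i) := by
      have h1 := ((genericPoint_spec (Γ i).ι.ker.subscheme).image (Γ i).ι.ker.subschemeι.continuous).def
      rw [Set.image_univ, Scheme.IdealSheafData.range_subschemeι, coe_support_ker, range_eq_closure, closure_closure] at h1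
      exact IsGenericPoint.eq (show IsGenericPoint _ _ from h1) rfl
    rw [hgen]
    refine SecDiv.ringKrullDim_generic (isEffCartierIdeal_fibreIdeal hX hπ.ne_zero)
      ((mem_support_fibreIdeal hπ _).mpr (genPtOf_mem_specialFibreSet _)) fun w hw hwy => ?_
    have hmax : Maximal (fun S : Set Xo.left => IsIrreducible S ∧ S ⊆ Models.specialFibreSet R Xo)
        (Set.range (Γ i).ι.base) := hΓ.2.le ⟨i, rfl⟩
    have hle : closure {w} ⊆ Models.specialFibreSet R Xo :=
      (Models.isClosed_specialFibreSet R Xo).closure_subset_iff.mpr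
        (Set.singleton_subset_iff.mpr ((mem_support_fibreIdeal hπ w).mp hw))
    have hsub : Set.range (Γ i).ι.base ⊆ closure {w} := by
      rw [range_eq_closure]
      exact isClosed_closure.closure_subset_iff.mpr (Set.singleton_subset_iff.mpr (specializes_iff_mem_closure.mp hwy))
    have := hmax.2 ⟨isIrreducible_singleton.closure, hle⟩ hsub (subset_closure rfl)
    rw [range_eq_closure, ← specializes_iff_mem_closure] at this
    exact (hwy.antisymm this).eq
  · haveI := hreg x
    exact Groth.Agent.S2821.result _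

theorem specialFibreIdeal_eq (π : R) (hπ : Irreducible π) : Models.specialFibreIdeal R Xo = fibreIdeal Xo π := by
  refine EffCartier.eq_of_forall_exists fun x => ?_
  obtain ⟨U, hU, hx⟩ := DivDesc12.exists_affine x
  refine ⟨⟨U, hU⟩, hx, ?_⟩
  rw [Models.specialFibreIdeal, EffCartier.comap_ideal _ Xo.hom ⟨⊤, isAffineOpen_top _⟩ ⟨U, hU⟩ le_top,
    ideal_fibreIdeal, Curv2.idealSheaf, Scheme.IdealSheafData.ofIdealTop_ideal,
    (IsDiscreteValuationRing.irreducible_iff_uniformizer π).mp hπ, Ideal.map_map, Ideal.map_map,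
    Ideal.map_span, Set.image_singleton]
  congr 2

/-- Some component inside a proper subfamily meets one outside. -/
theorem exists_adjacent (hX : IsSurf Xo) (hconn : _root_.IsConnected (Models.specialFibreSet R Xo)) {n : ℕ}
    {Γ : Fin n → ArSurf.VertComp R Xo} (hΓ : Models.IsComponentList R Xo Γ) {L : Fin n → Xo.left.Modules}
    (hL : ∀ i, ClSub.IsInverseOf (L i) (ClSub.idealMod (Γ i).ι.ker)) (I : Finset (Fin n)) (hI : I.Nonempty)
    (hI' : I ≠ Finset.univ) : ∃ i ∈ I, ∃ j ∉ I, ArSurf.inter R Xo (L j) (Γ i) ≠ 0 := by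
  let A := ⋃ i ∈ {i | i ∈ I}, Set.range (Γ i).ι.base
  let B := ⋃ i ∈ {i | i ∉ I}, Set.range (Γ i).ι.base
  have hA : IsClosed A := (Set.toFinite _).isClosed_biUnion fun i _ => (Γ i).ι.isClosedEmbedding.isClosed_range
  have hB : IsClosed B := (Set.toFinite _).isClosed_biUnion fun i _ => (Γ i).ι.isClosedEmbedding.isClosed_range
  obtain ⟨i₀, hi₀⟩ := hI
  obtain ⟨j₀, hj₀⟩ : ∃ j, j ∉ I := by
    by_contra h
    push Not at h
    exact hI' (Finset.eq_univ_of_forall h)
  obtain ⟨x, -, hxA, hxB⟩ := isPreconnected_closed_iff.mp hconn.isPreconnected A B hA hB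
    (fun x hx => by
      obtain ⟨i, hi⟩ := cover_of_isComponentList hΓ x hx
      rcases em (i ∈ I) with h | h
      · exact Or.inl (Set.mem_biUnion (s := {i | i ∈ I}) h hi)
      · exact Or.inr (Set.mem_biUnion (s := {i | i ∉ I}) h hi))
    ⟨_, genPtOf_mem_specialFibreSet (Γ i₀), Set.mem_biUnion (s := {i | i ∈ I}) hi₀ (genPtOf_mem_range _)⟩
    ⟨_, genPtOf_mem_specialFibreSet (Γ j₀), Set.mem_biUnion (s := {i | i ∉ I}) hj₀ (genPtOf_mem_range _)⟩
  obtain ⟨i, hi, hxi⟩ := Set.mem_iUnion₂.mp hxA
  obtain ⟨j, hj, hxj⟩ := Set.mem_iUnion₂.mp hxB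
  refine ⟨i, hi, j, hj, fun h0 => ?_⟩
  have hij : i ≠ j := fun h => hj (h ▸ hi)
  have hgen : Models.genPtOf R Xo (Γ i) ∉ ((Γ j).ι.ker.support : Set Xo.left) := by
    rw [coe_support_ker]
    exact genPtOf_notMem_range hX.pre (isEffCartierIdeal_ker (hL i)) (isEffCartierIdeal_ker (hL j))
      fun e => hij (hΓ.1 e)
  have hdisj := (inter_nonneg_and_eq_zero_iff hX (Γ i) (isEffCartierIdeal_ker (hL j)) hgen (hL j)).2.mp h0
  rw [coe_support_ker] at hdisj
  exact Set.disjoint_left.mp hdisj hxi hxj

end Groth.Agent.ArInter
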