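import Groth.Agent.Lib.ArInter.Chain
import Groth.Agent.Lib.ArInter.Model
import Groth.Agent.Lib.TensorMod.Dual

/-!
# The chain from the reduced fibre for a regular surface with connected fibre
-/

set_option autoImplicit false
set_option linter.style.haveILetI false
set_option linter.unusedSectionVars false
set_option backward.isDefEq.respectTransparency false

universe u

open CategoryTheory CategoryTheory.Limits AlgebraicGeometry TopologicalSpace Opposite

namespace Groth.Agent.ArInter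

variable {R : Type u} [CommRing R] [IsDomain R] [IsDiscreteValuationRing R]
  {X : Over (Spec (CommRingCat.of R))}

/-- Chains from a component to `Σ (m_i / d) Γ_i`. -/
theorem exists_chain_of_connected (hS : IsSurf X) (hreg : Models.IsRegularScheme X.left)
    (hconn0 : _root_.IsConnected (Models.specialFibreSet R X))
    {n : ℕ} (Γ : Fin n → ArSurf.VertComp R X) (hΓ : Models.IsComponentList R X Γ) :
    ∃ (L : Fin n → X.left.Modules) (D : Fin n → ℕ) (i₀ : Fin n),
      (∀ i, Models.mult R X (Γ i) = Models.multGcd R X Γ * D i) ∧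
      (D = fun i => Models.mult R X (Γ i) / Models.multGcd R X Γ) ∧
      (∀ i, ClSub.IsInverseOf (L i) (ClSub.idealMod (Γ i).ι.ker)) ∧
      Reach Γ L (Pi.single i₀ 1) 1 ∧ Reach Γ L 1 D := by
  classical
  have hE := fun i => isEffCartierIdeal_component hS.pre hreg hΓ i
  let L : Fin n → X.left.Modules := fun i => M2.dualMod (ClSub.idealMod (Γ i).ι.ker)
  have hL : ∀ i, ClSub.IsInverseOf (L i) (ClSub.idealMod (Γ i).ι.ker) :=
    fun i => ⟨M2.dualTensorIso (M2.isInvertible_idealMod _ (hE i))⟩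
  have hU : (⋃ i, Set.range (Γ i).ι.base) = Models.specialFibreSet R X := by
    refine Set.Subset.antisymm (Set.iUnion_subset fun i => ?_) fun x hx =>
      Set.mem_iUnion.mpr (cover_of_isComponentList hΓ x hx)
    exact ((hΓ.2.le ⟨i, rfl⟩ : Set.range (Γ i).ι.base ∈ Models.fibreComponents R X)).1.2
  have hconn : _root_.IsConnected (⋃ i, Set.range (Γ i).ι.base) := hU ▸ hconn0
  obtain ⟨x, hx⟩ := hconn0.nonempty
  obtain ⟨i₀, -⟩ := cover_of_isComponentList hΓ x hx
  let d := Models.multGcd R X Γ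
  let m := fun i => Models.mult R X (Γ i)
  obtain ⟨w, Q, hwpos, -, -, hsum, -, hc⟩ := exists_weights hS hΓ.1 hL
  obtain ⟨rfl, hm⟩ := hc (cover_of_isComponentList hΓ)
  have hmpos : ∀ i, 0 < m i := fun i => (hwpos i).trans_eq (hm i).symm
  have hker : ∀ Δ, ∑ j, (m j : ℤ) * ArSurf.inter R X (L j) Δ = 0 := fun Δ => by
    simp only [m, hm]
    exact (hsum Δ).trans (ideg_top hS Δ)
  have hdiv : ∀ i, d ∣ m i := fun i => Finset.gcd_dvd (Finset.mem_univ i)
  have hd : 0 < d := Nat.pos_of_dvd_of_pos (hdiv i₀) (hmpos i₀)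
  let D : Fin n → ℕ := fun i => m i / d
  have hmD : ∀ i, m i = d * D i := fun i => (Nat.mul_div_cancel' (hdiv i)).symm
  refine ⟨L, D, i₀, hmD, rfl, hL, reach_one hS hΓ.1 hL hconn i₀, ?_⟩
  have hkerD : ∀ i, dot Γ L D i = 0 := fun i => by
    have h := hker (Γ i)
    simp only [hmD, Nat.cast_mul, mul_assoc, ← Finset.mul_sum] at h
    exact (mul_eq_zero.mp h).resolve_left (by exact_mod_cast hd.ne')
  obtain ⟨a, hr, ha1, haD, hfin⟩ := exists_reach Γ L (a₀ := 1) (z := D)
    (fun i => Nat.div_pos (Nat.le_of_dvd (hmpos i) (hdiv i)) hd)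
    (fun a => ∀ i, dot Γ L a i ≤ 0) fun a _ haz hnd => by
      obtain ⟨i, hi⟩ := not_forall.mp hnd
      refine ⟨i, not_le.mp hi, lt_of_le_of_ne (haz i) fun he => hi ?_⟩
      exact (dot_le_of_le Γ L haz he fun j hj =>
        (inter_offDiag_nonneg hS hΓ.1 hL (Ne.symm hj)).1).trans (hkerD i).le
  suffices a = D by exact this ▸ hr
  -- all intersection numbers of `a` vanish
  have htot : ∑ i, (m i : ℤ) * dot Γ L a i = 0 := by
    simp only [dot, Finset.mul_sum]
    rw [Finset.sum_comm]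
    refine Finset.sum_eq_zero fun j _ => ?_
    calc ∑ i, (m i : ℤ) * ((a j : ℤ) * ArSurf.inter R X (L j) (Γ i))
        = (a j : ℤ) * ∑ i, (m i : ℤ) * ArSurf.inter R X (L i) (Γ j) := by
          rw [Finset.mul_sum]
          exact Finset.sum_congr rfl fun i _ => by rw [inter_symm hS hΓ.1 hL i j]; ring
      _ = 0 := by rw [hker, mul_zero]
  have hzero : ∀ i, dot Γ L a i = 0 := fun i => by
    have h := (Finset.sum_eq_zero_iff_of_nonpos (fun j _ => mul_nonpos_of_nonneg_of_nonpos
      (Int.natCast_nonneg _) (hfin j))).mp htot i (Finset.mem_univ i)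
    exact (mul_eq_zero.mp h).resolve_left (by exact_mod_cast (hmpos i).ne')
  obtain ⟨c, hcc⟩ : ∃ c : ℚ, ∀ i, (a i : ℚ) = c * (Models.mult R X (Γ i) : ℚ) := by
    refine ⟨(a i₀ : ℚ) / w i₀, fun i => ?_⟩
    suffices h : (a i : ℚ) / w i = (a i₀ : ℚ) / w i₀ by
      rw [hm i, ← h]
      exact (div_mul_cancel₀ _ (Nat.cast_ne_zero.mpr (hwpos i).ne')).symm
    by_contra hi
    obtain ⟨p', hp', q', hq', hne⟩ := exists_adjacent hS hconn0 hΓ hL
      (Finset.univ.filter fun j => (a j : ℚ) / w j = (a i₀ : ℚ) / w i₀) ⟨i₀, by simp⟩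
      (fun h => hi (Finset.filter_eq_self.mp h i (Finset.mem_univ i)))
    simp only [Finset.mem_filter, Finset.mem_univ, true_and] at hp' hq'
    exact hq' ((eq_of_kernel (fun j i => (ArSurf.inter R X (L j) (Γ i) : ℚ)) (fun j => (w j : ℚ))
      (fun j => Nat.cast_pos.mpr (hwpos j)) (fun i j h => Int.cast_nonneg (inter_nonneg hS hΓ.1 hL i j h))
      (fun i j => Int.cast_inj.mpr (inter_symm hS hΓ.1 hL i j))
      (fun i => by
        have h := congrArg (fun z : ℤ => (z : ℚ)) ((hsum (Γ i)).trans (ideg_top hS (Γ i)))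
        push_cast at h
        exact h)
      (fun j => (a j : ℚ))
      (fun i => by
        have h := congrArg (fun z : ℤ => (z : ℚ)) (hzero i)
        simp only [dot] at h
        push_cast at h
        exact h)
      (Int.cast_ne_zero.mpr hne)).symm.trans hp')
  obtain ⟨g, hg⟩ := Finset.gcd_eq_sum_mul (R := ℤ) Finset.univ fun i => (D i : ℤ)
  have hgD : Finset.univ.gcd (fun i => (D i : ℤ)) = 1 := by
    have h1 : Finset.univ.gcd D = 1 :=
      Finset.gcd_div_eq_one (f := m) (Finset.mem_univ i₀) (hmpos i₀).ne'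
    have hnn : 0 ≤ Finset.univ.gcd fun i => (D i : ℤ) := Int.nonneg_of_normalize_eq_self Finset.normalize_gcd
    have h2 : ∀ i, (Finset.univ.gcd fun i => (D i : ℤ)).natAbs ∣ D i := fun i =>
      Int.natCast_dvd_natCast.mp ((Int.natAbs_dvd.mpr (Finset.gcd_dvd (Finset.mem_univ i))))
    have h3 : (Finset.univ.gcd fun i => (D i : ℤ)).natAbs ∣ 1 := h1 ▸ Finset.dvd_gcd fun i _ => h2 i
    have h4 := Nat.dvd_one.mp h3
    omega
  rw [hgD] at hg
  have hk : c * d = ((∑ i, (a i : ℤ) * g i : ℤ) : ℚ) := by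
    push_cast
    have : ∀ i, (a i : ℚ) * (g i : ℚ) = c * d * ((D i : ℚ) * g i) := fun i => by
      have h := hcc i
      rw [show (Models.mult R X (Γ i) : ℚ) = (d : ℚ) * D i by exact_mod_cast hmD i] at h
      rw [h]; ring
    rw [Finset.sum_congr rfl fun i _ => this i, ← Finset.mul_sum]
    have hg' : (∑ i, (D i : ℚ) * g i) = 1 := by exact_mod_cast hg.symm
    rw [hg', mul_one]
  have hak : ∀ i, (a i : ℤ) = (∑ j, (a j : ℤ) * g j) * D i := fun i => by
    have h := hcc i
    rw [show (Models.mult R X (Γ i) : ℚ) = (d : ℚ) * D i by exact_mod_cast hmD i, ← mul_assoc, hk] at h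
    exact_mod_cast h
  have h1 : (∑ j, (a j : ℤ) * g j) = 1 := by
    have hl := ha1 i₀
    have hu := haD i₀
    have hDpos : 1 ≤ D i₀ := Nat.div_pos (Nat.le_of_dvd (hmpos i₀) (hdiv i₀)) hd
    have h := hak i₀
    have hl' : (1 : ℤ) ≤ a i₀ := by exact_mod_cast (show 1 ≤ a i₀ from hl)
    have hu' : (a i₀ : ℤ) ≤ D i₀ := by exact_mod_cast hu
    nlinarith
  funext i
  have := hak i
  rw [h1, one_mul] at this
  exact_mod_cast this

/-- With coprime multiplicities the constants of the closed fibre form a field. -/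
theorem isField_fibre (hS : IsSurf X) (hreg : Models.IsRegularScheme X.left)
    (hconn0 : _root_.IsConnected (Models.specialFibreSet R X))
    {n : ℕ} (Γ : Fin n → ArSurf.VertComp R X) (hΓ : Models.IsComponentList R X Γ)
    (hgcd : Models.multGcd R X Γ = 1) {π : R} (hπ : Irreducible π) :
    IsField Γ((fibreIdeal X π).subscheme, ⊤) := by
  obtain ⟨L, D, i₀, hmD, -, hL, hr₀, hr⟩ := exists_chain_of_connected hS hreg hconn0 Γ hΓ
  have hE := fun i => isEffCartierIdeal_component hS.pre hreg hΓ i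
  obtain ⟨a, Q, hZ, hQ, -, hno⟩ := exists_decomp hS.pre hπ Γ hE hΓ.1
  obtain rfl := eq_top_of_cover hS.pre hπ Γ hE (cover_of_isComponentList hΓ) hZ hQ hno
  have hK : fibreIdeal X π = ∏ j, (Γ j).ι.ker ^ D j := by
    rw [hZ, Finset.prod_congr rfl fun j _ => by
      rw [← mult_eq hS.pre hπ Γ hE hΓ.1 hZ hno j, hmD j, hgcd, one_mul], ← Scheme.IdealSheafData.one_eq_top, mul_one]
  rw [hK]
  exact (hr₀.trans hr).isFieldDiv Γ L hS hL (isFieldDiv_single Γ hS i₀)

theorem finLen_fibre (hS : IsSurf X) (hreg : Models.IsRegularScheme X.left)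
    {n : ℕ} (Γ : Fin n → ArSurf.VertComp R X) (hΓ : Models.IsComponentList R X Γ) {π : R} (hπ : Irreducible π) :
    FinLen R (ClSub.quotMod (fibreIdeal X π)) := by
  have hE := fun i => isEffCartierIdeal_component hS.pre hreg hΓ i
  obtain ⟨a, Q, hZ, hQ, -, hno⟩ := exists_decomp hS.pre hπ Γ hE hΓ.1
  obtain rfl := eq_top_of_cover hS.pre hπ Γ hE (cover_of_isComponentList hΓ) hZ hQ hno
  rw [hZ, ← Scheme.IdealSheafData.one_eq_top, mul_one]
  exact (finLen_finsetProd hS Γ hE a Finset.univ).2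

end Groth.Agent.ArInter
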