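import Groth.Agent.Lib.ArInter.ChainGen
import Groth.Agent.Lib.AmpleFin18.Curves

/-!
# The components of the closed fibre form a component list
-/

set_option autoImplicit false
set_option linter.style.haveILetI false
set_option linter.unusedSectionVars false
set_option backward.isDefEq.respectTransparency false

universe u

open CategoryTheory CategoryTheory.Limits AlgebraicGeometry TopologicalSpace Opposite

namespace Groth.Agent.ArInter

variable {R : Type u} [CommRing R] [IsDomain R] [IsDiscreteValuationRing R]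
  {X : Over (Spec (CommRingCat.of R))}

theorem toSpecΓ_comp_map {Z : Scheme.{u}} (q : Z ⟶ Spec (CommRingCat.of R)) :
    Z.toSpecΓ ≫ Spec.map ((Scheme.ΓSpecIso (CommRingCat.of R)).inv ≫ q.appTop) = q := by
  rw [Spec.map_comp, ← Category.assoc, ← Scheme.toSpecΓ_naturality, Category.assoc,
    toSpecΓ_SpecMap_ΓSpecIso_inv, Category.comp_id]

theorem finite_fibreComponents (hX : IsPre X) : (Models.fibreComponents R X).Finite := by
  haveI := isNoetherian_left hX
  let F := Models.specialFibreSet R X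
  refine ((NoetherianSpace.finite_irreducibleComponents (α := ↥F)).image fun S => Subtype.val '' S).subset ?_
  intro S hS
  obtain ⟨⟨hSi, hSF⟩, hmax⟩ := hS
  have hpre : IsIrreducible ((Subtype.val : ↥F → X.left) ⁻¹' S) := by
    obtain ⟨a, ha⟩ := hSi.1
    refine ⟨⟨⟨a, hSF ha⟩, ha⟩, fun u v hu hv ⟨a, ha, hau⟩ ⟨b, hb, hbv⟩ => ?_⟩
    obtain ⟨u', hu', rfl⟩ := isOpen_induced_iff.mp hu
    obtain ⟨v', hv', rfl⟩ := isOpen_induced_iff.mp hv
    obtain ⟨c, hc, hcu, hcv⟩ := hSi.2 u' v' hu' hv' ⟨a.1, ha, hau⟩ ⟨b.1, hb, hbv⟩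
    exact ⟨⟨c, hSF hc⟩, hc, hcu, hcv⟩
  refine ⟨(Subtype.val : ↥F → X.left) ⁻¹' S, ⟨hpre, fun T hT hle => ?_⟩, ?_⟩
  · intro c hc
    exact hmax ⟨hT.image _ continuous_subtype_val.continuousOn, by rintro _ ⟨y, -, rfl⟩; exact y.2⟩
      (fun s hs => ⟨⟨s, hSF hs⟩, hle hs, rfl⟩) ⟨c, hc, rfl⟩
  · show Subtype.val '' (Subtype.val ⁻¹' S) = S
    rw [Subtype.image_preimage_coe]
    exact Set.inter_eq_right.mpr hSF

theorem isClosed_of_mem_fibreComponents {Z : Set X.left} (hZ : Z ∈ Models.fibreComponents R X) : IsClosed Z :=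
  closure_subset_iff_isClosed.mp (hZ.2 ⟨hZ.1.1.closure,
    closure_minimal hZ.1.2 (Models.isClosed_specialFibreSet R X)⟩ subset_closure)

/-- A component of the fibre is not a point. -/
theorem not_subsingleton_component (hS : IsSurf X) (hdim : topologicalKrullDim X.left = 2)
    (hconn : _root_.IsConnected (Models.specialFibreSet R X))
    {Z : Set X.left} (hZ : Z ∈ Models.fibreComponents R X) {z : X.left} (hz : Z = {z}) : False := by
  haveI := isNoetherian_left hS.pre
  haveI := hS.proper
  obtain ⟨π, hπ⟩ := IsDiscreteValuationRing.exists_irreducible R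
  have hzF : z ∈ Models.specialFibreSet R X := hZ.1.2 (hz ▸ rfl)
  have hzc : IsClosed ({z} : Set X.left) := hz ▸ isClosed_of_mem_fibreComponents hZ
  -- the other components are away from `z`
  let 𝒵 := {W ∈ Models.fibreComponents R X | W ≠ {z}}
  have h𝒵 : IsClosed (⋃ W ∈ 𝒵, W) := ((finite_fibreComponents hS.pre).subset fun W hW => hW.1).isClosed_biUnion
    fun W hW => isClosed_of_mem_fibreComponents hW.1
  have hnot : z ∉ ⋃ W ∈ 𝒵, W := by
    intro h
    obtain ⟨W, hW, hzW⟩ := Set.mem_iUnion₂.mp h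
    refine hW.2 (Set.Subset.antisymm ?_ (Set.singleton_subset_iff.mpr hzW))
    exact (hz ▸ hZ).2 hW.1.1 (Set.singleton_subset_iff.mpr hzW)
  have hcover : ∀ x ∈ Models.specialFibreSet R X, x = z ∨ x ∈ ⋃ W ∈ 𝒵, W := fun x hx => by
    haveI := isNoetherian_left hS.pre
    let F := Models.specialFibreSet R X
    let S : Set X.left := Subtype.val '' irreducibleComponent (⟨x, hx⟩ : ↥F)
    have hxS : x ∈ S := ⟨⟨x, hx⟩, mem_irreducibleComponent, rfl⟩
    have hSm : S ∈ Models.fibreComponents R X := by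
      refine ⟨⟨isIrreducible_irreducibleComponent.image _ continuous_subtype_val.continuousOn,
        by rintro _ ⟨y, -, rfl⟩; exact y.2⟩, fun S' hS' hle => ?_⟩
      have hpre : IsPreirreducible ((Subtype.val : ↥F → X.left) ⁻¹' S') := by
        intro u v hu hv ⟨a, ha, hau⟩ ⟨b, hb, hbv⟩
        obtain ⟨u', hu', rfl⟩ := isOpen_induced_iff.mp hu
        obtain ⟨v', hv', rfl⟩ := isOpen_induced_iff.mp hv
        obtain ⟨c, hc, hcu, hcv⟩ := hS'.1.2 u' v' hu' hv' ⟨a.1, ha, hau⟩ ⟨b.1, hb, hbv⟩
        exact ⟨⟨c, hS'.2 hc⟩, hc, hcu, hcv⟩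
      have heq := eq_irreducibleComponent hpre fun w hw => hle (Set.mem_image_of_mem _ hw)
      intro c hc
      exact ⟨⟨c, hS'.2 hc⟩, heq.le hc, rfl⟩
    rcases eq_or_ne S {z} with h | h
    · exact Or.inl (h ▸ hxS : x ∈ ({z} : Set X.left))
    · exact Or.inr (Set.mem_biUnion (⟨hSm, h⟩ : S ∈ 𝒵) hxS)
  have honly : ∀ x ∈ Models.specialFibreSet R X, x = z := by
    intro x hx
    refine (hcover x hx).resolve_right fun h => ?_
    obtain ⟨y, -, hy1, hy2⟩ := isPreconnected_closed_iff.mp hconn.isPreconnected {z} _ hzc h𝒵 hcover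
      ⟨z, hzF, rfl⟩ ⟨x, hx, h⟩
    exact hnot (hy1 ▸ hy2)
  -- every point specialises to `z`
  have hspec : ∀ x : X.left, x ⤳ z := fun x => by
    have hc : IsClosed (X.hom '' closure {x}) := X.hom.isClosedMap _ isClosed_closure
    have hmem : IsLocalRing.closedPoint R ∈ X.hom '' closure {x} :=
      ((IsLocalRing.specializes_closedPoint (X.hom x)).mem_closed hc ⟨x, subset_closure rfl, rfl⟩)
    obtain ⟨y, hy, hy'⟩ := hmem
    exact honly y hy' ▸ specializes_iff_mem_closure.mpr hy
  have h1 : ringKrullDim (X.left.presheaf.stalk z) = 1 :=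
    SecDiv.ringKrullDim_generic (isEffCartierIdeal_fibreIdeal hS.pre hπ.ne_zero)
      ((mem_support_fibreIdeal hπ z).mpr hzF) fun w hw _ => honly w ((mem_support_fibreIdeal hπ w).mp hw)
  have hsurj : Function.Surjective (X.left.fromSpecStalk z) := fun x => by
    have : x ∈ Set.range (X.left.fromSpecStalk z) := by
      rw [Scheme.range_fromSpecStalk]
      exact hspec x
    exact this
  have h2 := IsHomeomorph.topologicalKrullDim_eq _
    (isHomeomorph_iff_isEmbedding_surjective.mpr ⟨(X.left.fromSpecStalk z).isEmbedding, hsurj⟩)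
  rw [hdim] at h2
  have h3 : topologicalKrullDim (Spec (X.left.presheaf.stalk z)) = ringKrullDim (X.left.presheaf.stalk z) :=
    PrimeSpectrum.topologicalKrullDim_eq_ringKrullDim _
  rw [h3, h1] at h2
  exact absurd h2 (by decide)

theorem dim_component (hS : IsSurf X) (hdim : topologicalKrullDim X.left = 2)
    (hconn : _root_.IsConnected (Models.specialFibreSet R X))
    {Z : Set X.left} (hZ : Z ∈ Models.fibreComponents R X) : topologicalKrullDim Z = 1 := by
  haveI := isNoetherian_left hS.pre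
  haveI := hS.integral
  have hc := isClosed_of_mem_fibreComponents hZ
  let top : IrreducibleCloseds X.left := ⟨Set.univ, IrreducibleSpace.isIrreducible_univ _, isClosed_univ⟩
  let up : IrreducibleCloseds Z → IrreducibleCloseds X.left := fun s =>
    ⟨Subtype.val '' (s : Set Z), s.isIrreducible.image _ continuous_subtype_val.continuousOn,
      hc.isClosedEmbedding_subtypeVal.isClosedMap _ s.isClosed⟩
  have hup : StrictMono up := fun s t h => by
    exact Subtype.val_injective.image_strictMono h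
  have hne : Z ≠ Set.univ := fun h => by
    obtain ⟨π, hπ⟩ := IsDiscreteValuationRing.exists_irreducible R
    obtain ⟨U, hU, hx⟩ := DivDesc12.exists_affine (genericPoint X.left)
    have hη : genericPoint X.left ∈ Models.specialFibreSet R X := hZ.1.2 (h ▸ trivial)
    rw [← mem_support_fibreIdeal hπ, Scheme.IdealSheafData.mem_support_iff_of_mem (U := ⟨U, hU⟩) hx,
      ideal_fibreIdeal, Scheme.zeroLocus_span, Scheme.mem_zeroLocus_iff] at hη
    haveI : Nonempty U := ⟨⟨_, hx⟩⟩
    refine glob_res_ne_zero hS.pre hπ.ne_zero U ((basicOpen_eq_bot_iff _).mp ?_)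
    by_contra hb
    exact hη _ rfl (((genericPoint_spec X.left).mem_open_set_iff (X.left.basicOpen _).2).mpr
      (by rw [Set.univ_inter]; exact (Opens.ne_bot_iff_nonempty _).mp hb))
  refine le_antisymm ?_ ?_
  · refine iSup_le fun p => ?_
    have hlt : up p.last < top := by
      refine (Set.subset_univ _).ssubset_of_ne fun h => hne ?_
      refine Set.eq_univ_of_univ_subset (h.ge.trans ?_)
      rintro _ ⟨a, -, rfl⟩
      exact a.2
    have hq : ((p.map up hup).snoc top hlt).length ≤ (2 : WithBot ℕ∞) :=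
      (Order.LTSeries.length_le_krullDim _).trans hdim.le
    have hl : p.length + 1 ≤ 2 := by
      have : (((p.length + 1 : ℕ) : ℕ∞) : WithBot ℕ∞) ≤ ((2 : ℕ) : ℕ∞) := hq
      exact_mod_cast this
    exact_mod_cast (show p.length ≤ 1 by omega)
  · obtain ⟨a, ha⟩ := hZ.1.1.1
    obtain ⟨z, hz, hzc⟩ := IsClosed.exists_closed_singleton hc ⟨a, ha⟩
    let s : IrreducibleCloseds Z := ⟨{⟨z, hz⟩}, isIrreducible_singleton, by
      have := hzc.preimage (continuous_subtype_val : Continuous (Subtype.val : Z → X.left))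
      convert this using 1
      ext b; simp [Subtype.ext_iff]⟩
    let t : IrreducibleCloseds Z := ⟨Set.univ, by
      haveI : IrreducibleSpace Z := Subtype.irreducibleSpace hZ.1.1
      exact IrreducibleSpace.isIrreducible_univ _, isClosed_univ⟩
    have hst : s < t := by
      refine (Set.subset_univ _).ssubset_of_ne fun h => not_subsingleton_component hS hdim hconn hZ (z := z) ?_
      refine Set.Subset.antisymm (fun b hb => ?_) (Set.singleton_subset_iff.mpr hz)
      exact congrArg Subtype.val (h.ge (Set.mem_univ (⟨b, hb⟩ : Z)) : (⟨b, hb⟩ : Z) = ⟨z, hz⟩)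
    exact_mod_cast Order.LTSeries.length_le_krullDim ((RelSeries.singleton _ s).snoc t hst)

/-- The closed fibre of a proper flat surface with connected fibre has a component list. -/
theorem exists_componentList (hS : IsSurf X) (hdim : topologicalKrullDim X.left = 2)
    (hconn : _root_.IsConnected (Models.specialFibreSet R X)) :
    ∃ (n : ℕ) (Γ : Fin n → ArSurf.VertComp R X), Models.IsComponentList R X Γ := by
  classical
  obtain ⟨π, hπ⟩ := IsDiscreteValuationRing.exists_irreducible R
  have hvc : ∀ Z ∈ Models.fibreComponents R X, ∃ Γ : ArSurf.VertComp R X, Set.range Γ.ι.base = Z := by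
    intro Z hZ
    let I := Scheme.IdealSheafData.vanishingIdeal (⟨Z, isClosed_of_mem_fibreComponents hZ⟩ : Closeds X.left)
    have hsupp : (I.support : Set X.left) = Z := Scheme.IdealSheafData.coe_support_vanishingIdeal _
    haveI : IsIntegral I.subscheme := AmpleFin18.isIntegral_of_irreducible _ hZ.1.1
    have h0 : ∀ y, (I.subschemeι ≫ X.hom) y = IsLocalRing.closedPoint R := fun y => by
      have hy : I.subschemeι y ∈ Z := hsupp.le (I.range_subschemeι.le ⟨y, rfl⟩)
      exact hZ.1.2 hy
    let φ : R →+* Γ(I.subscheme, ⊤) := Coh.toGlobal (I.subschemeι ≫ X.hom)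
    have hker : ∀ r ∈ IsLocalRing.maximalIdeal R, φ r = 0 := fun r hr => by
      rw [← basicOpen_eq_bot_iff]
      refine eq_bot_iff.mpr fun y hy => ?_
      have h1 : I.subscheme.basicOpen (φ r) = (I.subschemeι ≫ X.hom) ⁻¹ᵁ PrimeSpectrum.basicOpen r := by
        rw [← basicOpen_eq_of_affine (R := CommRingCat.of R) r, Scheme.preimage_basicOpen]
        rfl
      rw [h1] at hy
      have hy' : r ∉ ((I.subschemeι ≫ X.hom) y).asIdeal := hy
      rw [h0 y] at hy'
      exact absurd hr hy'
    let φk : IsLocalRing.ResidueField R →+* Γ(I.subscheme, ⊤) := Ideal.Quotient.lift _ φ hker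
    refine ⟨⟨Over.mk (I.subscheme.toSpecΓ ≫ Spec.map (CommRingCat.ofHom φk)), I.subschemeι, inferInstance,
      ‹IsIntegral I.subscheme›, ?_, ?_⟩, ?_⟩
    · exact (AmpleFin18.dim_subscheme I hsupp).trans (dim_component hS hdim hconn hZ)
    · show I.subschemeι ≫ X.hom = (I.subscheme.toSpecΓ ≫ Spec.map (CommRingCat.ofHom φk)) ≫
        Spec.map (CommRingCat.ofHom (IsLocalRing.residue R))
      rw [Category.assoc, ← Spec.map_comp]
      refine (Eq.trans ?_ (congrArg (I.subscheme.toSpecΓ ≫ ·) rfl)).trans rfl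
      conv_lhs => rw [← toSpecΓ_comp_map (I.subschemeι ≫ X.hom)]
      rfl
    · exact I.range_subschemeι.trans hsupp
  choose Γ hΓ using hvc
  let e := (finite_fibreComponents hS.pre).toFinset.equivFin
  let S : Fin _ → Set X.left := fun i => (e.symm i).1
  have hS' : ∀ i, S i ∈ Models.fibreComponents R X := fun i =>
    (finite_fibreComponents hS.pre).mem_toFinset.mp (e.symm i).2
  refine ⟨_, fun i => Γ (S i) (hS' i), fun i j h => ?_, ?_⟩
  · simp only [hΓ] at h
    exact e.symm.injective (Subtype.ext h)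
  · ext Z
    simp only [Set.mem_range, hΓ]
    refine ⟨fun ⟨i, hi⟩ => hi ▸ hS' i, fun hZ => ⟨e ⟨Z, (finite_fibreComponents hS.pre).mem_toFinset.mpr hZ⟩, ?_⟩⟩
    simp [S]

end Groth.Agent.ArInter
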