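import Groth.Agent.Lib.ArInter.Basic
import Groth.Agent.Lib.ConormalBC19.Basic
import Groth.Agent.Lib.EffCartier.Comap
import Groth.Agent.Lib.FormalH7.Ideal
import Groth.Agent.Lib.CurveAmple18.Cartier
import Groth.Agent.Lib.PairIso.Tilde
import Groth.Prelude.Def_ModelsG

/-!
# Intersection numbers of effective divisors with vertical curves
-/

set_option autoImplicit false
set_option linter.style.haveILetI false
set_option backward.isDefEq.respectTransparency false

universe u

open CategoryTheory CategoryTheory.Limits AlgebraicGeometry TopologicalSpace Opposite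

namespace Groth.Agent.ArInter

variable {R : Type u} [CommRing R] [IsDomain R] [IsDiscreteValuationRing R]
  {X : Over (Spec (CommRingCat.of R))}

/-- A Cartier divisor not containing an integral scheme mapped to `X` pulls back to one. -/
theorem isEffCartier_comap {C Y : Scheme.{u}} [IsIntegral C] (f : C ⟶ Y) {D : Y.IdealSheafData}
    (hD : BlowUp.IsEffCartierIdeal D) (h : f (genericPoint C) ∉ (D.support : Set Y)) :
    BlowUp.IsEffCartierIdeal (D.comap f) := by
  intro c
  obtain ⟨U, hcU, a, -, hI⟩ := hD (f c)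
  obtain ⟨V, hV, hcV, hVU⟩ := exists_isAffineOpen_mem_and_subset (U := f ⁻¹ᵁ U.1) (x := c) hcU
  refine ⟨⟨V, hV⟩, hcV, f.appLE U.1 V hVU a, ?_, ?_⟩
  · haveI : Nonempty V := ⟨⟨c, hcV⟩⟩
    refine mem_nonZeroDivisors_of_ne_zero fun h0 => ?_
    have hη : genericPoint C ∈ V := ((genericPoint_spec C).mem_open_set_iff V.2).mpr ⟨c, trivial, hcV⟩
    refine h ?_
    rw [SetLike.mem_coe, Scheme.IdealSheafData.mem_support_iff_of_mem (U := U) (hVU hη), hI, Scheme.mem_zeroLocus_iff]
    intro b hb hbη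
    obtain ⟨r, rfl⟩ := Ideal.mem_span_singleton'.1 hb
    rw [Scheme.basicOpen_mul] at hbη
    have h1 : genericPoint C ∈ C.basicOpen (f.appLE U.1 V hVU a) := by
      rw [Scheme.basicOpen_appLE]
      exact ⟨hη, hbη.2⟩
    rw [h0, Scheme.basicOpen_zero] at h1
    exact h1
  · rw [EffCartier.comap_ideal D f U ⟨V, hV⟩ hVU, hI, Ideal.map_span, Set.image_singleton]

/-- Restricting the ideal module of a Cartier divisor gives the ideal module of the restricted divisor. -/
theorem nonempty_pullback_idealMod {C Y : Scheme.{u}} (f : C ⟶ Y) {D : Y.IdealSheafData}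
    (hD : BlowUp.IsEffCartierIdeal D) (hJ : BlowUp.IsEffCartierIdeal (D.comap f)) :
    Nonempty ((Scheme.Modules.pullback f).obj (ClSub.idealMod D) ≅ ClSub.idealMod (D.comap f)) := by
  haveI := ConormalBC19.epi_psi f D (D.comap f) (D.le_map_comap f) fun x => by
    obtain ⟨U, hxU, -⟩ := hD (f x)
    exact ⟨U, hxU, fun V e => (EffCartier.comap_ideal D f U V e).le⟩
  haveI := PairIso.isIso_of_epi_rank
    ((M2.isInvertible_iff_isFinLocFreeOfRank_one _).1 (PicLoc.isInvertible_pullback f (M2.isInvertible_idealMod D hD)))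
    ((M2.isInvertible_iff_isFinLocFreeOfRank_one _).1 (M2.isInvertible_idealMod _ hJ))
    (ConormalBC19.psi f D (D.comap f) (D.le_map_comap f))
  exact ⟨asIso (ConormalBC19.psi f D (D.comap f) (D.le_map_comap f))⟩

/-- The degree on a vertical curve of the module of an effective divisor. -/
theorem inter_eq_finrank (hX : IsSurf X) (Γ : ArSurf.VertComp R X)
    {D : X.left.IdealSheafData} (hD : FGA.IsEffCartier D)
    (hΓ : Γ.ι.base (genericPoint Γ.curve.left) ∉ (D.support : Set X.left))
    {L : X.left.Modules} (hL : ClSub.IsInverseOf L (ClSub.idealMod D)) :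
    ArSurf.inter R X L Γ = (Module.finrank (IsLocalRing.ResidueField R)
      (Coh.HH Γ.curve.left (ClSub.quotMod (D.comap Γ.ι)) 0) : ℤ) := by
  haveI : IsProper (Γ.curve.left ↘ Spec (CommRingCat.of (IsLocalRing.ResidueField R))) := isProper_curve hX Γ
  have hc := CurveAmple18.curveLike (IsLocalRing.ResidueField R) Γ.curve.left Γ.dim_eq.le
  haveI := hc.noetherian
  have hD' : BlowUp.IsEffCartierIdeal D := hD
  have hJ := isEffCartier_comap Γ.ι hD' hΓ
  obtain ⟨ψ⟩ := nonempty_pullback_idealMod Γ.ι hD' hJ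
  obtain ⟨e⟩ := hL
  have hI := M2.isInvertible_idealMod D hD'
  have hLi : PicF.IsInvertible L := M2.isInvertible_of_tensor_iso hI e
  have hLC := PicLoc.isInvertible_pullback Γ.ι hLi
  let i : CohB1.tensorMod ((Scheme.Modules.pullback Γ.ι).obj L) (ClSub.idealMod (D.comap Γ.ι)) ≅
      Coh.structureModule Γ.curve.left :=
    M2.tensorIso (Iso.refl _) ψ.symm ≪≫ (Groth.Agent.M2.pullTensorIso Γ.ι L (ClSub.idealMod D)).symm ≪≫
      (Scheme.Modules.pullback Γ.ι).mapIso e ≪≫ PicLoc.pullbackStructureIso Γ.ι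
  have h := hc.deg_tensor_invertible hLC (M2.isInvertible_idealMod _ hJ)
  rw [CurveCoh17.deg_iso i, CurveCoh17.deg_structureModule, CurveAmple18.deg_idealMod Γ.dim_eq.le hJ] at h
  unfold ArSurf.inter
  rw [curveDeg_eq_deg hX Γ (Snapper.isCoh_of_isInvertible hLC)]
  linarith

/-- The action of the base on the global sections of the structure sheaf of a closed subscheme. -/
theorem hh0_quotMod_smul {A : Type u} [CommRing A] {Y : Scheme.{u}} [Y.Over (Spec (CommRingCat.of A))]
    (I : Y.IdealSheafData) (r : A) (x : Coh.HH Y (ClSub.quotMod I) 0) :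
    (show Γ(I.subscheme, ⊤) from CurveCoh17.hh0 (ClSub.quotMod I) (r • x)) =
      (show Γ(I.subscheme, ⊤) from I.subschemeι.appTop (Coh.toGlobal (Y ↘ Spec (CommRingCat.of A)) r)) *
        (show Γ(I.subscheme, ⊤) from CurveCoh17.hh0 (ClSub.quotMod I) x) := by
  refine (CurveCoh17.hh0_smul (M := ClSub.quotMod I) (Coh.toGlobal (Y ↘ Spec (CommRingCat.of A)) r) x).trans ?_
  rfl

/-- The intersection number as a length. -/
theorem inter_eq_lengthH (hX : IsSurf X) (Γ : ArSurf.VertComp R X)
    {D : X.left.IdealSheafData} (hD : FGA.IsEffCartier D)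
    (hΓ : Γ.ι.base (genericPoint Γ.curve.left) ∉ (D.support : Set X.left))
    {L : X.left.Modules} (hL : ClSub.IsInverseOf L (ClSub.idealMod D)) :
    ArSurf.inter R X L Γ = (Models.lengthH R X (ClSub.quotMod (D ⊔ Γ.ι.ker)) 0 : ℤ) := by
  rw [inter_eq_finrank hX Γ hD hΓ hL]
  haveI : IsProper (Γ.curve.left ↘ Spec (CommRingCat.of (IsLocalRing.ResidueField R))) := isProper_curve hX Γ
  have hc := CurveAmple18.curveLike (IsLocalRing.ResidueField R) Γ.curve.left Γ.dim_eq.le
  haveI := hc.noetherian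
  let k := IsLocalRing.ResidueField R
  let K := D ⊔ Γ.ι.ker
  let J := D.comap Γ.ι
  let g := J.subschemeι ≫ Γ.ι
  have hK : g.ker = K := by
    rw [Scheme.Hom.ker_comp, Scheme.IdealSheafData.ker_subschemeι,
      ← FormalH7.map_eq_of_ker_le Γ.ι K le_sup_right, Scheme.IdealSheafData.comap_sup,
      FormalH7.comap_ker_self, sup_bot_eq]
  let a : J.subscheme ⟶ K.subscheme := IsClosedImmersion.lift K.subschemeι g
    (by rw [Scheme.IdealSheafData.ker_subschemeι, hK])
  have ha : a ≫ K.subschemeι = g := IsClosedImmersion.lift_fac _ _ _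
  let b : K.subscheme ⟶ J.subscheme := IsClosedImmersion.lift g K.subschemeι
    (by rw [Scheme.IdealSheafData.ker_subschemeι, hK])
  have hb : b ≫ g = K.subschemeι := IsClosedImmersion.lift_fac _ _ _
  haveI : IsIso a := ⟨b, by rw [← cancel_mono g, Category.assoc, hb, ha, Category.id_comp],
    by rw [← cancel_mono K.subschemeι, Category.assoc, ha, hb, Category.id_comp]⟩
  let α : Γ(K.subscheme, ⊤) ≃+* Γ(J.subscheme, ⊤) := RingEquiv.ofBijective a.appTop.hom
    (ConcreteCategory.bijective_of_isIso (a.app ⊤))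
  let ε : Coh.HH X.left (ClSub.quotMod K) 0 ≃+ Coh.HH Γ.curve.left (ClSub.quotMod J) 0 :=
    (CurveCoh17.hh0 (ClSub.quotMod K)).trans
      (α.toAddEquiv.trans (CurveCoh17.hh0 (ClSub.quotMod J)).symm)
  letI : Module R (Coh.HH Γ.curve.left (ClSub.quotMod J) 0) := Module.compHom _ (IsLocalRing.residue R)
  haveI : IsScalarTower R k (Coh.HH Γ.curve.left (ClSub.quotMod J) 0) :=
    ⟨fun r c x => mul_smul (IsLocalRing.residue R r) c x⟩
  have hlin : ∀ (r : R) x, ε (r • x) = r • ε x := fun r x => by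
    apply (CurveCoh17.hh0 (ClSub.quotMod J)).injective
    refine Eq.trans ?_ (hh0_quotMod_smul (A := k) J (IsLocalRing.residue R r) (ε x)).symm
    have e1 : ∀ y, (show Γ(J.subscheme, ⊤) from CurveCoh17.hh0 (ClSub.quotMod J) (ε y)) =
        α (show Γ(K.subscheme, ⊤) from CurveCoh17.hh0 (ClSub.quotMod K) y) := fun y =>
      (CurveCoh17.hh0 (ClSub.quotMod J)).apply_symm_apply _
    refine (e1 _).trans ?_
    rw [hh0_quotMod_smul (A := R) K r x, map_mul, e1 x]
    congr 1
    have h1 : a ≫ K.subschemeι ≫ X.hom =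
        J.subschemeι ≫ Γ.curve.hom ≫ Spec.map (CommRingCat.ofHom (IsLocalRing.residue R)) := by
      rw [← Γ.w, ← Category.assoc, ha, Category.assoc]
    have h2 := congrArg (fun φ => ((Scheme.ΓSpecIso (CommRingCat.of R)).inv ≫ φ.appTop).hom r) h1
    simp only [Scheme.Hom.comp_appTop, Category.assoc] at h2
    rw [← Scheme.ΓSpecIso_inv_naturality_assoc] at h2
    exact h2
  let εl : Coh.HH X.left (ClSub.quotMod K) 0 ≃ₗ[R] Coh.HH Γ.curve.left (ClSub.quotMod J) 0 :=
    { ε with map_smul' := hlin }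
  haveI : Module.Finite k (Coh.HH Γ.curve.left (ClSub.quotMod J) 0) := hc.fin _ (CurveCoh17.isCoh_quotMod J) 0
  show _ = ((Module.length R (Coh.HH X.left (ClSub.quotMod K) 0)).toNat : ℤ)
  rw [εl.length_eq, Module.length_eq_of_surjective (R := k) IsLocalRing.residue_surjective,
    Module.length_eq_finrank, ENat.toNat_natCast]

/-- The intersection number vanishes exactly when the divisor misses the curve. -/
theorem inter_nonneg_and_eq_zero_iff (hX : IsSurf X) (Γ : ArSurf.VertComp R X) {I : X.left.IdealSheafData}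
    (hI : FGA.IsEffCartier I) (hΓ : Γ.ι.base (genericPoint ↥Γ.curve.left) ∉ (I.support : Set ↥X.left))
    {L : X.left.Modules} (hL : ClSub.IsInverseOf L (ClSub.idealMod I)) :
    0 ≤ ArSurf.inter R X L Γ ∧
      (ArSurf.inter R X L Γ = 0 ↔ Disjoint (Set.range Γ.ι.base) (I.support : Set ↥X.left)) := by
  haveI : IsProper (Γ.curve.left ↘ Spec (CommRingCat.of (IsLocalRing.ResidueField R))) :=
    isProper_curve hX Γ
  have hc := CurveAmple18.curveLike (IsLocalRing.ResidueField R) Γ.curve.left Γ.dim_eq.le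
  haveI := hc.noetherian
  rw [inter_eq_finrank hX Γ hI hΓ hL]
  refine ⟨Nat.cast_nonneg _, ?_⟩
  let J := I.comap Γ.ι
  haveI : Module.Finite (IsLocalRing.ResidueField R) (Coh.HH Γ.curve.left (ClSub.quotMod J) 0) :=
    hc.fin _ (CurveCoh17.isCoh_quotMod J) 0
  rw [Nat.cast_eq_zero, Module.finrank_zero_iff,
    (CurveCoh17.hh0 (ClSub.quotMod J)).toEquiv.subsingleton_congr]
  have hsupp : IsEmpty J.subscheme ↔ Disjoint (Set.range Γ.ι.base) (I.support : Set X.left) := by
    rw [← Set.range_eq_empty_iff (f := J.subschemeι.base), Scheme.IdealSheafData.range_subschemeι,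
      Scheme.IdealSheafData.support_comap, Set.disjoint_left]
    simp [Set.eq_empty_iff_forall_notMem]
  rw [← hsupp]
  show Subsingleton Γ(J.subscheme, ⊤) ↔ _
  refine ⟨fun h => ?_, fun h => ⟨fun a b => TopCat.Presheaf.section_ext J.subscheme.sheaf ⊤ a b fun z _ => h.elim z⟩⟩
  by_contra hne
  rw [not_isEmpty_iff] at hne
  haveI : Nonempty ((⊤ : J.subscheme.Opens)) := ⟨⟨hne.some, trivial⟩⟩
  haveI := Scheme.component_nontrivial J.subscheme ⊤
  exact not_subsingleton Γ(J.subscheme, ⊤) h

end Groth.Agent.ArInter
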