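import Groth.Agent.Lib.ArInter.Fibre
import Groth.Agent.Lib.Snapper.Divisor
import Groth.Agent.Lib.AmpleFin18.Proj
import Groth.Agent.Lib.CurveCoh17.AffPush
import Groth.Agent.Lib.LenEuler15.Basic
import Groth.Agent.Lib.HilbRS3.QuotPush
import Mathlib.CategoryTheory.Abelian.DiagramLemmas.KernelCokernelComp

/-!
# Euler characteristics of vertical divisors
-/

set_option autoImplicit false
set_option linter.style.haveILetI false
set_option linter.unusedSectionVars false
set_option backward.isDefEq.respectTransparency false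

universe u

open CategoryTheory CategoryTheory.Limits AlgebraicGeometry TopologicalSpace Opposite

namespace Groth.Agent.ArInter

section quot

variable {Y : Scheme.{u}}

open Groth.Agent.M1 Groth.Agent.M2 Groth.Agent.CurveCoh17 in
/-- A monomorphism into the structure sheaf with ideal `K` realises `O / K` as its cokernel. -/
theorem exists_cokernel_ofMono {D : Y.Modules} (φ : D ⟶ Coh.structureModule Y) [Coh.IsQCoh D] [Mono φ]
    {K : Y.IdealSheafData} (hK : SecDiv.ofMono φ = K) :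
    ∃ e : cokernel φ ≅ ClSub.quotMod K, cokernel.π φ ≫ e.hom = ClSub.toSubscheme K := by
  subst hK
  let I := SecDiv.ofMono φ
  have h0 : φ ≫ ClSub.toSubscheme I = 0 := by
    refine (Scheme.Modules.hom_ext _ _ fun U => ?_)
    ext a
    choose V hV hxV hVU using fun x : U => exists_isAffineOpen_mem_and_subset (U := U) x.2
    refine M1.modules_eq_of_locally_eq _ U V hVU (fun x hx => Opens.mem_iSup.mpr ⟨⟨x, hx⟩, hxV ⟨x, hx⟩⟩) _ _
      fun x => ?_
    refine ((M1.map_app_eq (φ ≫ ClSub.toSubscheme I) (hVU x) a).symm.trans ?_).trans (map_zero _).symm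
    change I.subschemeι.app (V x) (φ.app (V x) _) = 0
    have hm : (show Γ(Y, V x) from φ.app (V x) (M1.mres D (hVU x) a)) ∈ I.ideal ⟨V x, hV x⟩ := ⟨_, rfl⟩
    rw [← I.ker_subschemeι, Scheme.Hom.ker_apply] at hm
    exact RingHom.mem_ker.mp hm
  let ψ : D ⟶ ClSub.idealMod I := kernel.lift _ φ h0
  have hψ : ψ ≫ ClSub.idealModι I = φ := kernel.lift_ι _ _ _
  haveI : Mono ψ := mono_of_mono_fac hψ
  haveI : Epi ψ := by
    refine (M1.epi_iff_locally_surjective ψ).mpr fun U t x hx => ?_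
    obtain ⟨W, hW, hxW, hWU⟩ := exists_isAffineOpen_mem_and_subset (U := U) hx
    obtain ⟨b, hb⟩ := (M2.range_idealIncl I ⟨W, hW⟩).le ⟨M1.mres _ hWU t, rfl⟩
    refine ⟨W, hWU, hxW, b, M2.idealIncl_injective I W (Eq.trans ?_ hb)⟩
    exact congrArg (fun g => g.app W b) hψ
  haveI : IsIso ψ := isIso_of_mono_of_epi ψ
  have hS := M2.shortExact_idealMod I
  haveI := hS.epi_g
  let S₀ : ShortComplex Y.Modules :=
    ShortComplex.mk (ClSub.idealModι I) (ClSub.toSubscheme I) (kernel.condition (ClSub.toSubscheme I))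
  let S : ShortComplex Y.Modules := ShortComplex.mk φ (ClSub.toSubscheme I) h0
  have hS' : S.ShortExact := ShortComplex.shortExact_of_iso
    (ShortComplex.isoMk (S₁ := S₀) (S₂ := S) (asIso ψ).symm (Iso.refl _) (Iso.refl _)
      (((congrArg (inv ψ ≫ ·) hψ.symm).trans (IsIso.inv_hom_id_assoc ψ _)).trans (Category.comp_id _).symm)
      ((Category.id_comp _).trans (Category.comp_id _).symm))
    hS
  haveI := hS'.epi_g
  exact ⟨(cokernelIsCokernel φ).coconePointUniqueUpToIso hS'.exact.gIsCokernel,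
    IsColimit.comp_coconePointUniqueUpToIso_hom (cokernelIsCokernel φ) hS'.exact.gIsCokernel WalkingParallelPair.one⟩

theorem nonempty_cokernel_ofMono {D : Y.Modules} (φ : D ⟶ Coh.structureModule Y) [Coh.IsQCoh D] [Mono φ]
    {K : Y.IdealSheafData} (hK : SecDiv.ofMono φ = K) : Nonempty (cokernel φ ≅ ClSub.quotMod K) :=
  let ⟨e, _⟩ := exists_cokernel_ofMono φ hK
  ⟨e⟩

open Groth.Agent.M1 Groth.Agent.M2 Groth.Agent.CurveCoh17 in
/-- `0 → I_J ⊗ O/I → O/IJ → O/J → 0`. -/
theorem exists_quot_ses [IsLocallyNoetherian Y] {I J : Y.IdealSheafData} (hI : BlowUp.IsEffCartierIdeal I)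
    (hJ : BlowUp.IsEffCartierIdeal J) :
    ∃ S : ShortComplex Y.Modules, S.ShortExact ∧
      Nonempty (S.X₁ ≅ CohB1.tensorMod (ClSub.idealMod J) (ClSub.quotMod I)) ∧
      ∃ (e₂ : S.X₂ ≅ ClSub.quotMod (I * J)) (e₃ : S.X₃ ≅ ClSub.quotMod J) (π : Coh.structureModule Y ⟶ S.X₂),
        Epi π ∧ π ≫ e₂.hom = ClSub.toSubscheme (I * J) ∧ π ≫ S.g ≫ e₃.hom = ClSub.toSubscheme J := by
  have hi := M2.isInvertible_idealMod I hI
  have hj := M2.isInvertible_idealMod J hJ
  let f : CohB1.tensorMod (ClSub.idealMod I) (ClSub.idealMod J) ⟶ ClSub.idealMod J :=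
    CurveCoh17.twistIncl I (ClSub.idealMod J)
  let g := ClSub.idealModι J
  haveI : Mono (M2.tensorMap (ClSub.idealModι I) (𝟙 (ClSub.idealMod J))) := (CurveCoh17.twistSES hj I).mono_f
  haveI : Mono g := (M2.shortExact_idealMod J).mono_f
  haveI : Mono f := inferInstanceAs (Mono (_ ≫ _))
  haveI : Coh.IsQCoh (CohB1.tensorMod (ClSub.idealMod I) (ClSub.idealMod J)) :=
    isQCoh_of_isFinLocFree (isFinLocFree_of_isInvertible (M2.isInvertible_tensor hi hj))
  have hmul : SecDiv.ofMono (f ≫ g) = I * J := by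
    refine EffCartier.eq_of_forall_exists fun x => ?_
    obtain ⟨U, hxU, -, ⟨a', ha'⟩, b', hb'⟩ := EffCartier.exists_isEqn₂ hI hJ (W := ⊤) (Set.mem_univ x)
    obtain ⟨a, ha⟩ : a' ∈ Set.range (idealIncl I (U := U.1)) := by
      rw [range_idealIncl, ha'.ideal_eq]
      exact Ideal.subset_span rfl
    obtain ⟨b, hb⟩ : b' ∈ Set.range (idealIncl J (U := U.1)) := by
      rw [range_idealIncl, hb'.ideal_eq]
      exact Ideal.subset_span rfl
    have hgen := CurveOm17.isGen_tsec (A := ClSub.idealMod I) (B := ClSub.idealMod J) (U := U.1)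
      (isGenerator_idealMod I a' ha'.mem ha'.ideal_eq a ha) (isGenerator_idealMod J b' hb'.mem hb'.ideal_eq b hb)
    have hval : (show Γ(Y, U.1) from (f ≫ g).app U.1 (tsec _ _ a b)) = a' * b' := by
      show (ClSub.idealModι J).app U.1 ((tensorLUnit _).hom.app U.1
        ((tensorMap (ClSub.idealModι I) (𝟙 _)).app U.1 (tsec _ _ a b))) = _
      rw [tensorMap_tsec]
      refine (congrArg ((ClSub.idealModι J).app U.1) (tensorLUnit_tsec (idealIncl I a) b)).trans ?_
      rw [show idealIncl I a = a' from ha]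
      exact (idealIncl_smul J a' b).trans (congrArg (a' * ·) hb)
    refine ⟨U, hxU, ?_⟩
    rw [Scheme.IdealSheafData.ideal_mul, Pi.mul_apply, ha'.ideal_eq, hb'.ideal_eq,
      Ideal.span_singleton_mul_span_singleton]
    ext s
    rw [Ideal.mem_span_singleton']
    constructor
    · rintro ⟨z, rfl⟩
      obtain ⟨r, rfl⟩ := CurveOm17.exists_eq_smul_of_isGen hgen z
      refine ⟨r, ?_⟩
      rw [← hval]
      exact (Scheme.Modules.Hom.app_smul (f ≫ g) r _).symm
    · rintro ⟨r, rfl⟩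
      exact ⟨r • tsec _ _ a b, (Scheme.Modules.Hom.app_smul (f ≫ g) r _).trans (congrArg (r * ·) hval)⟩
  have hex := kernelCokernelCompSequence_exact f g
  let S := ShortComplex.mk (cokernel.map f (f ≫ g) (𝟙 _) g (by simp)) (cokernel.map (f ≫ g) g f (𝟙 _) (by simp))
    (coequalizer.hom_ext (by simp))
  have hS : S.ShortExact := by
    haveI : Mono S.f := by
      have h3 := hex.exact 2
      refine (ShortComplex.exact_iff_mono _ ?_).mp h3
      exact (isZero_kernel_of_mono g).eq_of_src _ _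
    haveI : Epi S.g := inferInstanceAs (Epi ((kernelCokernelCompSequence f g).map' 4 5))
    exact ⟨hex.exact 3⟩
  haveI : Mono (Snapper.mulMap (ClSub.idealModι I) (ClSub.idealMod J)) := inferInstanceAs (Mono f)
  obtain ⟨e₁⟩ := Snapper.nonempty_cokernel_ideal_iso I (ClSub.idealMod J)
  obtain ⟨e₂, he₂⟩ := exists_cokernel_ofMono (f ≫ g) hmul
  have hJS := M2.shortExact_idealMod J
  haveI := hJS.epi_g
  let e₃ : cokernel g ≅ ClSub.quotMod J := (cokernelIsCokernel g).coconePointUniqueUpToIso hJS.exact.gIsCokernel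
  have he₃ : cokernel.π g ≫ e₃.hom = ClSub.toSubscheme J :=
    IsColimit.comp_coconePointUniqueUpToIso_hom (cokernelIsCokernel g) hJS.exact.gIsCokernel WalkingParallelPair.one
  refine ⟨S, hS, ⟨e₁⟩, e₂, e₃, cokernel.π (f ≫ g), inferInstance, he₂, ?_⟩
  show cokernel.π (f ≫ g) ≫ cokernel.map (f ≫ g) g f (𝟙 _) (by simp) ≫ e₃.hom = _
  rw [← Category.assoc, cokernel.π_desc, Category.id_comp]
  exact he₃

end quot

section len

variable {A : Type u} [CommRing A] {Y : Scheme.{u}} [Y.Over (Spec (CommRingCat.of A))]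

variable (A) in
/-- `h⁰ - h¹`, counted with lengths. -/
noncomputable def chiLen (M : Y.Modules) : ℤ :=
  LenEuler15.len A (Coh.HH Y M 0) - LenEuler15.len A (Coh.HH Y M 1)

variable (A) in
/-- Both groups have finite length. -/
def FinLen (M : Y.Modules) : Prop :=
  Module.length A (Coh.HH Y M 0) ≠ ⊤ ∧ Module.length A (Coh.HH Y M 1) ≠ ⊤ ∧ Subsingleton (Coh.HH Y M 2)

theorem chiLen_iso {M N : Y.Modules} (e : M ≅ N) : chiLen A M = chiLen A N := by
  simp only [chiLen, LenEuler15.len, (CurveCoh17.hequiv A e 0).length_eq, (CurveCoh17.hequiv A e 1).length_eq]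

theorem finLen_iso {M N : Y.Modules} (e : M ≅ N) (h : FinLen A M) : FinLen A N := by
  obtain ⟨h0, h1, h2⟩ := h
  exact ⟨(CurveCoh17.hequiv A e 0).length_eq ▸ h0, (CurveCoh17.hequiv A e 1).length_eq ▸ h1,
    haveI := h2; (CurveCoh17.hequiv A e 2).symm.toEquiv.subsingleton⟩

theorem length_middle {V₁ V₂ V₃ : Type u} [AddCommGroup V₁] [Module A V₁] [AddCommGroup V₂] [Module A V₂]
    [AddCommGroup V₃] [Module A V₃] (f : V₁ →ₗ[A] V₂) (g : V₂ →ₗ[A] V₃) (h : Function.Exact f g) :
    Module.length A V₂ = Module.length A (LinearMap.range f) + Module.length A (LinearMap.range g) := by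
  have he : Function.Exact (LinearMap.range f).subtype g.rangeRestrict := by
    intro x
    rw [show g.rangeRestrict x = 0 ↔ g x = 0 from Subtype.ext_iff, h x, Set.mem_range]
    exact ⟨fun ⟨y, hy⟩ => ⟨⟨f y, LinearMap.mem_range_self f y⟩, hy⟩,
      fun ⟨⟨z, w, hw⟩, hz⟩ => ⟨w, hw.trans hz⟩⟩
  exact Module.length_eq_add_of_exact (LinearMap.range f).subtype g.rangeRestrict
    (Submodule.injective_subtype _) g.surjective_rangeRestrict he

/-- Additivity for curves: three groups in degree `0`, three in degree `1`. -/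
theorem chiLen_add {S : ShortComplex Y.Modules} (hS : S.ShortExact) (h₁ : FinLen A S.X₁) (h₃ : FinLen A S.X₃) :
    FinLen A S.X₂ ∧ chiLen A S.X₂ = chiLen A S.X₁ + chiLen A S.X₃ := by
  let p := fun n => Module.length A (LinearMap.range (CurveCoh17.hmap A S.f n))
  let q := fun n => Module.length A (LinearMap.range (CurveCoh17.hmap A S.g n))
  let r := fun n => Module.length A (LinearMap.range (CurveCoh17.hdelta A hS n))
  have hb0 : Module.length A (Coh.HH Y S.X₂ 0) = p 0 + q 0 :=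
    length_middle _ _ (CurveCoh17.exact_hmap_hmap A hS 0)
  have hb1 : Module.length A (Coh.HH Y S.X₂ 1) = p 1 + q 1 :=
    length_middle _ _ (CurveCoh17.exact_hmap_hmap A hS 1)
  have hc0 : Module.length A (Coh.HH Y S.X₃ 0) = q 0 + r 0 :=
    length_middle _ _ (CurveCoh17.exact_hmap_hdelta A hS 0)
  have hc1 : Module.length A (Coh.HH Y S.X₃ 1) = q 1 + r 1 :=
    length_middle _ _ (CurveCoh17.exact_hmap_hdelta A hS 1)
  have ha1 : Module.length A (Coh.HH Y S.X₁ 1) = r 0 + p 1 :=
    length_middle _ _ (CurveCoh17.exact_hdelta_hmap A hS 0)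
  have ha0 : Module.length A (Coh.HH Y S.X₁ 0) = p 0 :=
    (LinearEquiv.ofInjective _ (CurveCoh17.hmap_f_injective A hS)).length_eq
  have hv : Subsingleton (Coh.HH Y S.X₁ 2) := h₁.2.2
  have hb2 : Subsingleton (Coh.HH Y S.X₂ 2) := by
    haveI := hv
    haveI := h₃.2.2
    refine subsingleton_of_forall_eq 0 fun z => ?_
    obtain ⟨w, rfl⟩ := ((CurveCoh17.exact_hmap_hmap A hS 2) z).mp (Subsingleton.elim _ _)
    rw [Subsingleton.elim w 0, map_zero]
  have hr1 : r 1 = 0 := by
    haveI := hv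
    exact Module.length_eq_zero_iff.mpr inferInstance
  obtain ⟨hf0, hf1, -⟩ := h₁
  obtain ⟨hg0, hg1, hw⟩ := h₃
  rw [ha0] at hf0
  rw [ha1] at hf1
  rw [hc0] at hg0
  rw [hc1] at hg1
  obtain ⟨hr0, hp1⟩ := WithTop.add_ne_top.mp hf1
  obtain ⟨hq0, -⟩ := WithTop.add_ne_top.mp hg0
  obtain ⟨hq1, -⟩ := WithTop.add_ne_top.mp hg1
  refine ⟨⟨hb0 ▸ WithTop.add_ne_top.mpr ⟨hf0, hq0⟩, hb1 ▸ WithTop.add_ne_top.mpr ⟨hp1, hq1⟩, hb2⟩, ?_⟩
  simp only [chiLen, LenEuler15.len, hb0, hb1, hc0, hc1, ha0, ha1, hr1, add_zero,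
    ENat.toNat_add hf0 hq0, ENat.toNat_add hp1 hq1, ENat.toNat_add hq0 hr0, ENat.toNat_add hr0 hp1]
  push_cast
  ring

end len

section surface

variable {R : Type u} [CommRing R] [IsDomain R] [IsDiscreteValuationRing R]
  {X : Over (Spec (CommRingCat.of R))}

/-- A module on a vertical curve, pushed to the surface: finite lengths, Euler characteristic over `k`,
nothing in degree two. -/
theorem push_curve_data (hX : IsSurf X) (Γ : ArSurf.VertComp R X) {M : Γ.curve.left.Modules} (hM : Coh.IsCoh M) :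
    FinLen R ((Scheme.Modules.pushforward Γ.ι).obj M) ∧
      chiLen R ((Scheme.Modules.pushforward Γ.ι).obj M) =
        FGA.eulerCharLE (IsLocalRing.ResidueField R) Γ.curve.left M 1 := by
  let k := IsLocalRing.ResidueField R
  haveI : IsProper (Γ.curve.left ↘ Spec (CommRingCat.of k)) := isProper_curve hX Γ
  have hc := CurveAmple18.curveLike k Γ.curve.left Γ.dim_eq.le
  haveI : M.IsQuasicoherent := hM.1
  letI : Γ.curve.left.Over (Spec (CommRingCat.of R)) := ⟨Γ.ι ≫ X.hom⟩
  have he : ∀ n, Nonempty (Coh.HH X.left ((Scheme.Modules.pushforward Γ.ι).obj M) n ≃ₗ[R] Coh.HH Γ.curve.left M n) :=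
    fun n => CurveCoh17.nonempty_hequiv_push R Γ.ι rfl M n
  have hw : Γ.ι ≫ X.hom = Γ.curve.hom ≫ Spec.map (CommRingCat.ofHom (IsLocalRing.residue R)) := Γ.w
  have hl : ∀ n, Module.length R (Coh.HH X.left ((Scheme.Modules.pushforward Γ.ι).obj M) n) =
      (Module.finrank k (Coh.HH Γ.curve.left M n) : ℕ∞) := by
    intro n
    rw [(he n).some.length_eq]
    haveI : Module.Finite k (Coh.HH Γ.curve.left M n) := hc.fin _ hM n
    haveI : IsScalarTower R k (Coh.HH Γ.curve.left M n) := ⟨fun r c x => by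
      rw [Algebra.smul_def, mul_smul]
      show Coh.toGlobal Γ.curve.hom (IsLocalRing.residue R r) • (c • x) = Coh.toGlobal (Γ.ι ≫ X.hom) r • (c • x)
      congr 1
      have h2 := congrArg (fun φ => ((Scheme.ΓSpecIso (CommRingCat.of R)).inv ≫ φ.appTop).hom r) hw
      simp only [Scheme.Hom.comp_appTop] at h2
      rw [← Scheme.ΓSpecIso_inv_naturality_assoc] at h2
      exact h2.symm⟩
    rw [Module.length_eq_of_surjective (R := k) IsLocalRing.residue_surjective, Module.length_eq_finrank]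
  refine ⟨⟨by rw [hl]; exact ENat.natCast_ne_top _, by rw [hl]; exact ENat.natCast_ne_top _, ?_⟩, ?_⟩
  · haveI := (hc.adm hM).vanish
    exact (he 2).some.toEquiv.subsingleton
  · simp only [chiLen, LenEuler15.len, hl, ENat.toNat_natCast, FGA.eulerCharLE, Finset.sum_range_succ,
      Finset.range_zero, Finset.sum_empty, pow_zero, pow_one, one_mul, zero_add]
    ring

/-- Adding a component to a vertical divisor. -/
theorem chiLen_mul_component (hX : IsSurf X) (Γ : ArSurf.VertComp R X) (hΓ : BlowUp.IsEffCartierIdeal Γ.ι.ker)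
    {J : X.left.IdealSheafData} (hJ : BlowUp.IsEffCartierIdeal J) (hfl : FinLen R (ClSub.quotMod J)) :
    FinLen R (ClSub.quotMod (Γ.ι.ker * J)) ∧
      chiLen R (ClSub.quotMod (Γ.ι.ker * J)) = chiLen R (ClSub.quotMod J) + ideg Γ J +
        ((Models.wdeg R X Γ : ℤ) - (Models.h1 R X Γ : ℤ)) := by
  let k := IsLocalRing.ResidueField R
  haveI := isNoetherian_left hX.pre
  haveI : IsProper (Γ.curve.left ↘ Spec (CommRingCat.of k)) := isProper_curve hX Γ
  have hc := CurveAmple18.curveLike k Γ.curve.left Γ.dim_eq.le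
  haveI := hc.noetherian
  obtain ⟨S, hS, ⟨e₁⟩, e₂, e₃, -, -, -, -⟩ := exists_quot_ses hΓ hJ
  have hN := PicLoc.isInvertible_pullback Γ.ι (M2.isInvertible_idealMod J hJ)
  obtain ⟨q⟩ := HilbRS3.nonempty_quotMod_ker Γ.ι
  let e : S.X₁ ≅ (Scheme.Modules.pushforward Γ.ι).obj ((Scheme.Modules.pullback Γ.ι).obj (ClSub.idealMod J)) :=
    e₁ ≪≫ M2.tensorIso (Iso.refl _) q ≪≫ M2.tensorComm _ _ ≪≫
      AmpleFin18.projIso Γ.ι (ClSub.idealMod J) (Coh.structureModule Γ.curve.left) (M2.isInvertible_idealMod J hJ) ≪≫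
      (Scheme.Modules.pushforward Γ.ι).mapIso (M2.tensorLUnit _)
  obtain ⟨hf, hχ⟩ := push_curve_data hX Γ (Snapper.isCoh_of_isInvertible hN)
  obtain ⟨h2, hsum⟩ := chiLen_add hS (finLen_iso e.symm hf) (finLen_iso e₃.symm hfl)
  refine ⟨finLen_iso e₂ h2, ?_⟩
  rw [← chiLen_iso e₂, hsum, chiLen_iso e, chiLen_iso e₃, hχ]
  have hd : ideg Γ J = FGA.eulerCharLE k Γ.curve.left ((Scheme.Modules.pullback Γ.ι).obj (ClSub.idealMod J)) 1 -
      ((Models.wdeg R X Γ : ℤ) - (Models.h1 R X Γ : ℤ)) := by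
    rw [ideg, ← curveDeg_eq_deg hX Γ (Snapper.isCoh_of_isInvertible hN), ArSurf.curveDeg]
    simp only [FGA.eulerCharLE, Finset.sum_range_succ, Finset.range_zero, Finset.sum_empty, pow_zero, pow_one,
      one_mul, zero_add, Models.wdeg, Models.h1]
    ring
  rw [hd]
  ring

theorem finLen_quotMod_top (hX : IsSurf X) : FinLen R (ClSub.quotMod (⊤ : X.left.IdealSheafData)) := by
  have hz : IsZero (ClSub.quotMod (⊤ : X.left.IdealSheafData)) :=
    Snapper.isZero_of_support_empty (Set.eq_empty_of_forall_notMem fun x hx => by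
      have h := (CohFound.support_push_subset _ _).trans
        (⊤ : X.left.IdealSheafData).range_subschemeι.le hx
      rw [Scheme.IdealSheafData.support_top] at h
      exact h.elim)
  have hs : ∀ n, Subsingleton (Coh.HH X.left (ClSub.quotMod (⊤ : X.left.IdealSheafData)) n) := fun n => by
    refine ⟨fun a b => ?_⟩
    have h0 : ∀ c, c = (0 : Coh.HH X.left (ClSub.quotMod (⊤ : X.left.IdealSheafData)) n) := fun c => by
      rw [← CurveCoh17.hmap_id R _ n c, show 𝟙 (ClSub.quotMod (⊤ : X.left.IdealSheafData)) = 0 from hz.eq_of_src _ _,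
        CurveCoh17.hmap_zero]
    rw [h0 a, h0 b]
  haveI := hs 0
  haveI := hs 1
  refine ⟨?_, ?_, hs 2⟩ <;> rw [Module.length_eq_zero_iff.mpr inferInstance] <;> exact ENat.zero_ne_top

theorem finLen_finsetProd (hX : IsSurf X) {T : Type*} (Γ : T → ArSurf.VertComp R X)
    (hE : ∀ q, BlowUp.IsEffCartierIdeal (Γ q).ι.ker) (a : T → ℕ) (s : Finset T) :
    BlowUp.IsEffCartierIdeal (∏ q ∈ s, (Γ q).ι.ker ^ a q) ∧
      FinLen R (ClSub.quotMod (∏ q ∈ s, (Γ q).ι.ker ^ a q)) := by
  classical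
  induction s using Finset.induction_on with
  | empty =>
    rw [Finset.prod_empty, Scheme.IdealSheafData.one_eq_top]
    exact ⟨EffCartier.isEffCartierIdeal_top, finLen_quotMod_top hX⟩
  | insert q s hq ih =>
    rw [Finset.prod_insert hq]
    induction a q with
    | zero => rw [pow_zero, one_mul]; exact ih
    | succ m ihm =>
      rw [pow_succ', mul_assoc]
      exact ⟨EffCartier.isEffCartierIdeal_mul (hE q) ihm.1, (chiLen_mul_component hX (Γ q) (hE q) ihm.1 ihm.2).1⟩

end surface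

end Groth.Agent.ArInter
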