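import Groth.Agent.Lib.ArInter.Model
import Groth.Agent.Lib.CurveCoh17.P1Apps
import Groth.Agent.Lib.CurveCoh17.P1Genus
import Groth.Agent.Lib.CurveCoh17.Pencil2
import Groth.Agent.Lib.PicPn.Main
import Groth.Agent.Lib.GenusFF17.Sum
import Groth.Agent.Lib.HensProper6.Fibres

/-!
# Exceptional curves of the first kind, numerically
-/

set_option autoImplicit false
set_option linter.style.haveILetI false
set_option linter.unusedSectionVars false
set_option backward.isDefEq.respectTransparency false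

universe u

open CategoryTheory CategoryTheory.Limits AlgebraicGeometry TopologicalSpace Opposite

namespace Groth.Agent.ArInter

/-- Over a field mapping onto the global functions nothing changes; in general dimensions multiply. -/
theorem finrank_HH_tower (k : Type u) [Field k] {Y : Scheme.{u}} [Y.Over (Spec (CommRingCat.of k))]
    (hF : IsField Γ(Y, ⊤))
    (hfin : RingHom.Finite (A := k) (B := Γ(Y, ⊤)) (Coh.toGlobal (Y ↘ Spec (CommRingCat.of k)))) (M : Y.Modules) (i : ℕ) :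
    letI : CommRing (Coh.Γtop Y) := inferInstanceAs (CommRing Γ(Y, ⊤))
    letI : Algebra k (Coh.Γtop Y) :=
      RingHom.toAlgebra (S := Coh.Γtop Y) (Coh.toGlobal (Y ↘ Spec (CommRingCat.of k)))
    Module.finrank k (Coh.HH Y M i) = Module.finrank k (Coh.Γtop Y) * Module.finrank (Coh.Γtop Y) (Coh.HH Y M i) := by
  let κ := Coh.Γtop Y
  letI : CommRing κ := inferInstanceAs (CommRing Γ(Y, ⊤))
  letI : Algebra k κ := RingHom.toAlgebra (S := κ) (Coh.toGlobal (Y ↘ Spec (CommRingCat.of k)))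
  haveI : Module.Finite k κ := hfin
  letI : Field κ := IsField.toField (R := κ) hF
  haveI : IsScalarTower k κ (Coh.HH Y M i) := ⟨fun r c x => by
    rw [Algebra.smul_def, mul_smul]
    rfl⟩
  exact (Module.finrank_mul_finrank k κ (Coh.HH Y M i)).symm

/-- A second base field mapping onto the global functions. -/
theorem finrank_HH_compare (k K : Type u) [Field k] [Field K] {Y : Scheme.{u}} (a : Y ⟶ Spec (CommRingCat.of k))
    (b : Y ⟶ Spec (CommRingCat.of K)) (hF : IsField Γ(Y, ⊤)) (hfin : RingHom.Finite (A := k) (B := Γ(Y, ⊤)) (Coh.toGlobal a))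
    (hb : Function.Bijective (Coh.toGlobal b : K →+* Γ(Y, ⊤))) :
    ∃ w : ℕ, 0 < w ∧ (letI : Y.Over (Spec (CommRingCat.of k)) := ⟨a⟩
      w = Module.finrank k (Coh.HH Y (Coh.structureModule Y) 0)) ∧
      ∀ (M : Y.Modules) (i : ℕ), (letI : Y.Over (Spec (CommRingCat.of k)) := ⟨a⟩; Module.finrank k (Coh.HH Y M i)) =
        w * (letI : Y.Over (Spec (CommRingCat.of K)) := ⟨b⟩; Module.finrank K (Coh.HH Y M i)) := by
  let κ := Coh.Γtop Y
  letI : CommRing κ := inferInstanceAs (CommRing Γ(Y, ⊤))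
  let ak : Algebra k κ := RingHom.toAlgebra (S := κ) (Coh.toGlobal a)
  let aK : Algebra K κ := RingHom.toAlgebra (S := κ) (Coh.toGlobal b)
  have hK : @Module.finrank K κ _ _ aK.toModule = 1 := by
    letI := aK
    rw [← (LinearEquiv.ofBijective (Algebra.linearMap K κ) hb).finrank_eq, Module.finrank_self]
  have hfinK : RingHom.Finite (A := K) (B := Γ(Y, ⊤)) (Coh.toGlobal b) := RingHom.Finite.of_surjective _ hb.2
  have hKM : ∀ (M : Y.Modules) (i : ℕ), (letI : Y.Over (Spec (CommRingCat.of K)) := ⟨b⟩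
      Module.finrank K (Coh.HH Y M i)) = Module.finrank κ (Coh.HH Y M i) := fun M i => by
    letI : Y.Over (Spec (CommRingCat.of K)) := ⟨b⟩
    refine (finrank_HH_tower K hF hfinK M i).trans ?_
    exact (congrArg (· * _) hK).trans (one_mul _)
  have hkM : ∀ (M : Y.Modules) (i : ℕ), (letI : Y.Over (Spec (CommRingCat.of k)) := ⟨a⟩
      Module.finrank k (Coh.HH Y M i)) = @Module.finrank k κ _ _ ak.toModule * Module.finrank κ (Coh.HH Y M i) :=
    fun M i => by
      letI : Y.Over (Spec (CommRingCat.of k)) := ⟨a⟩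
      exact finrank_HH_tower k hF hfin M i
  letI : Field κ := IsField.toField (R := κ) hF
  let O := Coh.structureModule Y
  let x₀ : Coh.HH Y O 0 := (CurveCoh17.hh0 O).symm (1 : Γ(Y, ⊤))
  have hval : ∀ c : κ, CurveCoh17.hh0 O (LinearMap.toSpanSingleton κ _ x₀ c) = (c : Γ(Y, ⊤)) := fun c => by
    refine (CurveCoh17.hh0_smul (M := O) c x₀).trans ?_
    exact (congrArg _ ((CurveCoh17.hh0 O).apply_symm_apply (1 : Γ(Y, ⊤)))).trans (mul_one (c : Γ(Y, ⊤)))
  have hbij : Function.Bijective (LinearMap.toSpanSingleton κ _ x₀) :=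
    ⟨fun c d h => ((hval c).symm.trans (congrArg _ h)).trans (hval d),
      fun z => ⟨_, (CurveCoh17.hh0 O).injective (hval _)⟩⟩
  refine ⟨@Module.finrank k κ _ _ ak.toModule, ?_, ?_, fun M i => by rw [hkM M i, hKM M i]⟩
  · letI := ak
    haveI : Module.Finite k κ := hfin
    exact Module.finrank_pos
  · rw [hkM O 0, ← (LinearEquiv.ofBijective _ hbij).finrank_eq, Module.finrank_self, mul_one]

theorem mul_finsum_natCast (w : ℕ) (f : ℕ → ℤ) : (w : ℤ) * ∑ᶠ i, f i = ∑ᶠ i, (w : ℤ) * f i := by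
  rcases eq_or_ne (w : ℤ) 0 with h | h
  · simp [h]
  · exact (AddMonoidHom.mulLeft (w : ℤ)).map_finsum_of_injective (mul_right_injective₀ h) f

theorem euler_deg_compare (k K : Type u) [Field k] [Field K] {Y : Scheme.{u}} (a : Y ⟶ Spec (CommRingCat.of k))
    (b : Y ⟶ Spec (CommRingCat.of K)) (w : ℕ)
    (h : ∀ (M : Y.Modules) (i : ℕ), (letI : Y.Over (Spec (CommRingCat.of k)) := ⟨a⟩; Module.finrank k (Coh.HH Y M i)) =
      w * (letI : Y.Over (Spec (CommRingCat.of K)) := ⟨b⟩; Module.finrank K (Coh.HH Y M i))) (M : Y.Modules) :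
    (letI : Y.Over (Spec (CommRingCat.of k)) := ⟨a⟩; Curv2.deg k Y M 1) =
      w * (letI : Y.Over (Spec (CommRingCat.of K)) := ⟨b⟩; Curv2.deg K Y M 1) := by
  have he : ∀ N : Y.Modules, (letI : Y.Over (Spec (CommRingCat.of k)) := ⟨a⟩; Curv2.euler k Y N) =
      w * (letI : Y.Over (Spec (CommRingCat.of K)) := ⟨b⟩; Curv2.euler K Y N) := fun N => by
    unfold Curv2.euler
    rw [mul_finsum_natCast]
    refine finsum_congr fun i => ?_
    rw [h N i]
    push_cast
    ring
  unfold Curv2.deg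
  rw [he, he]
  ring

theorem deg_pullback_of_iso {k : Type u} [Field k] {Y Z : Scheme.{u}} [Y.Over (Spec (CommRingCat.of k))]
    [Z.Over (Spec (CommRingCat.of k))] (f : Y ⟶ Z) [IsIso f] [f.IsOver (Spec (CommRingCat.of k))] (M : Z.Modules)
    (hM : Coh.IsQCoh M) :
    Curv2.deg k Y ((Scheme.Modules.pullback f).obj M) 1 = Curv2.deg k Z M 1 := by
  let E : Y.Modules ≌ Z.Modules := CategoryTheory.Equivalence.mk (Scheme.Modules.pushforward f) (Scheme.Modules.pushforward (inv f))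
    ((Scheme.Modules.pushforwardId Y).symm ≪≫ Scheme.Modules.pushforwardCongr (IsIso.hom_inv_id f).symm ≪≫
      (Scheme.Modules.pushforwardComp f (inv f)).symm)
    (Scheme.Modules.pushforwardComp (inv f) f ≪≫ Scheme.Modules.pushforwardCongr (IsIso.inv_hom_id f) ≪≫
      Scheme.Modules.pushforwardId Z)
  let u : Scheme.Modules.pullback f ≅ Scheme.Modules.pushforward (inv f) :=
    (Scheme.Modules.pullbackPushforwardAdjunction f).leftAdjointUniq E.symm.toAdjunction
  have hf : f ≫ (Z ↘ Spec (CommRingCat.of k)) = Y ↘ Spec (CommRingCat.of k) := comp_over f _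
  have hinv : inv f ≫ (Y ↘ Spec (CommRingCat.of k)) = Z ↘ Spec (CommRingCat.of k) := by
    rw [← hf, IsIso.inv_hom_id_assoc]
  have he : ∀ N : Z.Modules, Coh.IsQCoh N → Curv2.euler k Y ((Scheme.Modules.pushforward (inv f)).obj N) =
      Curv2.euler k Z N := fun N hN => finsum_congr fun i => by
    obtain ⟨e⟩ := AmpleFin18.nonempty_HH_push (inv f) hinv N hN i
    rw [e.finrank_eq]
  unfold Curv2.deg
  obtain ⟨θ⟩ := CurveCoh17.nonempty_pushO_iso (inv f)
  rw [CurveCoh17.euler_iso (u.app M), he M hM, CurveCoh17.euler_iso θ, he _ (M1.isQCoh_structureModule Z)]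

variable {R : Type u} [CommRing R] [IsDomain R] [IsDiscreteValuationRing R]
  {X : Over (Spec (CommRingCat.of R))}

theorem constants_curve (hX : IsSurf X) (Γ : ArSurf.VertComp R X) :
    IsField Γ(Γ.curve.left, ⊤) ∧
      RingHom.Finite (A := IsLocalRing.ResidueField R) (B := Γ(Γ.curve.left, ⊤)) (Coh.toGlobal Γ.curve.hom) := by
  haveI : IsProper Γ.curve.hom := isProper_curve hX Γ
  letI : Algebra (IsLocalRing.ResidueField R) Γ(Γ.curve.left, ⊤) :=
    RingHom.toAlgebra (S := Γ(Γ.curve.left, ⊤)) (Coh.toGlobal Γ.curve.hom)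
  haveI : Module.Finite (IsLocalRing.ResidueField R) Γ(Γ.curve.left, ⊤) := HensProper6.finite_toGlobal Γ.curve.hom
  exact ⟨isField_of_isIntegral_of_isField' (Field.toIsField (IsLocalRing.ResidueField R)),
    HensProper6.finite_toGlobal Γ.curve.hom⟩

/-- The numerical conditions follow from being exceptional. -/
theorem numerics_of_isExcCurve (hX : IsSurf X) (Γ : ArSurf.VertComp R X) (hΓ : BlowUp.IsEffCartierIdeal Γ.ι.ker)
    {L : X.left.Modules} (hL : ClSub.IsInverseOf L (ClSub.idealMod Γ.ι.ker)) (h : Models.IsExcCurve Γ.ι) :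
    Models.h1 R X Γ = 0 ∧ ArSurf.inter R X L Γ = -(Models.wdeg R X Γ : ℤ) := by
  obtain ⟨-, K, hK, e, ⟨eN⟩⟩ := h
  obtain ⟨hF, hfin⟩ := constants_curve hX Γ
  letI : (CohB1.ProjSpace 1 K).Over (Spec (CommRingCat.of K)) := ⟨CohB1.ProjSpace.toSpec 1 K⟩
  let b : Γ.curve.left ⟶ Spec (CommRingCat.of K) := e.inv ≫ CohB1.ProjSpace.toSpec 1 K
  haveI := RegExt.isIntegral_projSpace 1 K
  haveI : IsProper ((CohB1.ProjSpace 1 K) ↘ Spec (CommRingCat.of K)) := ProjSpace.isProper_toSpec 1 K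
  have hdimY : topologicalKrullDim (CohB1.ProjSpace 1 K) = 1 := by rw [Groth.Agent.S10829.result K 1]; rfl
  letI : Γ.curve.left.Over (Spec (CommRingCat.of K)) := ⟨b⟩
  haveI : e.inv.IsOver (Spec (CommRingCat.of K)) := ⟨rfl⟩
  have hb : Function.Bijective (Coh.toGlobal b : K →+* Γ(Γ.curve.left, ⊤)) := by
    haveI : IsProper b := by
      haveI : IsProper (CohB1.ProjSpace.toSpec 1 K) := ProjSpace.isProper_toSpec 1 K
      infer_instance
    letI : Algebra K Γ(Γ.curve.left, ⊤) := RingHom.toAlgebra (S := Γ(Γ.curve.left, ⊤)) (Coh.toGlobal b)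
    haveI : Module.Finite K Γ(Γ.curve.left, ⊤) := HensProper6.finite_toGlobal b
    obtain ⟨σ, hσ⟩ := CurveCoh17.exists_section_P1 K
    let v : Spec (CommRingCat.of K) ⟶ Γ.curve.left := σ ≫ e.hom
    have hv : v ≫ b = 𝟙 _ := by
      show (σ ≫ e.hom) ≫ e.inv ≫ CohB1.ProjSpace.toSpec 1 K = _
      rw [Category.assoc, e.hom_inv_id_assoc, hσ]
    let ev : Γ(Γ.curve.left, ⊤) →+* K := (Scheme.ΓSpecIso (CommRingCat.of K)).hom.hom.comp v.appTop.hom
    have hev : ∀ c, ev (Coh.toGlobal b c) = c := fun c => by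
      show (Scheme.ΓSpecIso (CommRingCat.of K)).hom (v.appTop (b.appTop ((Scheme.ΓSpecIso (CommRingCat.of K)).inv c))) = c
      rw [← ConcreteCategory.comp_apply b.appTop v.appTop, ← Scheme.Hom.comp_appTop, hv]
      exact (Scheme.ΓSpecIso (CommRingCat.of K)).inv_hom_id_apply c
    letI := hF.toField
    exact ⟨Function.LeftInverse.injective hev, Function.RightInverse.surjective
      (fun x => ev.injective (hev (ev x)) : Function.RightInverse ev (Coh.toGlobal b))⟩
  obtain ⟨w, hwpos, hw, hM⟩ := finrank_HH_compare (IsLocalRing.ResidueField R) K Γ.curve.hom b hF hfin hb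
  have hw' : Models.wdeg R X Γ = w := hw.symm
  have hcl : CurveCoh17.CurveLike K (CohB1.ProjSpace 1 K) := VB17.curveLike hdimY
  have h1P := CurveCoh17.genus_P1 (k := K)
  have hg0 : Module.finrank K (Coh.HH Γ.curve.left (Coh.structureModule Γ.curve.left) 1) = 0 := by
    refine Eq.trans ?_ h1P
    exact CurveCoh17.genus_eq_of_iso (k := K) e.inv rfl
  refine ⟨(hM _ 1).trans (by rw [hg0, mul_zero]), ?_⟩
  rw [inter_eq_neg_ideg hX Γ hΓ hL, hw', neg_inj]
  refine (euler_deg_compare _ _ Γ.curve.hom b w hM _).trans ?_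
  suffices hd : Curv2.deg K Γ.curve.left ((Scheme.Modules.pullback Γ.ι).obj (ClSub.idealMod Γ.ι.ker)) 1 = 1 by
    rw [hd, mul_one]
  let N := (Scheme.Modules.pullback Γ.ι).obj (ClSub.idealMod Γ.ι.ker)
  let M' : Γ.curve.left.Modules := (Scheme.Modules.pullback e.inv).obj (Twist.twistProjSpace 1 K 1)
  have eM : N ≅ M' :=
    ((Scheme.Modules.pullbackId _).app N).symm ≪≫
      (Scheme.Modules.pullbackCongr e.inv_hom_id.symm).app N ≪≫
      ((Scheme.Modules.pullbackComp e.inv e.hom).app N).symm ≪≫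
      (Scheme.Modules.pullback e.inv).mapIso (((Scheme.Modules.pullbackComp e.hom Γ.ι).app _) ≪≫ eN)
  rw [CurveCoh17.deg_iso eM]
  refine Eq.trans ?_ (CurveCoh17.deg_twistP1 K)
  exact deg_pullback_of_iso e.inv _ (CurveCoh17.isCoh_of_ofRank ((M2.isInvertible_iff_isFinLocFreeOfRank_one _).1 (Twist.isInvertible_twistProjSpace 1 K 1))).1

/-- Numerically exceptional curves are exceptional. -/
theorem isExcCurve_of_numerics (hX : IsSurf X) (Γ : ArSurf.VertComp R X) (hΓ : BlowUp.IsEffCartierIdeal Γ.ι.ker)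
    {L : X.left.Modules} (hL : ClSub.IsInverseOf L (ClSub.idealMod Γ.ι.ker))
    (h1 : Models.h1 R X Γ = 0) (hi : ArSurf.inter R X L Γ = -(Models.wdeg R X Γ : ℤ)) : Models.IsExcCurve Γ.ι := by
  obtain ⟨hF, hfin⟩ := constants_curve hX Γ
  letI : Field Γ(Γ.curve.left, ⊤) := hF.toField
  let K : Type u := Γ(Γ.curve.left, ⊤)
  let b : Γ.curve.left ⟶ Spec (CommRingCat.of K) := Γ.curve.left.toSpecΓ
  have hbid : ∀ c : K, (Coh.toGlobal b c : Γ(Γ.curve.left, ⊤)) = c := fun c => by
    show Γ.curve.left.toSpecΓ.appTop ((Scheme.ΓSpecIso _).inv c) = c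
    rw [Scheme.toSpecΓ_appTop]
    exact (Scheme.ΓSpecIso Γ(Γ.curve.left, ⊤)).inv_hom_id_apply c
  have hb : Function.Bijective (Coh.toGlobal b : K →+* Γ(Γ.curve.left, ⊤)) :=
    ⟨fun c d h => by rw [← hbid c, ← hbid d]; exact h, fun c => ⟨c, hbid c⟩⟩
  obtain ⟨w, hwpos, hw, hM⟩ := finrank_HH_compare (IsLocalRing.ResidueField R) K Γ.curve.hom b hF hfin hb
  have hw' : Models.wdeg R X Γ = w := hw.symm
  letI : Γ.curve.left.Over (Spec (CommRingCat.of K)) := ⟨b⟩
  haveI : IsProper Γ.curve.hom := isProper_curve hX Γ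
  haveI : IsProper b := by
    have e : b ≫ Spec.map ((Scheme.ΓSpecIso (CommRingCat.of (IsLocalRing.ResidueField R))).inv ≫ Γ.curve.hom.appTop) =
        Γ.curve.hom := by
      show Γ.curve.left.toSpecΓ ≫ _ = _
      rw [Spec.map_comp, ← Category.assoc, ← Scheme.toSpecΓ_naturality, Category.assoc,
        toSpecΓ_SpecMap_ΓSpecIso_inv, Category.comp_id]
    haveI : IsProper (b ≫ Spec.map ((Scheme.ΓSpecIso (CommRingCat.of (IsLocalRing.ResidueField R))).inv ≫
        Γ.curve.hom.appTop)) := by rw [e]; infer_instance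
    exact IsProper.of_comp b (Spec.map ((Scheme.ΓSpecIso (CommRingCat.of (IsLocalRing.ResidueField R))).inv ≫
        Γ.curve.hom.appTop))
  haveI : IsProper (Γ.curve.left ↘ Spec (CommRingCat.of K)) := ‹IsProper b›
  have hcl : CurveCoh17.CurveLike K Γ.curve.left := VB17.curveLike Γ.dim_eq
  let N := (Scheme.Modules.pullback Γ.ι).obj (ClSub.idealMod Γ.ι.ker)
  have hN : PicF.IsInvertible N := PicLoc.isInvertible_pullback Γ.ι (M2.isInvertible_idealMod _ hΓ)
  have hdeg : Curv2.deg K Γ.curve.left N 1 = 1 := by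
    have h := euler_deg_compare _ _ Γ.curve.hom b w hM N
    rw [inter_eq_neg_ideg hX Γ hΓ hL, hw', neg_inj] at hi
    rw [show (letI : Γ.curve.left.Over (Spec (CommRingCat.of (IsLocalRing.ResidueField R))) := ⟨Γ.curve.hom⟩
      Curv2.deg (IsLocalRing.ResidueField R) Γ.curve.left N 1) = w from hi] at h
    exact ((mul_eq_left₀ (Nat.cast_ne_zero.mpr hwpos.ne')).mp h.symm)
  have hg : Curv2.genus K Γ.curve.left = 0 := by
    have h := hM (Coh.structureModule Γ.curve.left) 1
    rw [show (letI : Γ.curve.left.Over (Spec (CommRingCat.of (IsLocalRing.ResidueField R))) := ⟨Γ.curve.hom⟩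
      Module.finrank (IsLocalRing.ResidueField R) (Coh.HH Γ.curve.left (Coh.structureModule Γ.curve.left) 1)) = 0 from h1] at h
    exact (Nat.mul_eq_zero.mp h.symm).resolve_left hwpos.ne'
  obtain ⟨e, he⟩ := CurveCoh17.exists_iso_P1 Γ.dim_eq hN hdeg (hcl.two_le_h0 hg hN hdeg)
  refine ⟨hΓ, K, inferInstance, e.symm, ?_⟩
  let M := (Scheme.Modules.pullback e.inv).obj N
  obtain ⟨d, ⟨ed⟩⟩ := PicPn.exists_iso_twist (n := 1) (R := K) (M := M) (PicLoc.isInvertible_pullback e.inv hN)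
  letI : (CohB1.ProjSpace 1 K).Over (Spec (CommRingCat.of K)) := ⟨CohB1.ProjSpace.toSpec 1 K⟩
  haveI : e.inv.IsOver (Spec (CommRingCat.of K)) := ⟨by rw [← he, e.inv_hom_id_assoc]; rfl⟩
  have hd : d = 1 := by
    have h2 : Curv2.deg K (CohB1.ProjSpace 1 K) M 1 = 1 := (deg_pullback_of_iso e.inv N (Snapper.isCoh_of_isInvertible hN).1).trans hdeg
    rw [CurveCoh17.deg_iso (F := Twist.twistProjSpace 1 K d) ed] at h2
    have h3 := GenusFF17.euler_twist (k := K) d
    have h4 : Curv2.euler K (CohB1.ProjSpace 1 K) (Coh.structureModule (CohB1.ProjSpace 1 K)) = 1 := by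
      have h5 := GenusFF17.euler_twist (k := K) 1
      have h6 := CurveCoh17.deg_twistP1 K
      rw [Curv2.deg, h5] at h6
      push_cast at h6
      linarith
    rw [Curv2.deg, h3, h4] at h2
    push_cast at h2
    linarith
  subst hd
  exact ⟨((Scheme.Modules.pullbackComp e.inv Γ.ι).app (ClSub.idealMod Γ.ι.ker)).symm ≪≫ ed⟩

end Groth.Agent.ArInter
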