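import Groth.Agent.Lib.ArInter.Deg
import Groth.Agent.Lib.SecDiv18.Peel
import Groth.Agent.Lib.DivDesc12.Point
import Groth.Agent.Lib.CurveCoh17.IdealPow
import Groth.Agent.Lib.TensorMod.InvCrit
import Groth.Agent.Lib.Twist.Triv
import Mathlib.RingTheory.OrderOfVanishing.Basic

/-!
# The closed fibre of an arithmetic surface as a divisor
-/

set_option autoImplicit false
set_option linter.style.haveILetI false
set_option backward.isDefEq.respectTransparency false

set_option linter.unusedSectionVars false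

universe u

open CategoryTheory CategoryTheory.Limits AlgebraicGeometry TopologicalSpace Opposite

namespace Groth.Agent.ArInter

variable {R : Type u} [CommRing R] [IsDomain R] [IsDiscreteValuationRing R]
  {X : Over (Spec (CommRingCat.of R))}

theorem isNoetherian_left (hX : IsPre X) : IsNoetherian X.left := by
  haveI := hX.lft
  haveI := hX.qc
  haveI : IsLocallyNoetherian X.left := LocallyOfFiniteType.isLocallyNoetherian X.hom
  haveI : CompactSpace X.left := QuasiCompact.compactSpace_of_compactSpace X.hom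
  exact {}

/-! ### Vertical curves as divisors -/

theorem isEffCartierIdeal_ker {Γ : ArSurf.VertComp R X} {L : X.left.Modules}
    (hL : ClSub.IsInverseOf L (ClSub.idealMod Γ.ι.ker)) : BlowUp.IsEffCartierIdeal Γ.ι.ker := by
  obtain ⟨e⟩ := hL
  exact SecDiv.isEffCartierIdeal_of_isInvertible _
    (M2.isInvertible_of_tensor_iso_unit _ L (M2.tensorComm _ _ ≪≫ e))

theorem range_eq_closure (Γ : ArSurf.VertComp R X) :
    Set.range Γ.ι.base = closure {Models.genPtOf R X Γ} := by
  have h := ((genericPoint_spec Γ.curve.left).image Γ.ι.continuous).def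
  rw [Set.image_univ, Γ.ι.isClosedEmbedding.isClosed_range.closure_eq] at h
  exact h.symm

theorem genPtOf_mem_range (Γ : ArSurf.VertComp R X) : Models.genPtOf R X Γ ∈ Set.range Γ.ι.base := ⟨_, rfl⟩

theorem coe_support_ker (Γ : ArSurf.VertComp R X) : (Γ.ι.ker.support : Set X.left) = Set.range Γ.ι.base := by
  rw [Scheme.Hom.support_ker]
  exact Γ.ι.isClosedEmbedding.isClosed_range.closure_eq

theorem ker_eq_of_range_eq {Γ Δ : ArSurf.VertComp R X} (h : Set.range Γ.ι.base = Set.range Δ.ι.base) :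
    Γ.ι.ker = Δ.ι.ker := by
  rw [RedSepLib.ker_eq_vanishingIdeal, RedSepLib.ker_eq_vanishingIdeal]
  exact congrArg (fun s => Scheme.IdealSheafData.vanishingIdeal (Closeds.closure s)) h

theorem le_ker_of_genPtOf_mem {Γ : ArSurf.VertComp R X} {D : X.left.IdealSheafData}
    (h : Models.genPtOf R X Γ ∈ (D.support : Set X.left)) : D ≤ Γ.ι.ker := by
  rw [RedSepLib.ker_eq_vanishingIdeal]
  refine Scheme.IdealSheafData.le_support_iff_le_vanishingIdeal.mp ?_
  change closure (Set.range Γ.ι.base) ⊆ (D.support : Set X.left)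
  rw [range_eq_closure, closure_closure]
  exact D.support.isClosed.closure_subset_iff.mpr (Set.singleton_subset_iff.mpr h)

theorem ringKrullDim_genPtOf (hX : IsPre X) {Γ : ArSurf.VertComp R X}
    (hE : BlowUp.IsEffCartierIdeal Γ.ι.ker) :
    ringKrullDim (X.left.presheaf.stalk (Models.genPtOf R X Γ)) = 1 := by
  haveI := isNoetherian_left hX
  refine SecDiv.ringKrullDim_generic hE ((coe_support_ker Γ).ge (genPtOf_mem_range Γ)) fun w hw hwy => ?_
  rw [coe_support_ker, range_eq_closure, ← specializes_iff_mem_closure] at hw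
  exact (hwy.antisymm hw).eq

/-- Distinct vertical curves do not contain each other. -/
theorem genPtOf_notMem_range (hX : IsPre X) {Γ Δ : ArSurf.VertComp R X}
    (hΓ : BlowUp.IsEffCartierIdeal Γ.ι.ker) (hΔ : BlowUp.IsEffCartierIdeal Δ.ι.ker)
    (h : Set.range Γ.ι.base ≠ Set.range Δ.ι.base) : Models.genPtOf R X Γ ∉ Set.range Δ.ι.base := by
  intro hm
  haveI := isNoetherian_left hX
  rw [range_eq_closure, ← specializes_iff_mem_closure] at hm
  have hne : Models.genPtOf R X Δ ≠ Models.genPtOf R X Γ := fun he =>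
    h (by rw [range_eq_closure, range_eq_closure, he])
  have h2 := SecDiv.two_le_of_specializes hm hne (ringKrullDim_genPtOf hX hΔ)
  rw [ringKrullDim_genPtOf hX hΓ] at h2
  exact absurd h2 (by decide)

/-! ### The fibre ideal -/

variable (X) in
/-- An element of the base as a function on the surface. -/
noncomputable def glob (r : R) : Γ(X.left, ⊤) := Coh.toGlobal X.hom r

theorem glob_res_ne_zero (hX : IsPre X) {r : R} (hr : r ≠ 0) (U : X.left.Opens) [hU : Nonempty U] :
    (X.left.presheaf.map (homOfLE (le_top : U ≤ ⊤)).op) (glob X r) ≠ 0 := by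
  obtain ⟨x, hx⟩ := hU
  obtain ⟨W, hW, hxW, hWU⟩ := exists_isAffineOpen_mem_and_subset (U := U) hx
  intro h0
  haveI : Nonempty W := ⟨⟨x, hxW⟩⟩
  haveI := hX.flat
  have hf : (X.hom.appLE ⊤ W le_top).hom.Flat := Flat.flat_appLE X.hom (isAffineOpen_top _) hW le_top
  have h1 : (X.hom.appLE ⊤ W le_top) ((Scheme.ΓSpecIso (CommRingCat.of R)).inv r) = 0 := by
    have e : X.hom.appLE ⊤ W le_top =
        X.hom.app ⊤ ≫ X.left.presheaf.map (homOfLE (le_top : U ≤ ⊤)).op ≫ X.left.presheaf.map (homOfLE hWU).op := by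
      rw [Scheme.Hom.appLE, ← Functor.map_comp]
      rfl
    rw [e]
    exact (congrArg (X.left.presheaf.map (homOfLE hWU).op) h0).trans (map_zero _)
  letI := (X.hom.appLE ⊤ W le_top).hom.toAlgebra
  haveI : Module.Flat Γ(Spec (CommRingCat.of R), ⊤) Γ(X.left, W) := hf
  have hreg : IsSMulRegular Γ(X.left, W) ((Scheme.ΓSpecIso (CommRingCat.of R)).inv r) := by
    refine IsSMulRegular.of_flat ?_
    refine IsRegular.left ?_
    exact isRegular_iff_mem_nonZeroDivisors.mpr (mem_nonZeroDivisors_of_ne_zero fun h =>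
      hr ((ConcreteCategory.bijective_of_isIso (Scheme.ΓSpecIso (CommRingCat.of R)).inv).1 (h.trans (map_zero _).symm)))
  have h2 := hreg (a₁ := (1 : Γ(X.left, W))) (a₂ := 0) (by
    show _ • (1 : Γ(X.left, W)) = _ • 0
    rw [smul_zero, Algebra.smul_def, mul_one]
    exact h1)
  exact one_ne_zero h2

theorem mono_secHom_glob (hX : IsPre X) {r : R} (hr : r ≠ 0) :
    Mono (M1.secHom (M := Coh.structureModule X.left) (glob X r)) := by
  haveI := hX.integral
  refine (M1.mono_iff_app _).mpr fun U => ?_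
  rcases isEmpty_or_nonempty U with hU | hU
  · intro a b _
    exact TopCat.Presheaf.section_ext X.left.sheaf U a b fun z hz => (hU.false ⟨z, hz⟩).elim
  · intro a b hab
    rw [Twist.secHom_app, Twist.secHom_app] at hab
    exact mul_right_cancel₀ (b := (X.left.presheaf.map (homOfLE (le_top : U ≤ ⊤)).op) (glob X r)) (M₀ := Γ(X.left, U)) (glob_res_ne_zero hX hr U) hab

variable (X) in
/-- The ideal sheaf of the closed fibre, cut out by a uniformizer. -/
noncomputable def fibreIdeal (π : R) : X.left.IdealSheafData :=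
  haveI := M1.isQCoh_structureModule X.left
  SecDiv.ofMono (M1.secHom (M := Coh.structureModule X.left) (glob X π))

theorem ideal_fibreIdeal (π : R) (U : X.left.affineOpens) :
    (fibreIdeal X π).ideal U =
      Ideal.span {(X.left.presheaf.map (homOfLE (le_top : U.1 ≤ ⊤)).op) (glob X π)} := by
  ext s
  rw [Ideal.mem_span_singleton']
  constructor
  · rintro ⟨a, rfl⟩
    exact ⟨a, (Twist.secHom_app (M := Coh.structureModule X.left) (glob X π) U.1 a).symm⟩
  · rintro ⟨a, rfl⟩
    exact ⟨a, Twist.secHom_app (M := Coh.structureModule X.left) (glob X π) U.1 a⟩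

theorem stI_fibreIdeal (π : R) (x : X.left) :
    DivDesc12.stI (fibreIdeal X π) x = Ideal.span {Models.stalkHom R X x π} := by
  obtain ⟨U, hU, hx⟩ := DivDesc12.exists_affine x
  rw [DivDesc12.stI_eq _ ⟨U, hU⟩ hx, ideal_fibreIdeal, Ideal.map_span, Set.image_singleton]
  congr 2
  exact TopCat.Presheaf.germ_res_apply _ _ x hx _

theorem mem_support_fibreIdeal {π : R} (hπ : Irreducible π) (x : X.left) :
    x ∈ (fibreIdeal X π).support ↔ x ∈ Models.specialFibreSet R X := by
  obtain ⟨U, hU, hx⟩ := DivDesc12.exists_affine x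
  rw [Scheme.IdealSheafData.mem_support_iff_of_mem (U := ⟨U, hU⟩) hx, ideal_fibreIdeal,
    Scheme.zeroLocus_span, Scheme.mem_zeroLocus_iff]
  simp only [Set.mem_singleton_iff, forall_eq]
  rw [Scheme.basicOpen_res]
  have h1 : X.left.basicOpen (glob X π) = X.hom ⁻¹ᵁ (PrimeSpectrum.basicOpen π) := by
    rw [← basicOpen_eq_of_affine (R := CommRingCat.of R) π, Scheme.preimage_basicOpen]
    rfl
  rw [h1]
  show ¬ (x ∈ U ∧ ¬ π ∈ (X.hom.base x).asIdeal) ↔ X.hom.base x = IsLocalRing.closedPoint R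
  simp only [hx, true_and, not_not]
  refine ⟨fun h => ?_, fun h => h ▸ (hπ.not_isUnit : π ∈ IsLocalRing.maximalIdeal R)⟩
  apply PrimeSpectrum.ext
  haveI := (X.hom.base x).isPrime
  refine ((IsLocalRing.le_maximalIdeal (Ideal.IsPrime.ne_top inferInstance)).antisymm ?_)
  rw [IsDiscreteValuationRing.irreducible_iff_uniformizer π |>.mp hπ]
  exact (Ideal.span_singleton_le_iff_mem _).mpr h

theorem genPtOf_mem_specialFibreSet (Γ : ArSurf.VertComp R X) :
    Models.genPtOf R X Γ ∈ Models.specialFibreSet R X := by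
  show X.hom.base (Γ.ι.base _) = _
  rw [← Scheme.Hom.comp_apply, Γ.w, Scheme.Hom.comp_apply]
  apply PrimeSpectrum.ext
  show Ideal.comap (IsLocalRing.residue R) (Γ.curve.hom.base _).asIdeal = IsLocalRing.maximalIdeal R
  haveI := (Γ.curve.hom.base (genericPoint Γ.curve.left)).isPrime
  rw [(Ideal.eq_bot_or_top (Γ.curve.hom.base (genericPoint Γ.curve.left)).asIdeal).resolve_right
    (Ideal.IsPrime.ne_top inferInstance), ← RingHom.ker_eq_comap_bot, IsLocalRing.ker_residue]

theorem isEffCartierIdeal_fibreIdeal (hX : IsPre X) {π : R} (hπ : π ≠ 0) :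
    BlowUp.IsEffCartierIdeal (fibreIdeal X π) := by
  haveI := hX.integral
  intro x
  obtain ⟨U, hU, hx⟩ := DivDesc12.exists_affine x
  haveI : Nonempty U := ⟨⟨x, hx⟩⟩
  exact ⟨⟨U, hU⟩, hx, _, mem_nonZeroDivisors_of_ne_zero (glob_res_ne_zero hX hπ U), ideal_fibreIdeal π ⟨U, hU⟩⟩

theorem nonempty_idealMod_fibreIdeal (hX : IsPre X) {π : R} (hπ : π ≠ 0) :
    Nonempty (Coh.structureModule X.left ≅ ClSub.idealMod (fibreIdeal X π)) := by
  haveI := M1.isQCoh_structureModule X.left
  haveI := mono_secHom_glob hX hπ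
  exact SecDiv.nonempty_iso_idealMod (M1.secHom (M := Coh.structureModule X.left) (glob X π))

/-! ### Peeling the components off the fibre -/

theorem support_finsetProd {T : Type*} (E : T → X.left.IdealSheafData) (a : T → ℕ) (s : Finset T) {x : X.left}
    (hx : x ∈ (∏ p ∈ s, E p ^ a p).support) : ∃ p ∈ s, a p ≠ 0 ∧ x ∈ (E p).support := by
  classical
  induction s using Finset.induction_on with
  | empty =>
    rw [Finset.prod_empty, Scheme.IdealSheafData.one_eq_top, Scheme.IdealSheafData.support_top] at hx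
    exact hx.elim
  | insert p s hp ih =>
    rw [Finset.prod_insert hp, Scheme.IdealSheafData.support_mul] at hx
    rcases hx with hx | hx
    · rcases eq_or_ne (a p) 0 with h0 | h0
      · rw [h0, pow_zero, Scheme.IdealSheafData.one_eq_top, Scheme.IdealSheafData.support_top] at hx
        exact hx.elim
      · rw [Scheme.IdealSheafData.support_pow _ _ h0] at hx
        exact ⟨p, Finset.mem_insert_self _ _, h0, hx⟩
    · obtain ⟨q, hq, h⟩ := ih hx
      exact ⟨q, Finset.mem_insert_of_mem hq, h⟩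

theorem isEffCartierIdeal_finsetProd {T : Type*} (E : T → X.left.IdealSheafData) (a : T → ℕ)
    (hE : ∀ p, BlowUp.IsEffCartierIdeal (E p)) (s : Finset T) :
    BlowUp.IsEffCartierIdeal (∏ p ∈ s, E p ^ a p) := by
  classical
  induction s using Finset.induction_on with
  | empty =>
    rw [Finset.prod_empty, Scheme.IdealSheafData.one_eq_top]
    exact EffCartier.isEffCartierIdeal_top
  | insert p s hp ih =>
    rw [Finset.prod_insert hp]
    exact EffCartier.isEffCartierIdeal_mul (BlowUpExist.isEffCartierIdeal_pow (hE p) _) ih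

theorem exists_decomp (hX : IsPre X) {π : R} (hπ : Irreducible π) {T : Type*} [Fintype T]
    (Γ : T → ArSurf.VertComp R X) (hE : ∀ p, BlowUp.IsEffCartierIdeal (Γ p).ι.ker)
    (hinj : Function.Injective fun p => Set.range (Γ p).ι.base) :
    ∃ (a : T → ℕ) (Q : X.left.IdealSheafData), fibreIdeal X π = (∏ p, (Γ p).ι.ker ^ a p) * Q ∧
      BlowUp.IsEffCartierIdeal Q ∧ (∀ p, 0 < a p) ∧ (∀ p, Models.genPtOf R X (Γ p) ∉ (Q.support : Set X.left)) := by
  haveI := isNoetherian_left hX
  have hF := isEffCartierIdeal_fibreIdeal hX hπ.ne_zero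
  have hnd : ∀ p (J : X.left.IdealSheafData), fibreIdeal X π ≤ J → J ≤ (Γ p).ι.ker → J * (Γ p).ι.ker ≠ J := by
    intro p J hJ _ he
    obtain ⟨y, hyJ, -, hmax⟩ := SecDiv.exists_maximal_of_colon_eq (hE p) he
      ((coe_support_ker (Γ p)).ge (genPtOf_mem_range (Γ p)))
    obtain ⟨w, hw, hne⟩ := SecDiv.exists_proper_generisation hF (Scheme.IdealSheafData.support_antitone hJ hyJ)
    exact hne (hmax w hw)
  obtain ⟨a, Q, hZ, -, hno⟩ := SecDiv.exists_peel (fun p => (Γ p).ι.ker) hE (fibreIdeal X π) hnd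
  rw [Finsupp.prod_fintype _ _ fun p => pow_zero _] at hZ
  refine ⟨a, Q, hZ, EffCartier.isEffCartierIdeal_of_mul_right (hZ ▸ hF), fun p => ?_,
    fun p h => hno p (le_ker_of_genPtOf_mem h)⟩
  by_contra h0
  have hm := (mem_support_fibreIdeal hπ _).mpr (genPtOf_mem_specialFibreSet (Γ p))
  rw [hZ, Scheme.IdealSheafData.support_mul] at hm
  rcases hm with hm | hm
  · obtain ⟨q, -, hq0, hq⟩ := support_finsetProd _ _ _ hm
    have hne : p ≠ q := by
      rintro rfl
      exact h0 (Nat.pos_of_ne_zero hq0)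
    exact genPtOf_notMem_range hX (hE p) (hE q) (fun h => hne (hinj h)) ((coe_support_ker (Γ q)).le hq)
  · exact hno p (le_ker_of_genPtOf_mem hm)

/-- If the components cover the fibre nothing is left over. -/
theorem eq_top_of_cover (hX : IsPre X) {π : R} (hπ : Irreducible π) {T : Type*} [Fintype T]
    (Γ : T → ArSurf.VertComp R X) (hE : ∀ p, BlowUp.IsEffCartierIdeal (Γ p).ι.ker)
    (hcov : ∀ x ∈ Models.specialFibreSet R X, ∃ p, x ∈ Set.range (Γ p).ι.base)
    {a : T → ℕ} {Q : X.left.IdealSheafData} (hZ : fibreIdeal X π = (∏ p, (Γ p).ι.ker ^ a p) * Q)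
    (hQ : BlowUp.IsEffCartierIdeal Q) (hno : ∀ p, Models.genPtOf R X (Γ p) ∉ (Q.support : Set X.left)) :
    Q = ⊤ := by
  haveI := isNoetherian_left hX
  rw [← Scheme.IdealSheafData.support_eq_bot_iff]
  ext z
  refine ⟨fun hz => ?_, fun h => h.elim⟩
  obtain ⟨y, hy, -, hymax⟩ := SecDiv.exists_maximal_generisation Q hz
  have hy1 := SecDiv.ringKrullDim_generic hQ hy hymax
  have hyF : y ∈ (fibreIdeal X π).support := by
    rw [hZ, Scheme.IdealSheafData.support_mul]
    exact Or.inr hy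
  obtain ⟨p, hp⟩ := hcov y ((mem_support_fibreIdeal hπ y).mp hyF)
  rw [range_eq_closure, ← specializes_iff_mem_closure] at hp
  have hne : Models.genPtOf R X (Γ p) ≠ y := fun he => hno p (he ▸ hy)
  have h2 := SecDiv.two_le_of_specializes hp hne (ringKrullDim_genPtOf hX (hE p))
  rw [hy1] at h2
  exact absurd h2 (by decide)

/-! ### Degrees of effective divisors on a vertical curve -/

/-- The degree of the ideal module of a divisor on a vertical curve. -/
noncomputable def ideg (Δ : ArSurf.VertComp R X) (D : X.left.IdealSheafData) : ℤ :=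
  Curv2.deg (IsLocalRing.ResidueField R) Δ.curve.left ((Scheme.Modules.pullback Δ.ι).obj (ClSub.idealMod D)) 1

theorem ideg_mul (hX : IsSurf X) (Δ : ArSurf.VertComp R X) {D D' : X.left.IdealSheafData}
    (hD : BlowUp.IsEffCartierIdeal D) (hD' : BlowUp.IsEffCartierIdeal D') :
    ideg Δ (D * D') = ideg Δ D + ideg Δ D' := by
  haveI : IsProper (Δ.curve.left ↘ Spec (CommRingCat.of (IsLocalRing.ResidueField R))) := isProper_curve hX Δ
  have hc := CurveAmple18.curveLike (IsLocalRing.ResidueField R) Δ.curve.left Δ.dim_eq.le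
  obtain ⟨e⟩ := CurveCoh17.nonempty_idealMod_mul hD hD'
  unfold ideg
  rw [← CurveCoh17.deg_iso ((M2.pullTensorIso Δ.ι _ _).symm ≪≫ (Scheme.Modules.pullback Δ.ι).mapIso e)]
  exact hc.deg_tensor_invertible (PicLoc.isInvertible_pullback Δ.ι (M2.isInvertible_idealMod _ hD))
    (PicLoc.isInvertible_pullback Δ.ι (M2.isInvertible_idealMod _ hD'))

theorem ideg_eq_zero_of_iso (Δ : ArSurf.VertComp R X) {D : X.left.IdealSheafData}
    (e : Coh.structureModule X.left ≅ ClSub.idealMod D) : ideg Δ D = 0 := by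
  unfold ideg
  rw [CurveCoh17.deg_iso ((Scheme.Modules.pullback Δ.ι).mapIso e.symm ≪≫ PicLoc.pullbackStructureIso Δ.ι),
    CurveCoh17.deg_structureModule]

theorem ideg_top (hX : IsSurf X) (Δ : ArSurf.VertComp R X) :
    ideg Δ (⊤ : X.left.IdealSheafData) = 0 := by
  have h := ideg_mul hX Δ (EffCartier.isEffCartierIdeal_top (X := X.left)) EffCartier.isEffCartierIdeal_top
  rw [SecDiv.mul_top'] at h
  linarith

theorem ideg_pow (hX : IsSurf X) (Δ : ArSurf.VertComp R X) {D : X.left.IdealSheafData}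
    (hD : BlowUp.IsEffCartierIdeal D) : ∀ n : ℕ, ideg Δ (D ^ n) = n * ideg Δ D
  | 0 => by rw [pow_zero, Scheme.IdealSheafData.one_eq_top, ideg_top hX, Nat.cast_zero, zero_mul]
  | n + 1 => by
    rw [pow_succ, ideg_mul hX Δ (BlowUpExist.isEffCartierIdeal_pow hD n) hD, ideg_pow hX Δ hD n]
    push_cast
    ring

theorem ideg_finsetProd (hX : IsSurf X) (Δ : ArSurf.VertComp R X) {T : Type*}
    (E : T → X.left.IdealSheafData) (a : T → ℕ) (hE : ∀ p, BlowUp.IsEffCartierIdeal (E p)) (s : Finset T) :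
    ideg Δ (∏ p ∈ s, E p ^ a p) = ∑ p ∈ s, (a p : ℤ) * ideg Δ (E p) := by
  classical
  induction s using Finset.induction_on with
  | empty => rw [Finset.prod_empty, Finset.sum_empty, Scheme.IdealSheafData.one_eq_top, ideg_top hX]
  | insert p s hp ih =>
    rw [Finset.prod_insert hp, Finset.sum_insert hp,
      ideg_mul hX Δ (BlowUpExist.isEffCartierIdeal_pow (hE p) _) (isEffCartierIdeal_finsetProd E a hE s),
      ideg_pow hX Δ (hE p), ih]

theorem inter_eq_neg_ideg (hX : IsSurf X) (Δ : ArSurf.VertComp R X) {D : X.left.IdealSheafData}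
    (hD : BlowUp.IsEffCartierIdeal D) {L : X.left.Modules} (hL : ClSub.IsInverseOf L (ClSub.idealMod D)) :
    ArSurf.inter R X L Δ = -ideg Δ D := by
  haveI : IsProper (Δ.curve.left ↘ Spec (CommRingCat.of (IsLocalRing.ResidueField R))) := isProper_curve hX Δ
  have hc := CurveAmple18.curveLike (IsLocalRing.ResidueField R) Δ.curve.left Δ.dim_eq.le
  haveI := hc.noetherian
  obtain ⟨e⟩ := hL
  have hI := M2.isInvertible_idealMod D hD
  have hLC := PicLoc.isInvertible_pullback Δ.ι (M2.isInvertible_of_tensor_iso hI e)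
  have h := hc.deg_tensor_invertible hLC (PicLoc.isInvertible_pullback Δ.ι hI)
  rw [CurveCoh17.deg_iso ((M2.pullTensorIso Δ.ι L (ClSub.idealMod D)).symm ≪≫
    (Scheme.Modules.pullback Δ.ι).mapIso e ≪≫ PicLoc.pullbackStructureIso Δ.ι),
    CurveCoh17.deg_structureModule] at h
  unfold ArSurf.inter ideg
  rw [curveDeg_eq_deg hX Δ (Snapper.isCoh_of_isInvertible hLC)]
  linarith

theorem ideg_eq_neg_lengthH (hX : IsSurf X) (Δ : ArSurf.VertComp R X) {D : X.left.IdealSheafData}
    (hD : BlowUp.IsEffCartierIdeal D) (hΔ : Models.genPtOf R X Δ ∉ (D.support : Set X.left)) :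
    ideg Δ D = -(Models.lengthH R X (ClSub.quotMod (D ⊔ Δ.ι.ker)) 0 : ℤ) := by
  obtain ⟨L, -, ⟨e⟩⟩ := M2.exists_inverse (M2.isInvertible_idealMod D hD)
  have hL : ClSub.IsInverseOf L (ClSub.idealMod D) := ⟨M2.tensorComm _ _ ≪≫ e⟩
  rw [← inter_eq_lengthH hX Δ hD hΔ hL, inter_eq_neg_ideg hX Δ hD hL, neg_neg]

/-- The relation given by the closed fibre. -/
theorem sum_mul_inter (hX : IsSurf X) {π : R} (hπ : Irreducible π) {T : Type*} [Fintype T]
    (Γ : T → ArSurf.VertComp R X) (L : T → X.left.Modules)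
    (hL : ∀ p, ClSub.IsInverseOf (L p) (ClSub.idealMod (Γ p).ι.ker))
    {a : T → ℕ} {Q : X.left.IdealSheafData} (hZ : fibreIdeal X π = (∏ p, (Γ p).ι.ker ^ a p) * Q)
    (hQ : BlowUp.IsEffCartierIdeal Q) (Δ : ArSurf.VertComp R X) :
    ∑ p, (a p : ℤ) * ArSurf.inter R X (L p) Δ = ideg Δ Q := by
  have hE := fun p => isEffCartierIdeal_ker (hL p)
  obtain ⟨e⟩ := nonempty_idealMod_fibreIdeal hX.pre hπ.ne_zero
  have h0 := ideg_eq_zero_of_iso Δ e
  rw [hZ, ideg_mul hX Δ (isEffCartierIdeal_finsetProd _ _ hE _) hQ, ideg_finsetProd hX Δ _ _ hE] at h0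
  have h1 : ∑ p, (a p : ℤ) * ArSurf.inter R X (L p) Δ = -∑ p, (a p : ℤ) * ideg Δ (Γ p).ι.ker := by
    rw [← Finset.sum_neg_distrib]
    refine Finset.sum_congr rfl fun p _ => ?_
    rw [inter_eq_neg_ideg hX Δ (hE p) (hL p)]
    ring
  rw [h1]
  linarith

/-! ### Multiplicities -/

theorem mem_maximalIdeal_iff_app_eq_zero (Γ : ArSurf.VertComp R X) (U : X.left.affineOpens)
    (hU : Models.genPtOf R X Γ ∈ U.1) (b : Γ(X.left, U.1)) :
    b ∈ Γ.ι.ker.ideal U ↔
      X.left.presheaf.germ U.1 (Models.genPtOf R X Γ) hU b ∈ IsLocalRing.maximalIdeal _ := by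
  rw [Scheme.Hom.ker_apply, RingHom.mem_ker, IsLocalRing.mem_maximalIdeal, mem_nonunits_iff]
  haveI : Nonempty (Γ.ι ⁻¹ᵁ U.1) := ⟨⟨genericPoint Γ.curve.left, hU⟩⟩
  have h1 : Γ.ι.app U.1 b = 0 ↔
      Γ.ι.stalkMap (genericPoint Γ.curve.left) (X.left.presheaf.germ U.1 (Models.genPtOf R X Γ) hU b) = 0 := by
    rw [show X.left.presheaf.germ U.1 (Models.genPtOf R X Γ) hU b =
      X.left.presheaf.germ U.1 (Γ.ι (genericPoint Γ.curve.left)) hU b from rfl, Scheme.Hom.germ_stalkMap_apply]
    exact (map_eq_zero_iff _ (Scheme.germToFunctionField_injective Γ.curve.left (Γ.ι ⁻¹ᵁ U.1))).symm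
  rw [h1]
  constructor
  · intro h hu
    exact not_isUnit_zero (h ▸ hu.map (Γ.ι.stalkMap (genericPoint Γ.curve.left)).hom :)
  · intro h
    by_contra hne
    exact h ((isUnit_map_iff (Γ.ι.stalkMap (genericPoint Γ.curve.left)).hom _).mp
      (isUnit_iff_ne_zero (G₀ := Γ.curve.left.functionField).mpr hne))

theorem stI_ker_genPtOf (Γ : ArSurf.VertComp R X) :
    DivDesc12.stI Γ.ι.ker (Models.genPtOf R X Γ) = IsLocalRing.maximalIdeal _ := by
  obtain ⟨U, hU, hx⟩ := DivDesc12.exists_affine (Models.genPtOf R X Γ)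
  rw [DivDesc12.stI_eq _ ⟨U, hU⟩ hx]
  refine le_antisymm (Ideal.map_le_iff_le_comap.mpr fun b hb =>
    (mem_maximalIdeal_iff_app_eq_zero Γ ⟨U, hU⟩ hx b).mp hb) fun z hz => ?_
  letI := X.left.presheaf.algebra_section_stalk (⟨_, hx⟩ : U)
  haveI := hU.isLocalization_stalk ⟨_, hx⟩
  obtain ⟨⟨b, s⟩, hbs⟩ := IsLocalization.surj (hU.primeIdealOf ⟨_, hx⟩).asIdeal.primeCompl z
  have hs : IsUnit (algebraMap Γ(X.left, U) (X.left.presheaf.stalk (Models.genPtOf R X Γ)) s.1) :=
    IsLocalization.map_units _ s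
  have hb : b ∈ Γ.ι.ker.ideal ⟨U, hU⟩ := (mem_maximalIdeal_iff_app_eq_zero Γ ⟨U, hU⟩ hx b).mpr
    (hbs ▸ Ideal.mul_mem_right _ _ hz :)
  refine (Ideal.mul_unit_mem_iff_mem _ hs).mp ?_
  rw [hbs]
  exact Ideal.mem_map_of_mem _ hb

theorem stI_mul (I J : X.left.IdealSheafData) (x : X.left) :
    DivDesc12.stI (I * J) x = DivDesc12.stI I x * DivDesc12.stI J x := by
  obtain ⟨U, hU, hx⟩ := DivDesc12.exists_affine x
  rw [DivDesc12.stI_eq _ ⟨U, hU⟩ hx, DivDesc12.stI_eq _ ⟨U, hU⟩ hx, DivDesc12.stI_eq _ ⟨U, hU⟩ hx,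
    Scheme.IdealSheafData.ideal_mul, Pi.mul_apply, Ideal.map_mul]

theorem stI_pow (I : X.left.IdealSheafData) (x : X.left) :
    ∀ n : ℕ, DivDesc12.stI (I ^ n) x = DivDesc12.stI I x ^ n
  | 0 => by rw [pow_zero, pow_zero, Scheme.IdealSheafData.one_eq_top, DivDesc12.stI_top, Ideal.one_eq_top]
  | n + 1 => by rw [pow_succ, pow_succ, stI_mul, stI_pow I x n]

theorem stI_finsetProd {T : Type*} (E : T → X.left.IdealSheafData) (a : T → ℕ) (x : X.left) (s : Finset T) :
    DivDesc12.stI (∏ p ∈ s, E p ^ a p) x = ∏ p ∈ s, DivDesc12.stI (E p) x ^ a p := by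
  classical
  induction s using Finset.induction_on with
  | empty => rw [Finset.prod_empty, Finset.prod_empty, Scheme.IdealSheafData.one_eq_top, DivDesc12.stI_top, Ideal.one_eq_top]
  | insert p s hp ih => rw [Finset.prod_insert hp, Finset.prod_insert hp, stI_mul, stI_pow, ih]

theorem stI_eq_top_of_notMem {I : X.left.IdealSheafData} {x : X.left} (hx : x ∉ (I.support : Set X.left)) :
    DivDesc12.stI I x = ⊤ := by
  obtain ⟨U, hU, hxU⟩ := DivDesc12.exists_affine x
  rw [SetLike.mem_coe, Scheme.IdealSheafData.mem_support_iff_of_mem (U := ⟨U, hU⟩) hxU, Scheme.mem_zeroLocus_iff] at hx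
  push Not at hx
  obtain ⟨f, hf, hxf⟩ := hx
  rw [DivDesc12.stI_eq _ ⟨U, hU⟩ hxU]
  exact Ideal.eq_top_of_isUnit_mem _ (Ideal.mem_map_of_mem _ hf) ((X.left.mem_basicOpen f x hxU).mp hxf)

theorem mult_eq (hX : IsPre X) {π : R} (hπ : Irreducible π) {T : Type*} [Fintype T]
    (Γ : T → ArSurf.VertComp R X) (hE : ∀ p, BlowUp.IsEffCartierIdeal (Γ p).ι.ker)
    (hinj : Function.Injective fun p => Set.range (Γ p).ι.base)
    {a : T → ℕ} {Q : X.left.IdealSheafData} (hZ : fibreIdeal X π = (∏ p, (Γ p).ι.ker ^ a p) * Q)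
    (hno : ∀ p, Models.genPtOf R X (Γ p) ∉ (Q.support : Set X.left)) (p : T) :
    Models.mult R X (Γ p) = a p := by
  classical
  haveI := isNoetherian_left hX
  let γ := Models.genPtOf R X (Γ p)
  obtain ⟨U, hγU, f, hf, hfnzd, -, -⟩ := SecDiv.exists_stalk_eqn (hE p)
    ((coe_support_ker (Γ p)).ge (genPtOf_mem_range (Γ p)))
  let t := X.left.presheaf.germ U.1 γ hγU f
  have hm : IsLocalRing.maximalIdeal (X.left.presheaf.stalk γ) = Ideal.span {t} := by
    rw [← stI_ker_genPtOf, DivDesc12.stI_eq _ U hγU, hf, Ideal.map_span, Set.image_singleton]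
  have hfib : Ideal.map (Models.stalkHom R X γ) (IsLocalRing.maximalIdeal R) = Ideal.span {t ^ a p} := by
    rw [(IsDiscreteValuationRing.irreducible_iff_uniformizer π).mp hπ, Ideal.map_span, Set.image_singleton,
      ← stI_fibreIdeal, hZ, stI_mul, stI_eq_top_of_notMem (hno p), Ideal.mul_top, stI_finsetProd,
      Finset.prod_eq_single p, stI_ker_genPtOf, hm, Ideal.span_singleton_pow]
    · intro q _ hqp
      rw [stI_eq_top_of_notMem, Ideal.top_pow]
      · exact Ideal.one_eq_top.symm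
      · rw [coe_support_ker]
        exact genPtOf_notMem_range hX (hE p) (hE q) fun h => hqp (hinj h).symm
    · exact fun h => absurd (Finset.mem_univ p) h
  obtain ⟨_, _⟩ := SecDiv.exists_isDiscreteValuationRing hfnzd hm
  have ht : Irreducible t := (IsDiscreteValuationRing.irreducible_iff_uniformizer t).mpr hm
  have e : Module.length (X.left.presheaf.stalk γ) (X.left.presheaf.stalk γ ⧸ Ideal.span {t ^ a p}) = (a p : ℕ∞) := by
    show Ring.ord _ (t ^ a p) = _
    rw [Ring.ord_pow hfnzd, Ring.ord_of_irreducible ht, nsmul_one]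
  unfold Models.mult
  rw [hfib, e, ENat.toNat_natCast]

end Groth.Agent.ArInter
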