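import Groth.Agent.Lib.FBase12.LengthBC
import Groth.Agent.Lib.Cyc26.DegC1
import Mathlib.AlgebraicGeometry.Morphisms.Flat
import Mathlib.FieldTheory.IsAlgClosed.AlgebraicClosure

/-!
# A field of constants whose degree divides geometric multiplicities
-/

set_option autoImplicit false
set_option linter.style.haveILetI false
set_option linter.unusedSectionVars false
set_option backward.isDefEq.respectTransparency false

universe u

open CategoryTheory CategoryTheory.Limits AlgebraicGeometry TopologicalSpace TensorProduct

namespace Groth.Agent.ArInter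

variable {k : Type u} [Field k] {Z : Scheme.{u}}

theorem eq_toSpecΓ_comp (q : Z ⟶ Spec (CommRingCat.of k)) :
    Z.toSpecΓ ≫ Spec.map ((Scheme.ΓSpecIso (CommRingCat.of k)).inv ≫ q.appTop) = q := by
  rw [Spec.map_comp, ← Category.assoc, ← Scheme.toSpecΓ_naturality, Category.assoc,
    toSpecΓ_SpecMap_ΓSpecIso_inv, Category.comp_id]

/-- The degree of the constants divides the lengths of the maximal local rings over a closure, so it is one. -/
theorem bijective_of_isField_of_geometric (q : Z ⟶ Spec (CommRingCat.of k)) (K : Type u) [Field K] [Algebra k K]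
    [IsAlgClosed K] (hF : IsField Γ(Z, ⊤))
    (hfin : ((Scheme.ΓSpecIso (CommRingCat.of k)).inv ≫ q.appTop).hom.Finite)
    [ConnectedSpace ↥(pullback q (Spec.map (CommRingCat.ofHom (algebraMap k K))))]
    (hd : ∀ ℓ : ℕ, ℓ.Prime → ∃ x : ↥(pullback q (Spec.map (CommRingCat.ofHom (algebraMap k K)))),
      (∀ y : ↥(pullback q (Spec.map (CommRingCat.ofHom (algebraMap k K)))), y ⤳ x → y = x) ∧
        ¬ (ℓ ∣ (Module.length ((pullback q (Spec.map (CommRingCat.ofHom (algebraMap k K)))).presheaf.stalk x)
          ((pullback q (Spec.map (CommRingCat.ofHom (algebraMap k K)))).presheaf.stalk x)).toNat)) :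
    Function.Bijective ((Scheme.ΓSpecIso (CommRingCat.of k)).inv ≫ q.appTop).hom := by
  let F : Type u := Γ(Z, ⊤)
  let φ : k →+* F := ((Scheme.ΓSpecIso (CommRingCat.of k)).inv ≫ q.appTop).hom
  letI : Field F := hF.toField
  letI : Algebra k F := φ.toAlgebra
  haveI : Module.Finite k F := hfin
  let j := Spec.map (CommRingCat.ofHom (algebraMap k K))
  let P := pullback q j
  obtain ⟨z₀⟩ := (inferInstance : Nonempty P)
  let ζ : Z ⟶ Spec (CommRingCat.of F) := Z.toSpecΓ
  let b := Spec.map (CommRingCat.ofHom (algebraMap k F))
  have hζ : ζ ≫ b = q := eq_toSpecΓ_comp q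
  haveI : Subsingleton (Spec (CommRingCat.of F)) := inferInstanceAs (Subsingleton (PrimeSpectrum F))
  haveI : IsIntegral (Spec (CommRingCat.of F)) := inferInstance
  haveI : Flat ζ := inferInstance
  haveI : Surjective ζ := ⟨fun w => ⟨pullback.fst q j z₀, Subsingleton.elim _ _⟩⟩
  let p : P ⟶ pullback b j := pullback.lift (pullback.fst q j ≫ ζ) (pullback.snd q j)
    (by rw [Category.assoc, hζ, pullback.condition])
  have hpb : IsPullback (pullback.fst q j) p ζ (pullback.fst b j) := by
    refine IsPullback.of_bot ?_ (pullback.lift_fst _ _ _).symm (IsPullback.of_hasPullback b j)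
    rw [pullback.lift_snd, hζ]
    exact IsPullback.of_hasPullback q j
  haveI : Flat p := MorphismProperty.of_isPullback hpb inferInstance
  haveI : Surjective p := MorphismProperty.of_isPullback hpb inferInstance
  let B : Type u := F ⊗[k] K
  let p' : P ⟶ Spec (CommRingCat.of B) := p ≫ (pullbackSpecIso k F K).hom
  haveI : Flat p' := inferInstance
  haveI : Surjective p' := inferInstance
  letI : Algebra K B := Algebra.TensorProduct.rightAlgebra
  haveI : Module.Finite K B := Module.Finite.of_basis
    ((Algebra.TensorProduct.basis K (Module.finBasis k F)).map (Algebra.TensorProduct.commRight k K F).toLinearEquiv)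
  haveI : IsArtinianRing B := IsArtinianRing.of_finite K B
  haveI : Nontrivial B := PrimeSpectrum.nonempty_iff_nontrivial.mp ⟨p' z₀⟩
  haveI : ConnectedSpace (Spec (CommRingCat.of B)) :=
    p'.surjective.connectedSpace p'.continuous
  haveI : DiscreteTopology (PrimeSpectrum B) := inferInstance
  haveI : Subsingleton (PrimeSpectrum B) :=
    @PreconnectedSpace.trivial_of_discrete (PrimeSpectrum B) _
      (inferInstanceAs (PreconnectedSpace (Spec (CommRingCat.of B)))) inferInstance
  haveI : Subsingleton (MaximalSpectrum B) := MaximalSpectrum.toPrimeSpectrum_injective.subsingleton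
  haveI : IsLocalRing B := IsLocalRing.of_singleton_maximalSpectrum
  -- the length of the local ring of `B` is the degree
  have hlen : Module.length B B = (Module.finrank k F : ℕ∞) := by
    haveI : Module.Finite K (IsLocalRing.ResidueField B) :=
      Module.Finite.of_surjective (IsScalarTower.toAlgHom K B (IsLocalRing.ResidueField B)).toLinearMap
        IsLocalRing.residue_surjective
    have hres : Module.finrank K (IsLocalRing.ResidueField B) = 1 := by
      have hb := IsAlgClosed.algebraMap_bijective_of_isIntegral (k := K) (K := IsLocalRing.ResidueField B)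
      rw [← (LinearEquiv.ofBijective (Algebra.linearMap K (IsLocalRing.ResidueField B)) hb).finrank_eq,
        Module.finrank_self]
    have h := Cyc26.finrank_eq_length_mul (k := K) (R := B) (M := B)
    have hB : Module.finrank K B = Module.finrank k F := by
      rw [← (Algebra.TensorProduct.commRight k K F).toLinearEquiv.finrank_eq, Module.finrank_baseChange]
    rw [hB, hres, mul_one] at h
    rw [h, ENat.natCast_toNat]
    exact Module.length_ne_top_iff.mpr (isFiniteLength_iff_isNoetherian_isArtinian.mpr ⟨inferInstance, inferInstance⟩)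
  have hdvd : ∀ x : P, Module.finrank k F ∣ (Module.length (P.presheaf.stalk x) (P.presheaf.stalk x)).toNat := by
    intro x
    have hdim : ∀ I : Ideal B, I.IsPrime → I = IsLocalRing.maximalIdeal B := fun I hI =>
      congrArg PrimeSpectrum.asIdeal (Subsingleton.elim (⟨I, hI⟩ : PrimeSpectrum B)
        ⟨IsLocalRing.maximalIdeal B, inferInstance⟩)
    let w : PrimeSpectrum B := p' x
    let A : Type u := (Spec.structureSheaf B).presheaf.stalk w
    haveI : IsLocalization w.asIdeal.primeCompl A := StructureSheaf.IsLocalization.to_stalk B w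
    let e : B ≃ₐ[B] A := IsLocalization.atUnits B w.asIdeal.primeCompl fun c hc => by
      have hc' : c ∉ w.asIdeal := hc
      rw [hdim w.asIdeal w.isPrime] at hc'
      exact IsLocalRing.notMem_maximalIdeal.mp hc'
    haveI : IsLocalRing A := e.toRingEquiv.isLocalRing
    haveI : IsArtinianRing A := e.toRingEquiv.surjective.isArtinianRing (f := e.toRingEquiv.toRingHom)
    have hA : Module.length A A = Module.length B B :=
      (Module.length_eq_of_surjective (R := A) (S := B) (M := A) e.surjective).symm.trans e.toLinearEquiv.symm.length_eq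
    have h := FBase12.length_eq_mul_of_flat (A := A) (B := P.presheaf.stalk x) (p'.stalkMap x).hom
      (Flat.stalkMap p' x)
    rw [hA, hlen] at h
    rw [h, ENat.toNat_mul, ENat.toNat_natCast]
    exact dvd_mul_right _ _
  have h1 : Module.finrank k F = 1 := by
    by_contra hne
    obtain ⟨ℓ, hℓ, hℓd⟩ := Nat.exists_prime_and_dvd hne
    obtain ⟨x, -, hx⟩ := hd ℓ hℓ
    exact hx (hℓd.trans (hdvd x))
  refine ⟨φ.injective, fun y => ?_⟩
  obtain ⟨c, hc⟩ := (finrank_eq_one_iff_of_nonzero' (1 : F) one_ne_zero).mp h1 y
  exact ⟨c, ((Algebra.smul_def c (1 : F)).trans (mul_one _)).symm.trans hc⟩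

end Groth.Agent.ArInter
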