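import Groth.Agent.Lib.ArInter.Twists
import Groth.Agent.Lib.ModM1.Push
import Groth.Agent.Lib.ModM1.Stalk
import Groth.Agent.Lib.RedDVR15.Alg
import Groth.Agent.S1659

/-!
# Invertible modules trivial on the generic fibre
-/

set_option autoImplicit false
set_option linter.style.haveILetI false
set_option linter.unusedSectionVars false
set_option backward.isDefEq.respectTransparency false

universe u

open CategoryTheory CategoryTheory.Limits AlgebraicGeometry TopologicalSpace Opposite

namespace Groth.Agent.ArInter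

variable {R : Type u} [CommRing R] [IsDomain R] [IsDiscreteValuationRing R]
  {C X : Scheme.{u}} {f : C ⟶ Spec (CommRingCat.of (FractionRing R))} {p : X ⟶ Spec (CommRingCat.of R)}

theorem isOpenImmersion_generic {g : C ⟶ X}
    (hg : IsPullback g f p (Spec.map (CommRingCat.ofHom (algebraMap R (FractionRing R))))) :
    IsOpenImmersion g := by
  obtain ⟨π, hπ⟩ := IsDiscreteValuationRing.exists_irreducible R
  haveI : IsLocalization.Away π (FractionRing R) := RedDVR15.isLocalization_away_uniformizer R hπ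
  haveI : IsOpenImmersion (Spec.map (CommRingCat.ofHom (algebraMap R (FractionRing R)))) :=
    IsOpenImmersion.of_isLocalization π
  exact MorphismProperty.IsStableUnderBaseChange.of_isPullback hg.flip inferInstance

/-- The generic fibre is where a uniformizer is invertible. -/
theorem range_generic {g : C ⟶ X}
    (hg : IsPullback g f p (Spec.map (CommRingCat.ofHom (algebraMap R (FractionRing R))))) {π : R}
    (hπ : Irreducible π) : Set.range g = ((X.basicOpen (Coh.toGlobal p π) : X.Opens) : Set X) := by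
  haveI : IsLocalization.Away π (FractionRing R) := RedDVR15.isLocalization_away_uniformizer R hπ
  have h : X.basicOpen (Coh.toGlobal p π) = p ⁻¹ᵁ (PrimeSpectrum.basicOpen π) := by
    rw [← basicOpen_eq_of_affine (R := CommRingCat.of R) π, Scheme.preimage_basicOpen]
    rfl
  rw [h, ← hg.isoPullback_hom_fst, Scheme.Hom.comp_base, TopCat.coe_comp, Set.range_comp,
    Set.range_eq_univ.mpr hg.isoPullback.hom.surjective, Set.image_univ, Scheme.Pullback.range_fst]
  show p ⁻¹' Set.range _ = p ⁻¹' ((PrimeSpectrum.basicOpen π : Opens (PrimeSpectrum R)) : Set (PrimeSpectrum R))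
  refine congrArg (p ⁻¹' ·) ?_
  exact PrimeSpectrum.localization_away_comap_range (FractionRing R) π

theorem exists_pow_smul_extend (hp : IsProper p) {M : X.Modules} (hM : Coh.IsQCoh M) (π : R)
    (t : Γ(M, p ⁻¹ᵁ (Spec (CommRingCat.of R)).basicOpen ((Scheme.ΓSpecIso (CommRingCat.of R)).inv π))) :
    ∃ (k : ℕ) (t₀ : Γ(M, ⊤)), M1.mres M le_top t₀ =
      (X.presheaf.map (homOfLE (le_top : p ⁻¹ᵁ (Spec (CommRingCat.of R)).basicOpen
        ((Scheme.ΓSpecIso (CommRingCat.of R)).inv π) ≤ ⊤)).op (Coh.toGlobal p π)) ^ k • t := by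
  haveI := hp
  haveI : Coh.IsQCoh ((Scheme.Modules.pushforward p).obj M) := M1.isQCoh_push p hM
  obtain ⟨k, t₀, h⟩ := M1.exists_pow_smul_eq_res_affine ((Scheme.Modules.pushforward p).obj M)
    (isAffineOpen_top _) ((Scheme.ΓSpecIso (CommRingCat.of R)).inv π) t
  refine ⟨k, t₀, h.trans ?_⟩
  show (p.app ((Spec (CommRingCat.of R)).basicOpen ((Scheme.ΓSpecIso (CommRingCat.of R)).inv π))
      ((M1.ores (Scheme.basicOpen_le _ _) ((Scheme.ΓSpecIso (CommRingCat.of R)).inv π)) ^ k) :
      Γ(X, p ⁻¹ᵁ (Spec (CommRingCat.of R)).basicOpen ((Scheme.ΓSpecIso (CommRingCat.of R)).inv π))) • t = _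
  rw [map_pow]
  congr 2
  exact congrArg (fun φ => φ.hom ((Scheme.ΓSpecIso (CommRingCat.of R)).inv π))
    (p.naturality (homOfLE (Scheme.basicOpen_le _ ((Scheme.ΓSpecIso (CommRingCat.of R)).inv π))).op)

/-- An invertible module trivial on the generic fibre is the module of a divisor on the closed fibre. -/
theorem exists_divisor_of_trivial (hC : Curve.IsSmoothProperCurve (FractionRing R) C f)
    (hX : Models.IsRegularProperModel R X p C f) {g : C ⟶ X}
    (hg : IsPullback g f p (Spec.map (CommRingCat.ofHom (algebraMap R (FractionRing R)))))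
    {M : X.Modules} (hM : PicF.IsInvertible M)
    (htriv : Nonempty ((Scheme.Modules.pullback g).obj M ≅ Coh.structureModule C)) :
    ∃ D : X.IdealSheafData, BlowUp.IsEffCartierIdeal D ∧ ClSub.IsInverseOf M (ClSub.idealMod D) ∧
      (D.support : Set X) ⊆ Models.specialFibreSet R (Over.mk p) := by
  haveI := hX.2.1
  haveI := isIntegral_of_isModel hC hX.1 hX.2.2
  haveI := hC.2.2.1
  haveI := isOpenImmersion_generic hg
  obtain ⟨π, hπ⟩ := IsDiscreteValuationRing.exists_irreducible R
  let W : (Spec (CommRingCat.of R)).Opens :=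
    (Spec (CommRingCat.of R)).basicOpen ((Scheme.ΓSpecIso (CommRingCat.of R)).inv π)
  let V : X.Opens := p ⁻¹ᵁ W
  have hV : V = X.basicOpen (Coh.toGlobal p π) := Scheme.preimage_basicOpen _ _
  have hVg : Set.range V.ι ⊆ Set.range g := by
    rw [Scheme.Opens.range_ι, hV, range_generic hg hπ]
  obtain ⟨e⟩ := htriv
  let e' : M.restrict g ≅ Coh.structureModule C := (Scheme.Modules.restrictFunctorIsoPullback g).app M ≪≫ e
  let i : M.restrict V.ι ≅ Coh.structureModule (V : Scheme.{u}) :=
    (M1.restrictLiftIso M g V.ι hVg).symm ≪≫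
      (Scheme.Modules.restrictFunctor (IsOpenImmersion.lift g V.ι hVg)).mapIso e' ≪≫
      Scheme.Modules.restrictUnitIso _
  obtain ⟨t, ht⟩ := M2.exists_generator i
  obtain ⟨k, t₀, hk⟩ := exists_pow_smul_extend hX.2.1 (M2.isQCoh_of_isFinLocFree (M2.isFinLocFree_of_isInvertible hM)) π t
  let s := M1.secHom (M := M) t₀
  have hgen : (V : Set X) ⊆ (CohB1.genLocus M s : Set X) := fun x hx => by
    rw [SetLike.mem_coe, Amp.mem_genLocus_iff hM, Amp.gval_secHom]
    rw [← Amp.gm_res (le_top : V ≤ ⊤) hx, show M2.res M (le_top : V ≤ ⊤) t₀ = _ from hk, Amp.gm_smul]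
    have hg' := Amp.gen_of_isGenerator ht hx
    refine (hg'.ne_zero_smul _).mpr ?_
    rw [map_pow]
    refine IsUnit.pow _ ?_
    rw [TopCat.Presheaf.germ_res_apply]
    exact (Scheme.mem_basicOpen X (Coh.toGlobal p π) x trivial).mp (hV.le hx)
  obtain ⟨D', hD', ⟨e₂⟩⟩ := M2.exists_inverse hM
  have hreg : SecDiv.IsRegularSec s := by
    intro x r hr
    obtain ⟨U, e₀, a, hxU, -, hU, he₀, ha, hloc⟩ := Amp.exists_local hM s (x := x) (V := ⊤) trivial
    rw [← Amp.gm_res (le_top : U ≤ ⊤) hxU, ← ha, Amp.gm_smul, ← mul_smul] at hr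
    have h1 : r * X.presheaf.germ U x hxU a = 0 :=
      (Amp.gen_of_isGenerator he₀ hxU).1 (hr.trans (zero_smul (X.presheaf.stalk x) _).symm)
    refine (mul_eq_zero.mp h1).resolve_right fun ha0 => ?_
    have ha1 : a = 0 := germ_injective_of_isIntegral X x hxU (ha0.trans (map_zero _).symm)
    haveI : Nonempty U := ⟨⟨x, hxU⟩⟩
    have hηU : genericPoint X ∈ U := ((genericPoint_spec X).mem_open_set_iff U.2).mpr ⟨x, trivial, hxU⟩
    have hVne : ((V : Set X)).Nonempty := by
      obtain ⟨c⟩ := (inferInstance : Nonempty C)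
      exact ⟨g c, by rw [hV]; exact (range_generic hg hπ).le ⟨c, rfl⟩⟩
    have hηV : genericPoint X ∈ V := ((genericPoint_spec X).mem_open_set_iff V.2).mpr (by
      obtain ⟨v, hv⟩ := hVne
      exact ⟨v, trivial, hv⟩)
    have := hloc.le ⟨hgen hηV, hηU⟩
    rw [ha1, Scheme.basicOpen_zero] at this
    exact this
  obtain ⟨D, hD, ⟨j⟩, hsupp⟩ := SecDiv.exists_ideal_of_section hM hD' e₂ s hreg
  refine ⟨D, hD, ⟨M2.tensorIso (Iso.refl M) j.symm ≪≫ e₂⟩, fun x hx => ?_⟩
  by_contra hxF
  refine hsupp (hgen ?_) hx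
  rw [hV, SetLike.mem_coe]
  by_contra hxV
  refine hxF ((mem_support_fibreIdeal (X := Over.mk p) hπ x).mp ?_)
  obtain ⟨U, hU, hxU⟩ := DivDesc12.exists_affine (X := (Over.mk p).left) x
  rw [Scheme.IdealSheafData.mem_support_iff_of_mem (U := ⟨U, hU⟩) hxU, ideal_fibreIdeal, Scheme.zeroLocus_span,
    Scheme.mem_zeroLocus_iff]
  simp only [Set.mem_singleton_iff, forall_eq]
  intro h
  have h' := (Scheme.basicOpen_res X (Coh.toGlobal p π) (homOfLE (le_top : U ≤ ⊤)).op).le h
  exact hxV h'.2

theorem exists_twist_of_trivial (hC : Curve.IsSmoothProperCurve (FractionRing R) C f)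
    (hX : Models.IsRegularProperModel R X p C f) {n : ℕ} {Γ : Fin n → ArSurf.VertComp R (Over.mk p)}
    (hΓ : Models.IsComponentList R (Over.mk p) Γ) {g : C ⟶ X}
    (hg : IsPullback g f p (Spec.map (CommRingCat.ofHom (algebraMap R (FractionRing R)))))
    {L : Fin n → X.Modules} (hL : ∀ i, ClSub.IsInverseOf (L i) (ClSub.idealMod (Γ i).ι.ker))
    {M : X.Modules} (hM : PicF.IsInvertible M)
    (htriv : Nonempty ((Scheme.Modules.pullback g).obj M ≅ Coh.structureModule C)) :
    ∃ c : Fin n → ℕ, Nonempty (M ≅ FGA.multiTwist L c) := by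
  obtain ⟨D, hD, hinv, hsupp⟩ := exists_divisor_of_trivial hC hX hg hM htriv
  haveI : IsNoetherian X := isNoetherian_left (X := Over.mk p) (isSurf_of_model hC hX).pre
  have hE := fun i => isEffCartierIdeal_ker (X := Over.mk p) (hL i)
  obtain ⟨c, hc⟩ := Groth.Agent.S1659.result X D hD n (fun i => (Γ i).ι.ker) hE
    (fun i => isIntegral_subscheme_ker (Γ i)) fun x hx => by
      obtain ⟨i, hi⟩ := cover_of_isComponentList hΓ x (hsupp hx)
      exact Set.mem_iUnion.mpr ⟨i, (coe_support_ker (Γ i)).ge hi⟩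
  refine ⟨c, nonempty_iso_inverse hinv (isInverseOf_multiTwist _ hE L hL c) ?_⟩
  exact eqToIso (congrArg ClSub.idealMod hc)

end Groth.Agent.ArInter
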