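import Groth.Agent.Lib.ArInter.Euler
import Groth.Agent.Lib.ArInter.Model
import Groth.Agent.Lib.ArInter.Generic
import Groth.Agent.Lib.DVRTriv4.Seq
import Groth.Agent.S0034
import Mathlib.LinearAlgebra.Dimension.Localization

/-!
# The Euler characteristic of the closed fibre is that of the generic fibre
-/

set_option autoImplicit false
set_option linter.style.haveILetI false
set_option linter.unusedSectionVars false
set_option backward.isDefEq.respectTransparency false

universe u

open CategoryTheory CategoryTheory.Limits AlgebraicGeometry TopologicalSpace Opposite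
open scoped TensorProduct

namespace Groth.Agent.ArInter

section alg

variable {R : Type u} [CommRing R] [IsDomain R] [IsDiscreteValuationRing R]

/-- The multiplication by a scalar. -/
noncomputable def smulEnd (M : Type u) [AddCommGroup M] [Module R M] (r : R) : M →ₗ[R] M := r • LinearMap.id

/-- Length of `M / πM` minus length of `M[π]` is the rank. -/
theorem rank_eq_sub {π : R} (hπ : Irreducible π) (M : Type u) [AddCommGroup M] [Module R M] [Module.Finite R M] :
    Module.length R (M ⧸ LinearMap.range (smulEnd M π)) =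
      Module.length R (LinearMap.ker (smulEnd M π)) + (Module.finrank R M : ℕ∞) ∧
    Module.length R (LinearMap.ker (smulEnd M π)) ≠ ⊤ := by
  let T := Submodule.torsion R M
  haveI : Module.Finite R T := Module.IsNoetherian.finite R T
  have htors : Module.IsTorsion R T := Submodule.torsion_isTorsion
  haveI : Module.Free R (M ⧸ T) := inferInstance
  obtain ⟨s, hs⟩ := Module.projective_lifting_property T.mkQ LinearMap.id T.mkQ_surjective
  have hTfin : Module.length R T ≠ ⊤ := by
    rw [Module.length_ne_top_iff, isFiniteLength_iff_isNoetherian_isArtinian]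
    refine ⟨inferInstance, ?_⟩
    obtain ⟨m, g, hg⟩ := Module.Finite.exists_fin (R := R) (M := T)
    choose c hc using fun i => @htors (g i)
    let d : R := ∏ i, (c i : R)
    have hd : d ≠ 0 := Finset.prod_ne_zero_iff.mpr fun i _ => nonZeroDivisors.ne_zero (c i).2
    haveI : IsArtinian R (R ⧸ Ideal.span {d}) := by
      refine (isFiniteLength_iff_isNoetherian_isArtinian.mp (Module.length_ne_top_iff.mp ?_)).2
      obtain ⟨k, u, hu⟩ := IsDiscreteValuationRing.eq_unit_mul_pow_irreducible hd hπ
      rw [hu, Ideal.span_singleton_mul_left_unit u.isUnit]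
      show Ring.ord R (π ^ k) ≠ ⊤
      rw [Ring.ord_pow (mem_nonZeroDivisors_of_ne_zero hπ.ne_zero), Ring.ord_of_irreducible hπ, nsmul_one]
      exact ENat.natCast_ne_top k
    have hdg : ∀ i, d • g i = 0 := fun i => by
      show (∏ j, (c j : R)) • g i = 0
      rw [← Finset.prod_erase_mul _ _ (Finset.mem_univ i), mul_smul,
        show (c i : R) • g i = 0 from hc i, smul_zero]
    let L : (R ⧸ Ideal.span {d}) →ₗ[R] (Fin m → T) →ₗ[R] (Fin m → T) :=
      Submodule.liftQ _ (LinearMap.lsmul R (Fin m → T)) (by
        rw [Ideal.span, Submodule.span_le, Set.singleton_subset_iff]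
        refine LinearMap.mem_ker.mpr (LinearMap.ext fun v => funext fun j => ?_)
        show d • v j = 0
        have hv : v j ∈ Submodule.span R (Set.range g) := hg ▸ trivial
        refine Submodule.span_induction ?_ (smul_zero d) (fun x y _ _ hx hy => by rw [smul_add, hx, hy, add_zero])
          (fun a x _ hx => by rw [smul_comm, hx, smul_zero]) hv
        rintro _ ⟨i, rfl⟩
        exact hdg i)
    let Φ : (Fin m → R ⧸ Ideal.span {d}) →ₗ[R] T :=
      ∑ i, ((LinearMap.proj i).comp (LinearMap.applyₗ g)).comp (L.comp (LinearMap.proj i))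
    refine isArtinian_of_surjective (Fin m → R ⧸ Ideal.span {d}) Φ fun x => ?_
    obtain ⟨a, rfl⟩ := (Submodule.mem_span_range_iff_exists_fun R).mp (hg ▸ trivial : x ∈ Submodule.span R (Set.range g))
    refine ⟨fun i => Submodule.Quotient.mk (a i), ?_⟩
    simp only [Φ, LinearMap.sum_apply, LinearMap.comp_apply, LinearMap.proj_apply]
    rfl
  have hker : ∀ x : M, π • x = 0 → x ∈ T := fun x hx =>
    ⟨⟨π, mem_nonZeroDivisors_of_ne_zero hπ.ne_zero⟩, hx⟩
  let ek : LinearMap.ker (smulEnd (T : Type u) π) ≃ₗ[R] LinearMap.ker (smulEnd M π) :=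
    { toFun := fun x => ⟨x.1.1, congrArg Subtype.val (x.2 : π • x.1 = 0)⟩
      map_add' := fun _ _ => rfl
      map_smul' := fun _ _ => rfl
      invFun := fun x => ⟨⟨x.1, hker x.1 x.2⟩, Subtype.ext (x.2 : π • x.1 = 0)⟩
      left_inv := fun _ => rfl
      right_inv := fun _ => rfl }
  have hkT : Module.length R (LinearMap.ker (smulEnd (T : Type u) π)) = Module.length R ((T : Type u) ⧸ LinearMap.range (smulEnd (T : Type u) π)) := by
    let l := smulEnd (T : Type u) π
    have h1 := Module.length_eq_add_of_exact (LinearMap.ker l).subtype l.rangeRestrict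
      (Submodule.injective_subtype _) l.surjective_rangeRestrict (by
        intro x
        rw [show l.rangeRestrict x = 0 ↔ l x = 0 from Subtype.ext_iff]
        exact ⟨fun h => ⟨⟨x, h⟩, rfl⟩, fun ⟨y, hy⟩ => hy ▸ y.2⟩)
    have h2 := Module.length_eq_add_of_exact (LinearMap.range l).subtype (LinearMap.range l).mkQ
      (Submodule.injective_subtype _) (LinearMap.range l).mkQ_surjective (LinearMap.exact_subtype_mkQ _)
    rw [add_comm (Module.length R (LinearMap.range l))] at h2
    rw [h1] at h2
    refine (WithTop.add_right_cancel ?_ h2 :)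
    rw [h1] at hTfin
    exact (WithTop.add_ne_top.mp hTfin).2
  -- the cokernel of `M`
  let F := M ⧸ T
  let Q := M ⧸ LinearMap.range (smulEnd M π)
  let α : (T : Type u) ⧸ LinearMap.range (smulEnd (T : Type u) π) →ₗ[R] Q :=
    Submodule.mapQ _ _ T.subtype (by rintro _ ⟨y, rfl⟩; exact ⟨y.1, rfl⟩)
  let β : Q →ₗ[R] F ⧸ LinearMap.range (smulEnd F π) :=
    Submodule.mapQ _ _ T.mkQ (by rintro _ ⟨y, rfl⟩; exact ⟨T.mkQ y, (T.mkQ.map_smul π y).symm⟩)
  have hα : Function.Injective α := by
    rw [← LinearMap.ker_eq_bot, eq_bot_iff]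
    intro z
    obtain ⟨y, rfl⟩ := Submodule.mkQ_surjective _ z
    intro hz
    obtain ⟨w, hw⟩ := (Submodule.Quotient.mk_eq_zero _).mp (hz : Submodule.Quotient.mk (y : M) = 0)
    have hwT : w ∈ T := by
      obtain ⟨⟨c, hc⟩, hcy⟩ := y.2
      refine ⟨⟨c * π, mul_mem hc (mem_nonZeroDivisors_of_ne_zero hπ.ne_zero)⟩, ?_⟩
      show (c * π) • w = 0
      rw [mul_smul, show π • w = (y : M) from hw]
      exact hcy
    exact (Submodule.Quotient.mk_eq_zero _).mpr ⟨⟨w, hwT⟩, Subtype.ext hw⟩
  have hβ : Function.Surjective β := by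
    intro z
    obtain ⟨y, rfl⟩ := Submodule.mkQ_surjective _ z
    obtain ⟨x, rfl⟩ := T.mkQ_surjective y
    exact ⟨Submodule.Quotient.mk x, rfl⟩
  have hαβ : Function.Exact α β := by
    intro z
    obtain ⟨x, rfl⟩ := Submodule.mkQ_surjective _ z
    constructor
    · intro hx
      obtain ⟨w, hw⟩ := (Submodule.Quotient.mk_eq_zero _).mp (hx : Submodule.Quotient.mk (T.mkQ x) = 0)
      obtain ⟨v, rfl⟩ := T.mkQ_surjective w
      have hm : x - π • v ∈ T := by
        rw [← Submodule.Quotient.mk_eq_zero, Submodule.Quotient.mk_sub, sub_eq_zero]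
        exact hw.symm.trans (T.mkQ.map_smul π v).symm
      refine ⟨Submodule.Quotient.mk ⟨_, hm⟩, (Submodule.Quotient.eq _).mpr ⟨-v, ?_⟩⟩
      show π • (-v) = (x - π • v) - x
      rw [smul_neg]
      abel
    · rintro ⟨y, hy⟩
      obtain ⟨y, rfl⟩ := Submodule.mkQ_surjective _ y
      rw [← hy]
      show Submodule.Quotient.mk (T.mkQ (y : M)) = 0
      rw [show T.mkQ (y : M) = 0 from (Submodule.Quotient.mk_eq_zero _).mpr y.2]
      rfl
  have hQ := Module.length_eq_add_of_exact α β hα hβ hαβ
  have hF : Module.length R (F ⧸ LinearMap.range (smulEnd F π)) = (Module.finrank R M : ℕ∞) := by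
    haveI : Module.Finite R F := inferInstance
    let b := Module.finBasis R F
    let κ := IsLocalRing.ResidueField R
    let γ : F →ₗ[R] (Fin (Module.finrank R F) → κ) :=
      LinearMap.pi fun j => (Algebra.linearMap R κ).comp (b.coord j)
    have hγ : Function.Surjective γ := fun v => by
      choose w hw using fun j => IsLocalRing.residue_surjective (v j)
      refine ⟨b.equivFun.symm w, funext fun j => ?_⟩
      show algebraMap R κ (b.coord j (b.equivFun.symm w)) = v j
      rw [← hw j]
      congr 1
      exact congrFun (b.equivFun.apply_symm_apply w) j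
    have hk : LinearMap.range (smulEnd F π) = LinearMap.ker γ := by
      ext x
      constructor
      · rintro ⟨y, rfl⟩
        refine LinearMap.mem_ker.mpr (funext fun j => ?_)
        show algebraMap R κ (b.coord j (π • y)) = 0
        rw [map_smul, smul_eq_mul, map_mul,
          show algebraMap R κ π = 0 from (IsLocalRing.residue_eq_zero_iff π).mpr hπ.not_isUnit, zero_mul]
      · intro hx
        have hd : ∀ j, ∃ c, π * c = b.coord j x := fun j => by
          have h0 : b.coord j x ∈ IsLocalRing.maximalIdeal R :=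
            (IsLocalRing.residue_eq_zero_iff _).mp (congrFun (LinearMap.mem_ker.mp hx) j)
          rw [(IsDiscreteValuationRing.irreducible_iff_uniformizer π).mp hπ, Ideal.mem_span_singleton'] at h0
          obtain ⟨c, hc⟩ := h0
          exact ⟨c, (mul_comm π c).trans hc⟩
        choose c hc using hd
        refine ⟨b.equivFun.symm c, b.equivFun.injective (funext fun j => ?_)⟩
        show b.equivFun (π • b.equivFun.symm c) j = _
        rw [map_smul, LinearEquiv.apply_symm_apply]
        exact hc j
    rw [((Submodule.quotEquivOfEq _ _ hk).trans (γ.quotKerEquivOfSurjective hγ)).length_eq, Module.length_pi,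
      ENat.card_eq_coe_fintype_card, Fintype.card_fin,
      Module.length_eq_of_surjective (R := κ) IsLocalRing.residue_surjective, Module.length_eq_one κ κ, mul_one]
    congr 1
    have h := Submodule.finrank_quotient_add_finrank T
    rw [Module.finrank_eq_zero_iff_isTorsion.mpr htors, add_zero] at h
    exact h
  refine ⟨by rw [hQ, hF, ← hkT, ek.length_eq], ?_⟩
  rw [← ek.length_eq]
  exact ne_top_of_le_ne_top hTfin (Module.length_le_of_injective _ (Submodule.injective_subtype _))

end alg

section surf

variable {R : Type u} [CommRing R] [IsDomain R] [IsDiscreteValuationRing R]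
  {X : Over (Spec (CommRingCat.of R))}

theorem secHom_glob_eq_smulMod (r : R) :
    M1.secHom (M := Coh.structureModule X.left) (glob X r) = Formal.smulMod R (Coh.structureModule X.left) r := by
  refine M1.unit_hom_ext ?_
  refine (M1.secHom_app_one (M := Coh.structureModule X.left) (glob X r)).trans ?_
  show _ = (X.left.presheaf.map (homOfLE (le_top : ⊤ ≤ ⊤)).op (glob X r)) * (1 : Γ(X.left, ⊤))
  rw [mul_one]
  exact (M1.mres_id (Coh.structureModule X.left) le_rfl _).symm

/-- The Euler characteristic of the closed fibre is a difference of ranks. -/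
theorem chiLen_fibre (hX : IsSurf X) {π : R} (hπ : Irreducible π)
    (hfl : FinLen R (ClSub.quotMod (fibreIdeal X π))) :
    chiLen R (ClSub.quotMod (fibreIdeal X π)) =
      (Module.finrank R (Coh.HH X.left (Coh.structureModule X.left) 0) : ℤ) -
        Module.finrank R (Coh.HH X.left (Coh.structureModule X.left) 1) := by
  haveI := isNoetherian_left hX.pre
  haveI : IsProper (X.left ↘ Spec (CommRingCat.of R)) := hX.proper
  haveI := M1.isQCoh_structureModule X.left
  have hO : Coh.IsCoh (Coh.structureModule X.left) :=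
    Snapper.isCoh_of_isInvertible (PicLoc.isInvertible_structureModule _)
  haveI := fun n => CohFound.finite_HH_of_isProper (A := R) (Coh.structureModule X.left) hO n
  let φ := M1.secHom (M := Coh.structureModule X.left) (glob X π)
  haveI : Mono φ := mono_secHom_glob hX.pre hπ.ne_zero
  obtain ⟨e⟩ := nonempty_cokernel_ofMono φ (K := fibreIdeal X π) rfl
  let S : ShortComplex X.left.Modules := ShortComplex.mk φ (cokernel.π φ) (cokernel.condition φ)
  have hS : S.ShortExact := CohFound.shortExact_cokernel φ
  have hf : ∀ n, CurveCoh17.hmap R S.f n = smulEnd (Coh.HH X.left (Coh.structureModule X.left) n) π := fun n => by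
    refine LinearMap.ext fun z => ?_
    show CurveCoh17.hmap R φ n z = π • z
    rw [show φ = Formal.smulMod R (Coh.structureModule X.left) π from secHom_glob_eq_smulMod π]
    exact DVRTriv4.hmap_smulMod R (Coh.structureModule X.left) π n z
  obtain ⟨h30, h31, h32⟩ := finLen_iso (A := R) e.symm hfl
  have hQn : ∀ n, Module.length R (LinearMap.range (CurveCoh17.hmap R S.g n)) =
      Module.length R (Coh.HH X.left (Coh.structureModule X.left) n ⧸
        LinearMap.range (smulEnd (Coh.HH X.left (Coh.structureModule X.left) n) π)) := fun n => by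
    rw [← (LinearMap.quotKerEquivRange (CurveCoh17.hmap R S.g n)).length_eq]
    refine (Submodule.quotEquivOfEq _ _ ?_).length_eq
    rw [LinearMap.exact_iff.mp (CurveCoh17.exact_hmap_hmap R hS n), hf n]
  have hRn : ∀ n, LinearMap.range (CurveCoh17.hdelta R hS n) =
      LinearMap.ker (smulEnd (Coh.HH X.left (Coh.structureModule X.left) (n + 1)) π) := fun n => by
    rw [← hf (n + 1)]
    exact (LinearMap.exact_iff.mp (CurveCoh17.exact_hdelta_hmap R hS n)).symm
  have hc : ∀ n, Module.length R (Coh.HH X.left S.X₃ n) =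
      Module.length R (LinearMap.range (CurveCoh17.hmap R S.g n)) +
        Module.length R (LinearMap.range (CurveCoh17.hdelta R hS n)) :=
    fun n => length_middle _ _ (CurveCoh17.exact_hmap_hdelta R hS n)
  -- the second cohomology vanishes
  have h2 : Subsingleton (Coh.HH X.left (Coh.structureModule X.left) 2) := by
    haveI := h32
    have htop : (⊤ : Submodule R (Coh.HH X.left (Coh.structureModule X.left) 2)) ≤
        IsLocalRing.maximalIdeal R • ⊤ := fun z _ => by
      obtain ⟨w, rfl⟩ := ((CurveCoh17.exact_hmap_hmap R hS 2) z).mp (Subsingleton.elim _ _)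
      rw [hf]
      exact Submodule.smul_mem_smul (hπ.not_isUnit : π ∈ IsLocalRing.maximalIdeal R) trivial
    have h := Submodule.eq_bot_of_le_smul_of_le_jacobson_bot _ _ Module.Finite.fg_top htop
      (IsLocalRing.maximalIdeal_le_jacobson _)
    exact Submodule.subsingleton_iff R |>.mp (subsingleton_of_bot_eq_top h.symm)
  obtain ⟨hr0, hk0⟩ := rank_eq_sub hπ (Coh.HH X.left (Coh.structureModule X.left) 0)
  obtain ⟨hr1, hk1⟩ := rank_eq_sub hπ (Coh.HH X.left (Coh.structureModule X.left) 1)
  have hk0' : LinearMap.ker (smulEnd (Coh.HH X.left (Coh.structureModule X.left) 0) π) = ⊥ := by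
    rw [← hf 0, LinearMap.ker_eq_bot]
    exact CurveCoh17.hmap_f_injective R hS
  haveI := h2
  have hk2 : Module.length R (LinearMap.ker (smulEnd (Coh.HH X.left (Coh.structureModule X.left) 2) π)) = 0 :=
    Module.length_eq_zero_iff.mpr inferInstance
  rw [hk0'] at hr0
  rw [Module.length_bot, zero_add] at hr0
  have e0 := hc 0
  have e1 := hc 1
  rw [hQn, hRn, hr0] at e0
  rw [hQn, hRn, hr1, hk2, add_zero] at e1
  rw [← chiLen_iso e]
  unfold chiLen LenEuler15.len
  rw [show Module.length R (Coh.HH X.left (cokernel φ) 0) = _ from e0,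
    show Module.length R (Coh.HH X.left (cokernel φ) 1) = _ from e1,
    ENat.toNat_add (ENat.natCast_ne_top _) hk1, ENat.toNat_add hk1 (ENat.natCast_ne_top _), ENat.toNat_natCast,
    ENat.toNat_natCast]
  push_cast
  ring

end surf

section model

variable {R : Type u} [CommRing R] [IsDomain R] [IsDiscreteValuationRing R]
  {C X : Scheme.{u}} {f : C ⟶ Spec (CommRingCat.of (FractionRing R))} {p : X ⟶ Spec (CommRingCat.of R)}

/-- Ranks of the cohomology of a model are the dimensions for the generic fibre. -/
theorem finrank_HH_eq_generic (hp : IsProper p) (hX : Models.IsModel R X p C f) (n : ℕ) :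
    Module.finrank R (Coh.HH (Over.mk p : Over (Spec (CommRingCat.of R))).left
      (Coh.structureModule (Over.mk p : Over (Spec (CommRingCat.of R))).left) n) =
      Models.hRank (FractionRing R) C f (Coh.structureModule C) n := by
  obtain ⟨-, -, -, g, hg⟩ := hX
  haveI := hp
  letI : X.Over (Spec (CommRingCat.of R)) := ⟨p⟩
  letI : C.Over (Spec (CommRingCat.of (FractionRing R))) := ⟨f⟩
  haveI : IsProper (X ↘ Spec (CommRingCat.of R)) := hp
  haveI : CompactSpace X := QuasiCompact.compactSpace_of_compactSpace p
  haveI : QuasiSeparatedSpace X := quasiSeparatedSpace_of_quasiSeparated p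
  haveI : Module.Flat R (FractionRing R) := IsLocalization.flat (FractionRing R) (nonZeroDivisors R)
  haveI := M1.isQCoh_structureModule X
  obtain ⟨e⟩ := Groth.Agent.S0034.result R (FractionRing R) X C g hg (Coh.structureModule X) n
  show _ = Module.finrank (FractionRing R) (Coh.HH C (Coh.structureModule C) n)
  rw [← (CurveCoh17.hequiv (FractionRing R) (PicLoc.pullbackStructureIso g) n).finrank_eq, ← e.finrank_eq]
  rw [IsLocalization.finrank_eq (FractionRing R) (nonZeroDivisors R) le_rfl]
  exact (IsLocalizedModule.finrank_eq (nonZeroDivisors R)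
    (TensorProduct.mk R (FractionRing R) (Coh.HH X (Coh.structureModule X) n) 1) le_rfl).symm

end model

end Groth.Agent.ArInter

namespace Groth.Agent.ArInter

variable {R : Type u} [CommRing R] [IsDomain R] [IsDiscreteValuationRing R]
  {X : Over (Spec (CommRingCat.of R))}

theorem chiLen_quotMod_top :
    chiLen R (ClSub.quotMod (⊤ : X.left.IdealSheafData)) = 0 := by
  have hz : IsZero (ClSub.quotMod (⊤ : X.left.IdealSheafData)) :=
    Snapper.isZero_of_support_empty (Set.eq_empty_of_forall_notMem fun x hx => by
      have h := (CohFound.support_push_subset _ _).trans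
        (⊤ : X.left.IdealSheafData).range_subschemeι.le hx
      rw [Scheme.IdealSheafData.support_top] at h
      exact h.elim)
  have hs : ∀ n, Subsingleton (Coh.HH X.left (ClSub.quotMod (⊤ : X.left.IdealSheafData)) n) := fun n => by
    refine subsingleton_of_forall_eq 0 fun c => ?_
    rw [← CurveCoh17.hmap_id R _ n c, show 𝟙 (ClSub.quotMod (⊤ : X.left.IdealSheafData)) = 0 from hz.eq_of_src _ _,
      CurveCoh17.hmap_zero]
  haveI := hs 0
  haveI := hs 1
  rw [chiLen, LenEuler15.len_subsingleton, LenEuler15.len_subsingleton, sub_zero]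

/-- Riemann-Roch for vertical divisors. -/
theorem two_mul_chiLen (hX : IsSurf X) {T : Type*} [Fintype T] (Γ : T → ArSurf.VertComp R X)
    (hinj : Function.Injective fun q => Set.range (Γ q).ι.base) (L : T → X.left.Modules)
    (hL : ∀ q, ClSub.IsInverseOf (L q) (ClSub.idealMod (Γ q).ι.ker)) (a : T → ℕ) :
    2 * chiLen R (ClSub.quotMod (∏ q, (Γ q).ι.ker ^ a q)) =
      -(∑ q, ∑ r, (a q : ℤ) * a r * ArSurf.inter R X (L r) (Γ q)) +
        ∑ q, (a q : ℤ) * (ArSurf.inter R X (L q) (Γ q) +
          2 * ((Models.wdeg R X (Γ q) : ℤ) - (Models.h1 R X (Γ q) : ℤ))) := by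
  classical
  have hE := fun q => isEffCartierIdeal_ker (hL q)
  induction hN : ∑ q, a q generalizing a with
  | zero =>
    have ha : ∀ q, a q = 0 := fun q => Finset.sum_eq_zero_iff.mp hN q (Finset.mem_univ q)
    simp only [ha, Nat.cast_zero, zero_mul, pow_zero, Finset.sum_const_zero]
    rw [Finset.prod_const_one, Scheme.IdealSheafData.one_eq_top, chiLen_quotMod_top]
    ring
  | succ N ih =>
    obtain ⟨i, hi⟩ : ∃ i, a i ≠ 0 := by
      by_contra h
      push Not at h
      simp only [h, Finset.sum_const_zero] at hN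
      omega
    let b : T → ℕ := fun q => a q - if q = i then 1 else 0
    have hab : ∀ q, a q = b q + if q = i then 1 else 0 := fun q => by
      by_cases h : q = i
      · subst h; simp only [b, if_true]; omega
      · simp [b, h]
    have hbN : ∑ q, b q = N := by
      rw [Finset.sum_congr rfl fun q _ => hab q, Finset.sum_add_distrib, Finset.sum_ite_eq',
        if_pos (Finset.mem_univ i)] at hN
      omega
    have hprod : (∏ q, (Γ q).ι.ker ^ a q) = (Γ i).ι.ker * ∏ q, (Γ q).ι.ker ^ b q := by
      have : ∀ q, (Γ q).ι.ker ^ a q = (if q = i then (Γ q).ι.ker else 1) * (Γ q).ι.ker ^ b q := fun q => by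
        rw [hab q]
        split_ifs
        · exact pow_succ' _ _
        · rw [one_mul, add_zero]
      rw [Finset.prod_congr rfl fun q _ => this q, Finset.prod_mul_distrib, Finset.prod_ite_eq', if_pos (Finset.mem_univ i)]
    obtain ⟨hJ, hfl⟩ := finLen_finsetProd hX Γ hE b Finset.univ
    obtain ⟨-, hchi⟩ := chiLen_mul_component hX (Γ i) (hE i) hJ hfl
    have hideg : ideg (Γ i) (∏ q, (Γ q).ι.ker ^ b q) = -∑ q, (b q : ℤ) * ArSurf.inter R X (L q) (Γ i) := by
      rw [ideg_finsetProd hX (Γ i) (fun q => (Γ q).ι.ker) b hE, ← Finset.sum_neg_distrib]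
      refine Finset.sum_congr rfl fun q _ => ?_
      rw [inter_eq_neg_ideg hX (Γ i) (hE q) (hL q)]
      ring
    rw [hprod, hchi, hideg, mul_add, mul_add, ih b hbN]
    have hsym : ∑ q, (b q : ℤ) * ArSurf.inter R X (L i) (Γ q) = ∑ q, (b q : ℤ) * ArSurf.inter R X (L q) (Γ i) :=
      Finset.sum_congr rfl fun q _ => by rw [inter_symm hX hinj hL q i]
    simp only [hab, Nat.cast_add, Nat.cast_ite, Nat.cast_one, Nat.cast_zero, add_mul, mul_add, ite_mul, one_mul,
      zero_mul, mul_ite, mul_one, mul_zero, Finset.sum_add_distrib, Finset.sum_ite_eq', Finset.mem_univ, if_true,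
      Finset.sum_ite_irrel, Finset.sum_const_zero, Finset.mul_sum, ← Finset.mul_sum]
    rw [hsym]
    ring

end Groth.Agent.ArInter
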