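import Groth.Agent.Lib.ArInter.Components
import Groth.Agent.Lib.ArInter.FieldConst
import Groth.Agent.Lib.FormalH7.LocFree

/-!
# Constants of the closed fibre with coprime geometric multiplicities
-/

set_option autoImplicit false
set_option linter.style.haveILetI false
set_option linter.unusedSectionVars false
set_option backward.isDefEq.respectTransparency false

universe u

open CategoryTheory CategoryTheory.Limits AlgebraicGeometry TopologicalSpace Opposite

namespace Groth.Agent.ArInter

variable {R : Type u} [CommRing R] [IsDomain R] [IsDiscreteValuationRing R]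

theorem ker_SpecMap_residue :
    (Spec.map (CommRingCat.ofHom (IsLocalRing.residue R))).ker = Curv2.idealSheaf R (IsLocalRing.maximalIdeal R) := by
  refine Scheme.IdealSheafData.ext_of_isAffine ?_
  rw [Curv2.idealSheaf, Scheme.IdealSheafData.ofIdealTop_ideal, Scheme.Hom.ker_apply,
    show (homOfLE (le_top (a := (⊤ : (Spec (CommRingCat.of R)).Opens)))).op = 𝟙 _ from Subsingleton.elim _ _,
    CategoryTheory.Functor.map_id, CommRingCat.hom_id, Ideal.map_id]
  ext a
  simp only [RingHom.mem_ker]
  show (Spec.map (CommRingCat.ofHom (IsLocalRing.residue R))).appTop a = 0 ↔ _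
  have hn := congrArg (fun φ => φ.hom a) (Scheme.ΓSpecIso_naturality (CommRingCat.ofHom (IsLocalRing.residue R)))
  have hinj : Function.Injective (Scheme.ΓSpecIso (CommRingCat.of (IsLocalRing.ResidueField R))).hom :=
    (ConcreteCategory.bijective_of_isIso _).1
  rw [← map_eq_zero_iff _ hinj]
  refine Iff.trans (Eq.to_iff (congrArg (· = 0) hn)) ?_
  let e := (Scheme.ΓSpecIso (CommRingCat.of R)).commRingCatIsoToRingEquiv
  show IsLocalRing.residue R (e a) = 0 ↔ a ∈ (IsLocalRing.maximalIdeal R).map e.symm.toRingHom
  rw [IsLocalRing.residue_eq_zero_iff]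
  exact ⟨fun h => by simpa using Ideal.mem_map_of_mem e.symm.toRingHom h,
    fun h => by simpa using (Ideal.mem_map_of_equiv e.symm a).mp h |> fun ⟨b, hb, hab⟩ => hab ▸ (by simpa using hb)⟩

variable {X : Over (Spec (CommRingCat.of R))}

theorem ker_fst_fibre {π : R} (hπ : Irreducible π) :
    (pullback.fst X.hom (Spec.map (CommRingCat.ofHom (IsLocalRing.residue R)))).ker = fibreIdeal X π := by
  haveI : IsClosedImmersion (Spec.map (CommRingCat.ofHom (IsLocalRing.residue R))) :=
    IsClosedImmersion.spec_of_surjective _ IsLocalRing.residue_surjective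
  rw [Scheme.IdealSheafData.ker_fst_of_isClosedImmersion, ker_SpecMap_residue, ← specialFibreIdeal_eq π hπ]
  rfl

theorem range_fst_fibre :
    Set.range (pullback.fst X.hom (Spec.map (CommRingCat.ofHom (IsLocalRing.residue R)))) =
      Models.specialFibreSet R X := by
  rw [Scheme.Pullback.range_fst]
  ext x
  constructor
  · rintro ⟨w, hw⟩
    show X.hom x = _
    rw [← hw]
    haveI : Subsingleton (Spec (CommRingCat.of (IsLocalRing.ResidueField R))) :=
      inferInstanceAs (Subsingleton (PrimeSpectrum (IsLocalRing.ResidueField R)))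
    rw [Subsingleton.elim w (IsLocalRing.closedPoint _)]
    exact PrimeSpectrum.ext (by simp [IsLocalRing.closedPoint, Spec.map_apply])
  · intro hx
    exact ⟨IsLocalRing.closedPoint _, (PrimeSpectrum.ext (by simp [IsLocalRing.closedPoint, Spec.map_apply]) :
      _ = IsLocalRing.closedPoint R).trans (Eq.symm hx)⟩

theorem length_stalk_congr {A B : Type u} [CommRing A] [CommRing B] (e : A ≃+* B) :
    Module.length A A = Module.length B B := by
  letI : Algebra A B := e.toRingHom.toAlgebra
  exact (LinearEquiv.length_eq (AlgEquiv.ofRingEquiv (f := e) fun x => rfl).toLinearEquiv).trans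
    (Module.length_eq_of_surjective (R := B) (S := A) (M := B) e.surjective)

/-- The multiplicity of a component as the length of the fibre at its generic point. -/
theorem length_stalk_fibre_genPtOf {π : R} (hπ : Irreducible π) (Γ : ArSurf.VertComp R X)
    (y : ↥(pullback X.hom (Spec.map (CommRingCat.ofHom (IsLocalRing.residue R)))))
    (hy : pullback.fst X.hom (Spec.map (CommRingCat.ofHom (IsLocalRing.residue R))) y = Models.genPtOf R X Γ) :
    (Module.length ((pullback X.hom (Spec.map (CommRingCat.ofHom (IsLocalRing.residue R)))).presheaf.stalk y)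
      ((pullback X.hom (Spec.map (CommRingCat.ofHom (IsLocalRing.residue R)))).presheaf.stalk y)).toNat =
      Models.mult R X Γ := by
  haveI : IsClosedImmersion (Spec.map (CommRingCat.ofHom (IsLocalRing.residue R))) :=
    IsClosedImmersion.spec_of_surjective _ IsLocalRing.residue_surjective
  let i := pullback.fst X.hom (Spec.map (CommRingCat.ofHom (IsLocalRing.residue R)))
  let K := i.ker
  have hfac : i.toImage ≫ K.subschemeι = i := i.toImage_imageι
  let d := i.toImage y
  have hd : K.subschemeι d = Models.genPtOf R X Γ := by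
    show (i.toImage ≫ K.subschemeι) y = _
    rw [hfac]
    exact hy
  have hiso : Module.length (K.subscheme.presheaf.stalk d) (K.subscheme.presheaf.stalk d) =
      Module.length (_ : Type u) ((pullback X.hom (Spec.map (CommRingCat.ofHom (IsLocalRing.residue R)))).presheaf.stalk y) :=
    length_stalk_congr (asIso (i.toImage.stalkMap y)).commRingCatIsoToRingEquiv
  rw [← hiso]
  obtain ⟨U, hU, hx⟩ := DivDesc12.exists_affine (K.subschemeι d)
  have hker : RingHom.ker (K.subschemeι.stalkMap d).hom =
      Ideal.map (Models.stalkHom R X (K.subschemeι d)) (IsLocalRing.maximalIdeal R) := by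
    rw [FormalH7.ker_stalkMap_subscheme K ⟨U, hU⟩ d hx, ← DivDesc12.stI_eq K ⟨U, hU⟩ hx,
      (congrArg (fun J => DivDesc12.stI J (K.subschemeι d)) (ker_fst_fibre hπ) :
        DivDesc12.stI K (K.subschemeι d) = DivDesc12.stI (fibreIdeal X π) (K.subschemeι d)), stI_fibreIdeal,
      (IsDiscreteValuationRing.irreducible_iff_uniformizer π).mp hπ, Ideal.map_span, Set.image_singleton]
  have hq : Module.length (X.left.presheaf.stalk (K.subschemeι d) ⧸
      Ideal.map (Models.stalkHom R X (K.subschemeι d)) (IsLocalRing.maximalIdeal R))
      (X.left.presheaf.stalk (K.subschemeι d) ⧸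
        Ideal.map (Models.stalkHom R X (K.subschemeι d)) (IsLocalRing.maximalIdeal R)) =
      Module.length (K.subscheme.presheaf.stalk d) (K.subscheme.presheaf.stalk d) :=
    length_stalk_congr ((Ideal.quotEquivOfEq hker.symm).trans
      (RingHom.quotientKerEquivOfSurjective (SurjectiveOnStalks.stalkMap_surjective K.subschemeι d)))
  rw [← hq, ← Module.length_eq_of_surjective (S := X.left.presheaf.stalk (K.subschemeι d)) Ideal.Quotient.mk_surjective,
    hd]
  rfl

/-- The main theorem: coprime geometric multiplicities and geometric connectedness make the constants the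
residue field. -/
theorem bijective_fibre_constants (hS : IsSurf X) (hreg : Models.IsRegularScheme X.left)
    (hdim : topologicalKrullDim X.left = 2)
    (K : Type u) [Field K] [Algebra (IsLocalRing.ResidueField R) K] [IsAlgClosed K]
    [ConnectedSpace ↥(pullback X.hom (Spec.map (CommRingCat.ofHom (IsLocalRing.residue R))))]
    [ConnectedSpace ↥(pullback (pullback.snd X.hom (Spec.map (CommRingCat.ofHom (IsLocalRing.residue R))))
      (Spec.map (CommRingCat.ofHom (algebraMap (IsLocalRing.ResidueField R) K))))]
    (hd : ∀ ℓ : ℕ, ℓ.Prime →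
      ∃ x : ↥(pullback (pullback.snd X.hom (Spec.map (CommRingCat.ofHom (IsLocalRing.residue R))))
        (Spec.map (CommRingCat.ofHom (algebraMap (IsLocalRing.ResidueField R) K)))),
      (∀ y : ↥(pullback (pullback.snd X.hom (Spec.map (CommRingCat.ofHom (IsLocalRing.residue R))))
        (Spec.map (CommRingCat.ofHom (algebraMap (IsLocalRing.ResidueField R) K)))), y ⤳ x → y = x) ∧
        ¬ (ℓ ∣ (Module.length
          ((pullback (pullback.snd X.hom (Spec.map (CommRingCat.ofHom (IsLocalRing.residue R))))
            (Spec.map (CommRingCat.ofHom (algebraMap (IsLocalRing.ResidueField R) K)))).presheaf.stalk x)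
          ((pullback (pullback.snd X.hom (Spec.map (CommRingCat.ofHom (IsLocalRing.residue R))))
            (Spec.map (CommRingCat.ofHom (algebraMap (IsLocalRing.ResidueField R) K)))).presheaf.stalk x)).toNat)) :
    Function.Bijective (pullback.snd X.hom (Spec.map (CommRingCat.ofHom (IsLocalRing.residue R)))).appTop.hom := by
  classical
  obtain ⟨π, hπ⟩ := IsDiscreteValuationRing.exists_irreducible R
  haveI := hS.proper
  haveI := isNoetherian_left hS.pre
  haveI : IsClosedImmersion (Spec.map (CommRingCat.ofHom (IsLocalRing.residue R))) :=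
    IsClosedImmersion.spec_of_surjective _ IsLocalRing.residue_surjective
  let g := Spec.map (CommRingCat.ofHom (IsLocalRing.residue R))
  let Z := pullback X.hom g
  let i : Z ⟶ X.left := pullback.fst X.hom g
  let q := pullback.snd X.hom g
  have hconn : _root_.IsConnected (Models.specialFibreSet R X) :=
    range_fst_fibre (X := X) ▸ isConnected_range i.continuous
  obtain ⟨n, Γ, hΓ⟩ := exists_componentList hS hdim hconn
  let j := Spec.map (CommRingCat.ofHom (algebraMap (IsLocalRing.ResidueField R) K))
  let P := pullback q j
  let r : P ⟶ Z := pullback.fst q j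
  haveI : IsIntegral (Spec (CommRingCat.of (IsLocalRing.ResidueField R))) := inferInstance
  haveI : Subsingleton (Spec (CommRingCat.of (IsLocalRing.ResidueField R))) :=
    inferInstanceAs (Subsingleton (PrimeSpectrum (IsLocalRing.ResidueField R)))
  haveI : Flat j := inferInstance
  haveI : Flat r := inferInstance
  haveI : IsLocallyNoetherian Z := LocallyOfFiniteType.isLocallyNoetherian q
  -- the multiplicities over the residue field are coprime
  have hgcd : Models.multGcd R X Γ = 1 := by
    by_contra hne
    obtain ⟨ℓ, hℓ, hℓd⟩ := Nat.exists_prime_and_dvd hne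
    obtain ⟨x, hmax, hx⟩ := hd ℓ hℓ
    refine hx ?_
    let y := r x
    have hymax : ∀ y' : Z, y' ⤳ y → y' = y := fun y' h => by
      obtain ⟨x', hx', rfl⟩ := Flat.generalizingMap r h
      rw [hmax x' hx']
    have hyF : i y ∈ Models.specialFibreSet R X := range_fst_fibre (X := X) ▸ Set.mem_range_self y
    obtain ⟨p, hp⟩ := cover_of_isComponentList hΓ (i y) hyF
    obtain ⟨y', hy'⟩ : Models.genPtOf R X (Γ p) ∈ Set.range i := by
      rw [range_fst_fibre]
      exact genPtOf_mem_specialFibreSet (Γ p)
    have hyy : y' = y := hymax y' (i.isEmbedding.isInducing.specializes_iff.mp (by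
      show i y' ⤳ i y
      rw [hy', specializes_iff_mem_closure, ← range_eq_closure]
      exact hp))
    have hlen := length_stalk_fibre_genPtOf hπ (Γ p) y (hyy ▸ hy')
    haveI : IsArtinianRing (Z.presheaf.stalk (r x)) := FBase12.isArtinianRing_stalk_of_max _ hymax
    have h := FBase12.length_eq_mul_of_flat (A := Z.presheaf.stalk (r x)) (B := P.presheaf.stalk x)
      (r.stalkMap x).hom (Flat.stalkMap r x)
    rw [h, ENat.toNat_mul, hlen]
    exact Dvd.dvd.mul_right (hℓd.trans (Finset.gcd_dvd (Finset.mem_univ p))) _
  have hF : IsField Γ(Z, ⊤) := by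
    have h := isField_fibre hS hreg hconn Γ hΓ hgcd hπ
    rw [← ker_fst_fibre hπ] at h
    exact MulEquiv.isField h (asIso i.toImage.appTop).commRingCatIsoToRingEquiv.symm.toMulEquiv
  have h := bijective_of_isField_of_geometric q K hF (HensProper6.finite_toGlobal q) hd
  have hb : Function.Bijective (Scheme.ΓSpecIso (CommRingCat.of (IsLocalRing.ResidueField R))).hom :=
    ConcreteCategory.bijective_of_isIso _
  have heq : q.appTop.hom = ((Scheme.ΓSpecIso (CommRingCat.of (IsLocalRing.ResidueField R))).inv ≫ q.appTop).hom.comp
      (Scheme.ΓSpecIso (CommRingCat.of (IsLocalRing.ResidueField R))).hom.hom := by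
    rw [← CommRingCat.hom_comp, Iso.hom_inv_id_assoc]
  show Function.Bijective q.appTop.hom
  rw [heq, RingHom.coe_comp]
  exact h.comp hb

end Groth.Agent.ArInter
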