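import Groth.Agent.Lib.VarDim.Normal
import Groth.Prelude.Def_ModelsG
import Mathlib.RingTheory.IntegralClosure.GoingDown
import Mathlib.RingTheory.Flat.TorsionFree
import Mathlib.AlgebraicGeometry.Morphisms.QuasiFinite
import Mathlib.AlgebraicGeometry.Morphisms.SchemeTheoreticallyDominant

/-!
# Going down for finite surjective morphisms to normal schemes
-/

set_option autoImplicit false
set_option linter.style.haveILetI false
set_option backward.isDefEq.respectTransparency false

universe u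

open CategoryTheory CategoryTheory.Limits AlgebraicGeometry TopologicalSpace

namespace Groth.Agent.ArInter

/-- Generalisations lift along a finite surjective morphism of integral schemes with normal target. -/
theorem exists_generalisation_lift {W Z : Scheme.{u}} [IsIntegral W] [IsIntegral Z]
    (hZ : ∀ q : Z, IsIntegrallyClosed (Z.presheaf.stalk q)) (f : W ⟶ Z) [IsFinite f] [Surjective f]
    {w : W} {d : Z} (h : d ⤳ f w) : ∃ c, c ⤳ w ∧ f c = d := by
  obtain ⟨_, ⟨U, hU, rfl⟩, hwU, -⟩ := Z.isBasis_affineOpens.exists_subset_of_mem_open (Set.mem_univ (f w)) isOpen_univ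
  have hdU : d ∈ U := h.mem_open U.2 hwU
  have hV : IsAffineOpen (f ⁻¹ᵁ U) := hU.preimage f
  haveI : Nonempty U := ⟨⟨_, hwU⟩⟩
  haveI : Nonempty (f ⁻¹ᵁ U : W.Opens) := ⟨⟨w, hwU⟩⟩
  haveI := VarDim.isIntegrallyClosed_sections hZ U
  let φ : Γ(Z, U) →+* Γ(W, f ⁻¹ᵁ U) := (f.app U).hom
  letI := φ.toAlgebra
  haveI : Module.Finite Γ(Z, U) Γ(W, f ⁻¹ᵁ U) := f.finite_app U hU
  haveI : IsSchemeTheoreticallyDominant f := .of_isDominant f
  haveI : FaithfulSMul Γ(Z, U) Γ(W, f ⁻¹ᵁ U) :=
    (faithfulSMul_iff_algebraMap_injective _ _).mpr (f.app_injective U)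
  haveI : Algebra.HasGoingDown Γ(Z, U) Γ(W, f ⁻¹ᵁ U) := inferInstance
  let q := hV.primeIdealOf ⟨w, hwU⟩
  let r := hU.primeIdealOf ⟨d, hdU⟩
  let p := hU.primeIdealOf ⟨f w, hwU⟩
  have hsq : ∀ a, f (hV.fromSpec a) = hU.fromSpec (Spec.map (f.app U) a) := fun a => by
    have e := IsAffineOpen.SpecMap_appLE_fromSpec f hU hV (le_refl (f ⁻¹ᵁ U))
    rw [Scheme.Hom.app_eq_appLE, ← Scheme.Hom.comp_apply, ← Scheme.Hom.comp_apply, e]
  have hemb := hU.fromSpec.isOpenEmbedding
  have hp : Spec.map (f.app U) q = p := hemb.injective (by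
    rw [← hsq, IsAffineOpen.fromSpec_primeIdealOf, IsAffineOpen.fromSpec_primeIdealOf])
  have hrp : r.asIdeal ≤ p.asIdeal := by
    refine (PrimeSpectrum.le_iff_specializes r p).mpr ?_
    refine hemb.toIsInducing.specializes_iff.mp ?_
    simpa [r, p, IsAffineOpen.fromSpec_primeIdealOf] using h
  haveI : q.asIdeal.LiesOver p.asIdeal := ⟨(congrArg PrimeSpectrum.asIdeal hp).symm⟩
  obtain ⟨Q, hQq, hQ, hQo⟩ := Ideal.exists_ideal_le_liesOver_of_le (p := r.asIdeal) q.asIdeal hrp
  haveI := hQ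
  refine ⟨hV.fromSpec ⟨Q, hQ⟩, ?_, ?_⟩
  · have := ((PrimeSpectrum.le_iff_specializes (⟨Q, hQ⟩ : PrimeSpectrum _) q).mp hQq).map hV.fromSpec.continuous
    rwa [IsAffineOpen.fromSpec_primeIdealOf] at this
  · rw [hsq, show Spec.map (f.app U) ⟨Q, hQ⟩ = r from PrimeSpectrum.ext hQo.over.symm,
      IsAffineOpen.fromSpec_primeIdealOf]

/-- Components of the fibre through a point map onto the components through its image. -/
theorem exists_component_onto {R : Type u} [CommRing R] [IsDomain R] [IsDiscreteValuationRing R]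
    {W Z : Over (Spec (CommRingCat.of R))} [IsIntegral W.left] [IsIntegral Z.left]
    (hZn : ∀ q : Z.left, IsIntegrallyClosed (Z.left.presheaf.stalk q))
    (ψ : W ⟶ Z) [IsFinite ψ.left] [Surjective ψ.left] {w : W.left}
    {Δ : Set Z.left} (hΔ : Δ ∈ Models.fibreComponents R Z) (hwΔ : ψ.left w ∈ Δ) :
    ∃ Γ ∈ Models.fibreComponents R W, w ∈ Γ ∧ ψ.left.base '' Γ = Δ := by
  have hcl : IsClosed Δ := by
    have h := hΔ.2 ⟨hΔ.1.1.closure, (Models.isClosed_specialFibreSet R Z).closure_subset_iff.mpr hΔ.1.2⟩ subset_closure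
    exact closure_subset_iff_isClosed.mp h
  obtain ⟨d, hd⟩ := QuasiSober.sober hΔ.1.1 hcl
  obtain ⟨c, hcw, hcd⟩ := exists_generalisation_lift hZn ψ.left (hd.specializes hwΔ)
  have hfib : ∀ a : W.left, a ∈ Models.specialFibreSet R W ↔ ψ.left a ∈ Models.specialFibreSet R Z := fun a => by
    show W.hom a = _ ↔ Z.hom (ψ.left a) = _
    rw [← Scheme.Hom.comp_apply, Over.w ψ]
  have hc : c ∈ Models.specialFibreSet R W := (hfib c).mpr (hcd ▸ hΔ.1.2 hd.mem)
  have himg : ψ.left.base '' closure {c} = Δ := by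
    rw [← ψ.left.isClosedMap.closure_image_eq_of_continuous ψ.left.continuous, Set.image_singleton]
    exact (congrArg (fun z => closure ({z} : Set Z.left)) hcd).trans hd.def
  refine ⟨closure {c}, ⟨⟨isIrreducible_singleton.closure,
    (Models.isClosed_specialFibreSet R W).closure_subset_iff.mpr (Set.singleton_subset_iff.mpr hc)⟩, ?_⟩,
    specializes_iff_mem_closure.mp hcw, himg⟩
  intro S hS hle
  obtain ⟨c', hc'⟩ := QuasiSober.sober hS.1.closure isClosed_closure
  have hc'S : c' ∈ Models.specialFibreSet R W :=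
    (Models.isClosed_specialFibreSet R W).closure_subset_iff.mpr hS.2 hc'.mem
  have h1 : c' ⤳ c := hc'.specializes (subset_closure (hle (subset_closure rfl)))
  have h2 : ψ.left c' ⤳ d := hcd ▸ h1.map ψ.left.continuous
  have hsub : Δ ⊆ closure {ψ.left c'} := hd.def.symm.subset.trans
    (isClosed_closure.closure_subset_iff.mpr (Set.singleton_subset_iff.mpr (specializes_iff_mem_closure.mp h2)))
  have h3 := hΔ.2 ⟨isIrreducible_singleton.closure, (Models.isClosed_specialFibreSet R Z).closure_subset_iff.mpr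
    (Set.singleton_subset_iff.mpr ((hfib c').mp hc'S))⟩ hsub (subset_closure rfl)
  have he : ψ.left c' = ψ.left c := by rw [hcd]; exact (h2.antisymm (hd.specializes h3)).eq
  have hcc : c' = c := by
    let y := ψ.left c
    have hm : c' ∈ ψ.left ⁻¹' {y} := he
    have hm' : c ∈ ψ.left ⁻¹' {y} := rfl
    haveI : DiscreteTopology (ψ.left ⁻¹' {y} : Set W.left) := (ψ.left.isDiscrete_preimage_singleton y).to_subtype
    have hs : (⟨c', hm⟩ : (ψ.left ⁻¹' {y} : Set W.left)) ⤳ ⟨c, hm'⟩ := (subtype_specializes_iff _ _).mpr h1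
    exact congrArg Subtype.val (specializes_iff_eq.mp hs)
  exact subset_closure.trans (hc'.def.symm.subset.trans (by rw [hcc]))

end Groth.Agent.ArInter
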