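import Groth.Agent.Lib.ArInter.Exc

/-!
# Two curves meeting with intersection number one
-/

set_option autoImplicit false
set_option linter.style.haveILetI false
set_option linter.unusedSectionVars false
set_option backward.isDefEq.respectTransparency false

universe u

open CategoryTheory CategoryTheory.Limits AlgebraicGeometry TopologicalSpace Opposite

namespace Groth.Agent.ArInter

/-- In an irreducible space of dimension one a point other than the generic one is closed. -/
theorem isClosed_of_ne_genericPoint {Y : Type u} [TopologicalSpace Y] [T0Space Y] [QuasiSober Y] [IrreducibleSpace Y]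
    (hd : topologicalKrullDim Y ≤ 1) {y : Y} (hy : y ≠ genericPoint Y) : IsClosed ({y} : Set Y) := by
  refine isClosed_of_closure_subset fun z hz => ?_
  by_contra hne
  let cl : Y → IrreducibleCloseds Y := fun a => ⟨closure {a}, isIrreducible_singleton.closure, isClosed_closure⟩
  have hlt : ∀ {a b : Y}, b ⤳ a → a ≠ b → cl a < cl b := fun {a b} h hab => by
    refine Set.ssubset_iff_subset_ne.mpr ⟨specializes_iff_closure_subset.mp h, fun he => hab ?_⟩
    exact (Inseparable.eq (inseparable_iff_closure_eq.mpr he))
  have h1 := hlt (specializes_iff_mem_closure.mpr hz) hne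
  have h2 := hlt ((genericPoint_spec Y).specializes (Set.mem_univ y)) hy
  have h := (Order.LTSeries.length_le_krullDim (((RelSeries.singleton _ (cl z)).snoc (cl y) h1).snoc (cl (genericPoint Y))
    (by rw [RelSeries.last_snoc]; exact h2))).trans hd
  exact absurd h (by simp [RelSeries.snoc, RelSeries.append])

variable {R : Type u} [CommRing R] [IsDomain R] [IsDiscreteValuationRing R]
  {X : Over (Spec (CommRingCat.of R))}

/-- Intersection number one: a single rational reduced point. -/
theorem meet_of_lengthH_eq_one (hX : IsSurf X) {Γ Δ : ArSurf.VertComp R X}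
    (hgen : Models.genPtOf R X Γ ∉ Set.range Δ.ι.base)
    (h : Models.lengthH R X (ClSub.quotMod (Δ.ι.ker ⊔ Γ.ι.ker)) 0 = 1) :
    ∃ x : X.left, Set.range Γ.ι.base ∩ Set.range Δ.ι.base = {x} ∧
      Γ.ι.ker ⊔ Δ.ι.ker = Scheme.IdealSheafData.vanishingIdeal ⟨closure {x}, isClosed_closure⟩ ∧
      Function.Surjective ((X.left.residue x).hom.comp (Models.stalkHom R X x)) := by
  haveI := isNoetherian_left hX.pre
  let K := Γ.ι.ker ⊔ Δ.ι.ker
  rw [sup_comm] at h
  have hsupp : (K.support : Set X.left) = Set.range Γ.ι.base ∩ Set.range Δ.ι.base := by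
    rw [Scheme.IdealSheafData.support_sup, Closeds.coe_inf, coe_support_ker, coe_support_ker]
  have hlen : Module.length R (Coh.HH X.left (ClSub.quotMod K) 0) = 1 := by
    have h' : (Module.length R (Coh.HH X.left (ClSub.quotMod K) 0)).toNat = 1 := h
    exact (ENat.toNat_eq_iff one_ne_zero).mp h'
  let φ : R →+* Γ(K.subscheme, ⊤) := K.subschemeι.appTop.hom.comp (Coh.toGlobal X.hom)
  letI : Algebra R Γ(K.subscheme, ⊤) := φ.toAlgebra
  let e : Coh.HH X.left (ClSub.quotMod K) 0 ≃ₗ[R] Γ(K.subscheme, ⊤) :=
    { toFun := fun x => CurveCoh17.hh0 (ClSub.quotMod K) x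
      invFun := fun x => (CurveCoh17.hh0 (ClSub.quotMod K)).symm x
      left_inv := fun x => (CurveCoh17.hh0 (ClSub.quotMod K)).symm_apply_apply x
      right_inv := fun x => (CurveCoh17.hh0 (ClSub.quotMod K)).apply_symm_apply x
      map_add' := fun x y => map_add _ x y
      map_smul' := fun r x => hh0_quotMod_smul (A := R) K r x }
  rw [e.length_eq] at hlen
  haveI : IsSimpleModule R Γ(K.subscheme, ⊤) := Module.length_eq_one_iff.mp hlen
  haveI : Nontrivial Γ(K.subscheme, ⊤) := IsSimpleModule.nontrivial R Γ(K.subscheme, ⊤)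
  have hφ : Function.Surjective φ := fun b => by
    obtain ⟨r, hr⟩ := IsSimpleModule.toSpanSingleton_surjective R (one_ne_zero (α := Γ(K.subscheme, ⊤))) b
    exact ⟨r, ((Algebra.smul_def r (1 : Γ(K.subscheme, ⊤))).trans (mul_one _)).symm.trans hr⟩
  have hfield : IsField Γ(K.subscheme, ⊤) := by
    refine ⟨⟨0, 1, zero_ne_one⟩, mul_comm, fun {a} ha => ?_⟩
    obtain ⟨r, hr⟩ := IsSimpleModule.toSpanSingleton_surjective R ha 1
    refine ⟨φ r, ?_⟩
    rw [mul_comm]
    exact (Algebra.smul_def r a).symm.trans hr
  -- all points are closed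
  have hclosed : ∀ z : K.subscheme, IsClosed ({z} : Set K.subscheme) := fun z => by
    have hz : K.subschemeι z ∈ (K.support : Set X.left) := K.range_subschemeι.le ⟨z, rfl⟩
    rw [hsupp] at hz
    obtain ⟨y, hy⟩ := hz.1
    have hyne : y ≠ genericPoint Γ.curve.left := fun he => hgen (by
      show Γ.ι (genericPoint Γ.curve.left) ∈ _
      rw [← he, hy]
      exact hz.2)
    have h1 := Γ.ι.isClosedEmbedding.isClosedMap _ (isClosed_of_ne_genericPoint Γ.dim_eq.le hyne)
    rw [Set.image_singleton, hy] at h1
    have h2 := h1.preimage K.subschemeι.continuous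
    convert h2 using 1
    ext w
    exact ⟨fun hw => congrArg K.subschemeι hw, fun hw => K.subschemeι.isClosedEmbedding.injective hw⟩
  haveI : IsLocallyNoetherian K.subscheme := LocallyOfFiniteType.isLocallyNoetherian K.subschemeι
  haveI : CompactSpace K.subscheme := K.subschemeι.isClosedEmbedding.compactSpace
  haveI : AlgebraicGeometry.IsNoetherian K.subscheme := ⟨⟩
  haveI : Finite K.subscheme := by
    have hfin := NoetherianSpace.finite_irreducibleComponents (α := K.subscheme)
    have hall : ∀ z : K.subscheme, ({z} : Set K.subscheme) ∈ irreducibleComponents K.subscheme := fun z => by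
      have hc := irreducibleComponent_mem_irreducibleComponents z
      obtain ⟨w, hw⟩ := QuasiSober.sober isIrreducible_irreducibleComponent (isClosed_irreducibleComponent (x := z))
      have : irreducibleComponent z = {w} := hw.def.symm.trans (hclosed w).closure_eq
      have hzw : z = w := this.le mem_irreducibleComponent
      rw [hzw, ← this]
      exact hc
    exact @Finite.of_injective _ _ hfin.to_subtype (fun z => (⟨{z}, hall z⟩ : irreducibleComponents K.subscheme))
      fun a b h => Set.singleton_eq_singleton_iff.mp (congrArg Subtype.val h)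
  haveI : T1Space K.subscheme := ⟨hclosed⟩
  haveI : DiscreteTopology K.subscheme := inferInstance
  haveI : IsAffine K.subscheme := inferInstance
  haveI : Subsingleton K.subscheme := by
    letI := hfield.toField
    haveI : Subsingleton (Spec Γ(K.subscheme, ⊤)) := inferInstanceAs (Subsingleton (PrimeSpectrum Γ(K.subscheme, ⊤)))
    exact K.subscheme.isoSpec.hom.homeomorph.injective.subsingleton
  obtain ⟨z⟩ : Nonempty K.subscheme := by
    by_contra hne
    rw [not_nonempty_iff] at hne
    haveI : Subsingleton Γ(K.subscheme, ⊤) :=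
      ⟨fun a b => TopCat.Presheaf.section_ext K.subscheme.sheaf ⊤ a b fun w _ => hne.elim w⟩
    exact false_of_nontrivial_of_subsingleton Γ(K.subscheme, ⊤)
  have hsing : (K.support : Set X.left) = {K.subschemeι z} := by
    rw [← Scheme.IdealSheafData.range_subschemeι]
    exact Set.Subset.antisymm (by rintro _ ⟨w, rfl⟩; rw [Subsingleton.elim w z]; rfl)
      (Set.singleton_subset_iff.mpr ⟨z, rfl⟩)
  refine ⟨K.subschemeι z, hsupp ▸ hsing, ?_, ?_⟩
  · haveI : IsReduced K.subscheme := by
      letI := hfield.toField
      exact isReduced_of_isOpenImmersion K.subscheme.isoSpec.hom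
    have hs : (⟨closure {K.subschemeι z}, isClosed_closure⟩ : Closeds X.left) = K.support :=
      Closeds.ext (by
        show closure {K.subschemeι z} = (K.support : Set X.left)
        rw [← hsing, K.support.isClosed.closure_eq])
    rw [hs, Scheme.IdealSheafData.vanishingIdeal_support]
    refine Scheme.IdealSheafData.ext (funext fun U => ?_)
    show K.ideal U = (K.ideal U).radical
    refine ((Ideal.radical_eq_iff).mpr ?_).symm
    rw [← Scheme.IdealSheafData.ker_subschemeι_app]
    intro a ⟨m, hm⟩
    rw [RingHom.mem_ker, map_pow] at hm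
    exact RingHom.mem_ker.mpr (IsReduced.eq_zero _ ⟨m, hm⟩)
  · intro w
    obtain ⟨a, rfl⟩ := X.left.residue_surjective _ w
    have hg : Function.Surjective (K.subscheme.presheaf.germ ⊤ z trivial).hom := fun t => by
      obtain ⟨U, hz, s, rfl⟩ := TopCat.Presheaf.exists_germ_eq (F := K.subscheme.presheaf) t
      have hU : U = ⊤ := Opens.ext (Set.eq_univ_of_forall fun w => Subsingleton.elim z w ▸ hz)
      subst hU
      exact ⟨s, rfl⟩
    obtain ⟨s, hs⟩ := hg (K.subschemeι.stalkMap z a)
    obtain ⟨r, hr⟩ := hφ s
    refine ⟨r, ?_⟩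
    have h1 : K.subschemeι.stalkMap z (Models.stalkHom R X _ r - a) = 0 := by
      rw [map_sub, sub_eq_zero, ← hs, ← hr]
      exact Scheme.Hom.germ_stalkMap_apply K.subschemeι ⊤ z trivial (Coh.toGlobal X.hom r)
    refine sub_eq_zero.mp ((map_sub (X.left.residue _).hom _ _).symm.trans ?_)
    refine (IsLocalRing.residue_eq_zero_iff _).mpr ?_
    intro hu
    exact not_isUnit_zero (h1 ▸ hu.map (K.subschemeι.stalkMap z).hom)

/-- A curve with rational constants, no `H¹` and self-intersection `-1` is the projective line. -/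
theorem exists_iso_P1_curve (hX : IsSurf X) (Γ : ArSurf.VertComp R X) (hΓ : BlowUp.IsEffCartierIdeal Γ.ι.ker)
    {L : X.left.Modules} (hL : ClSub.IsInverseOf L (ClSub.idealMod Γ.ι.ker)) 
    (h1 : Models.h1 R X Γ = 0) (hi : ArSurf.inter R X L Γ = -1) :
    ∃ e : Γ.curve.left ≅ CohB1.ProjSpace 1 (IsLocalRing.ResidueField R),
      e.hom ≫ CohB1.ProjSpace.toSpec 1 (IsLocalRing.ResidueField R) = Γ.curve.hom := by
  haveI : IsProper (Γ.curve.left ↘ Spec (CommRingCat.of (IsLocalRing.ResidueField R))) := isProper_curve hX Γ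
  have hcl : CurveCoh17.CurveLike (IsLocalRing.ResidueField R) Γ.curve.left := VB17.curveLike Γ.dim_eq
  have hN := PicLoc.isInvertible_pullback Γ.ι (M2.isInvertible_idealMod _ hΓ)
  rw [inter_eq_neg_ideg hX Γ hΓ hL, neg_inj] at hi
  exact CurveCoh17.exists_iso_P1 Γ.dim_eq hN hi (hcl.two_le_h0 h1 hN hi)

end Groth.Agent.ArInter
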