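import Groth.Agent.Lib.ArInter.Model
import Groth.Agent.Lib.SmoothGeomReg5.Basic
import Groth.Agent.Lib.CurveCoh17.Pencil2
import Groth.Agent.Lib.RefHull26.Normal
import Groth.Agent.S11555
import Groth.Agent.S15544

/-!
# Smooth arithmetic surfaces

In a smooth surface over a discrete valuation ring (or a Dedekind domain) the components of a closed
fibre are disjoint, so nothing can be contracted.
-/

set_option autoImplicit false
set_option linter.style.haveILetI false
set_option linter.unusedSectionVars false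
set_option backward.isDefEq.respectTransparency false

universe u

open CategoryTheory CategoryTheory.Limits AlgebraicGeometry TopologicalSpace Opposite

namespace Groth.Agent.ArInter

/-- The ideal of the fibre in the local ring of a point of a smooth scheme is prime. -/
theorem isPrime_map_of_smooth {X Y : Scheme.{u}} (f : X ⟶ Y) [Smooth f] [IsLocallyNoetherian Y] (x : X) :
    ((IsLocalRing.maximalIdeal (Y.presheaf.stalk (f x))).map (f.stalkMap x).hom).IsPrime := by
  have hx : x ∈ f.smoothLocus := by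
    rw [Scheme.Hom.smoothLocus_eq_top_iff.mpr inferInstance]
    trivial
  obtain ⟨-, hgr⟩ := (SmoothGeomReg5.mem_smoothLocus_iff f x).1 hx
  let A := Y.presheaf.stalk (f x)
  let I := (IsLocalRing.maximalIdeal A).map (f.stalkMap x).hom
  letI : Algebra (IsLocalRing.ResidueField A) (X.presheaf.stalk x ⧸ I) :=
    (Ideal.quotientMap I (f.stalkMap x).hom Ideal.le_comap_map).toAlgebra
  have hgr' : CAlg.IsGeometricallyRegular (IsLocalRing.ResidueField A) (X.presheaf.stalk x ⧸ I) := hgr
  haveI : IsRegularRing (TensorProduct (IsLocalRing.ResidueField A) (IsLocalRing.ResidueField A) (X.presheaf.stalk x ⧸ I)) :=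
    hgr' (IsLocalRing.ResidueField A) (Module.Finite.self _)
  haveI : IsRegularRing (X.presheaf.stalk x ⧸ I) :=
    IsRegularRing.of_ringEquiv (Algebra.TensorProduct.lid (IsLocalRing.ResidueField A) (X.presheaf.stalk x ⧸ I)).toRingEquiv
  haveI : Nontrivial (X.presheaf.stalk x ⧸ I) := by
    refine Ideal.Quotient.nontrivial_iff.mpr fun h => ?_
    have hle : I ≤ IsLocalRing.maximalIdeal (X.presheaf.stalk x) :=
      ((IsLocalRing.local_hom_TFAE (f.stalkMap x).hom).out 0 2 rfl rfl).mp (inferInstanceAs (IsLocalHom (f.stalkMap x).hom))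
    exact (IsLocalRing.maximalIdeal.isMaximal _).ne_top (top_le_iff.mp (h ▸ hle))
  haveI : IsLocalRing (X.presheaf.stalk x ⧸ I) := IsLocalRing.of_surjective' (Ideal.Quotient.mk I) Ideal.Quotient.mk_surjective
  haveI : IsRegularLocalRing (X.presheaf.stalk x ⧸ I) := IsRegularLocalRing.of_isRegularRing_of_isLocalRing _
  exact (Ideal.Quotient.isDomain_iff_prime I).mp (Groth.Agent.S2821.result _).1

/-- In a fibre of a smooth morphism every point has a least generalisation. -/
theorem exists_least_generalisation {X Y : Scheme.{u}} (f : X ⟶ Y) [Smooth f] [IsLocallyNoetherian Y] (x : X) :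
    ∃ η : X, η ⤳ x ∧ f η = f x ∧ ∀ w : X, w ⤳ x → f w = f x → η ⤳ w := by
  let O := X.presheaf.stalk x
  let I := (IsLocalRing.maximalIdeal (Y.presheaf.stalk (f x))).map (f.stalkMap x).hom
  haveI : I.IsPrime := isPrime_map_of_smooth f x
  have hmem : ∀ Q : PrimeSpectrum O, (f (X.fromSpecStalk x Q) = f x ↔ I ≤ Q.asIdeal) := by
    intro Q
    rw [← Scheme.Hom.comp_apply, ← Scheme.SpecMap_stalkMap_fromSpecStalk f (x := x), Scheme.Hom.comp_apply]
    conv_lhs => rhs; rw [← Scheme.fromSpecStalk_closedPoint (X := Y) (x := f x)]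
    rw [(Y.fromSpecStalk (f x)).isEmbedding.injective.eq_iff, Ideal.map_le_iff_le_comap]
    constructor
    · intro h
      exact ((congrArg PrimeSpectrum.asIdeal h : _) : (Q.asIdeal.comap (f.stalkMap x).hom) = _).ge
    · intro h
      apply PrimeSpectrum.ext
      exact ((IsLocalRing.maximalIdeal.isMaximal _).eq_of_le
        (Ideal.IsPrime.ne_top (Ideal.IsPrime.comap (f.stalkMap x).hom)) h).symm
  refine ⟨X.fromSpecStalk x ⟨I, inferInstance⟩, ?_, (hmem _).2 le_rfl, fun w hw hfw => ?_⟩
  · exact (Scheme.range_fromSpecStalk (X := X) (x := x)).le ⟨_, rfl⟩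
  · obtain ⟨Q, rfl⟩ := (Scheme.range_fromSpecStalk (X := X) (x := x)).ge hw
    exact ((PrimeSpectrum.le_iff_specializes _ Q).mp ((hmem Q).1 hfw)).map (X.fromSpecStalk x).continuous

/-- Disjointness of the irreducible components when every point has a least generalisation. -/
theorem isClopen_irreducibleComponent {T : Type u} [TopologicalSpace T] [NoetherianSpace T] [QuasiSober T]
    (h : ∀ x : T, ∃ η, ∀ w, w ⤳ x → η ⤳ w) {C : Set T} (hC : C ∈ irreducibleComponents T) : IsClopen C := by
  refine ⟨isClosed_of_mem_irreducibleComponents C hC, ?_⟩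
  have hdisj : ∀ C' ∈ irreducibleComponents T, C' ≠ C → Disjoint C C' := by
    intro C' hC' hne
    rw [Set.disjoint_left]
    intro x hx hx'
    obtain ⟨c, hc⟩ := QuasiSober.sober hC.1 (isClosed_of_mem_irreducibleComponents C hC)
    obtain ⟨c', hc'⟩ := QuasiSober.sober hC'.1 (isClosed_of_mem_irreducibleComponents C' hC')
    obtain ⟨η, hη⟩ := h x
    have hC1 : C ⊆ closure {η} := hc.def.symm.subset.trans (isClosed_closure.closure_subset_iff.mpr
      (Set.singleton_subset_iff.mpr (specializes_iff_mem_closure.mp (hη c (hc.specializes hx)))))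
    have hC1' : C' ⊆ closure {η} := hc'.def.symm.subset.trans (isClosed_closure.closure_subset_iff.mpr
      (Set.singleton_subset_iff.mpr (specializes_iff_mem_closure.mp (hη c' (hc'.specializes hx')))))
    exact hne ((Set.Subset.antisymm hC1' (hC'.2 isIrreducible_singleton.closure hC1')).trans
      (Set.Subset.antisymm hC1 (hC.2 isIrreducible_singleton.closure hC1)).symm)
  have hcompl : Cᶜ = ⋃₀ (irreducibleComponents T \ {C}) := by
    ext x
    constructor
    · intro hx
      exact ⟨irreducibleComponent x, ⟨irreducibleComponent_mem_irreducibleComponents x,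
        fun e => hx (e ▸ mem_irreducibleComponent)⟩, mem_irreducibleComponent⟩
    · rintro ⟨C', ⟨hC', hne⟩, hx'⟩ hx
      exact Set.disjoint_left.mp (hdisj C' hC' hne) hx hx'
  rw [← isClosed_compl_iff, hcompl, Set.sUnion_eq_biUnion]
  exact (NoetherianSpace.finite_irreducibleComponents.subset Set.sdiff_subset).isClosed_biUnion
    fun C' hC' => isClosed_of_mem_irreducibleComponents C' hC'.1

/-- A preconnected subset of a fibre of a smooth morphism lies over a single generic point of the fibre. -/
theorem exists_generic_of_isPreconnected {X Y : Scheme.{u}} (f : X ⟶ Y) [Smooth f] [IsLocallyNoetherian Y]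
    [IsNoetherian X] {s : Y} (hs : IsClosed ({s} : Set Y)) {F : Set X} (hF : _root_.IsPreconnected F) (hne : F.Nonempty)
    (hFs : F ⊆ f ⁻¹' {s}) :
    ∃ c : X, f c = s ∧ (∀ w, w ⤳ c → f w = s → w = c) ∧ (∀ x ∈ F, c ⤳ x) ∧
      ∀ x, f x = s → c ⤳ x → ∀ c', f c' = s → (∀ w, w ⤳ c' → f w = s → w = c') → c' ⤳ x → c' = c := by
  let Z : Set X := f ⁻¹' {s}
  have hZ : IsClosed Z := hs.preimage f.continuous
  haveI : QuasiSober Z := hZ.isClosedEmbedding_subtypeVal.quasiSober
  haveI : T0Space Z := inferInstance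
  have hleast : ∀ x : Z, ∃ η, ∀ w, w ⤳ x → η ⤳ w := fun x => by
    obtain ⟨η, -, hη, hw⟩ := exists_least_generalisation f x.1
    refine ⟨⟨η, hη.trans x.2⟩, fun w h => ?_⟩
    rw [subtype_specializes_iff] at h ⊢
    exact hw w.1 h (w.2.trans x.2.symm)
  obtain ⟨x₀, hx₀⟩ := hne
  let C := irreducibleComponent (⟨x₀, hFs hx₀⟩ : Z)
  have hC : C ∈ irreducibleComponents Z := irreducibleComponent_mem_irreducibleComponents _
  have hCc := isClopen_irreducibleComponent hleast hC
  have hF' : _root_.IsPreconnected ((↑) ⁻¹' F : Set Z) := by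
    rw [← Topology.IsInducing.subtypeVal.isPreconnected_image, Subtype.image_preimage_coe]
    rwa [Set.inter_eq_right.mpr hFs]
  have hFC := hF'.subset_isClopen hCc ⟨⟨x₀, hFs hx₀⟩, hx₀, mem_irreducibleComponent⟩
  obtain ⟨c, hc⟩ := QuasiSober.sober hC.1 (isClosed_of_mem_irreducibleComponents C hC)
  have hmax : ∀ w, w ⤳ c.1 → f w = s → w = c.1 := fun w hw hws => by
    have h1 : (⟨w, hws⟩ : Z) ⤳ c := (subtype_specializes_iff _ _).mpr hw
    have h2 : C ⊆ closure {(⟨w, hws⟩ : Z)} := hc.def.symm.subset.trans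
      (isClosed_closure.closure_subset_iff.mpr (Set.singleton_subset_iff.mpr (specializes_iff_mem_closure.mp h1)))
    have h3 : (⟨w, hws⟩ : Z) ∈ C := hC.2 isIrreducible_singleton.closure h2 (subset_closure rfl)
    exact congrArg Subtype.val (h1.antisymm (hc.specializes h3)).eq
  refine ⟨c.1, c.2, hmax, fun x hx => (subtype_specializes_iff c ⟨x, hFs hx⟩).mp (hc.specializes (hFC hx)),
    fun x hxs hcx c' hc's hc'max hc'x => ?_⟩
  obtain ⟨η, -, hηs, hη⟩ := exists_least_generalisation f x
  have h1 := hη c.1 hcx (c.2.trans hxs.symm)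
  have h2 := hη c' hc'x (hc's.trans hxs.symm)
  rw [← hmax η h1 (hηs.trans hxs)]
  exact (hc'max η h2 (hηs.trans hxs)).symm

section Models

variable {R : Type u} [CommRing R] [IsDomain R] [IsDiscreteValuationRing R]
  {C X : Scheme.{u}} {f : C ⟶ Spec (CommRingCat.of (FractionRing R))} {p : X ⟶ Spec (CommRingCat.of R)}

theorem maximalIdeal_stalk_spec {π : R} (hπ : Irreducible π) (s : Spec (CommRingCat.of R))
    (hs : s = IsLocalRing.closedPoint R) :
    IsLocalRing.maximalIdeal ((Spec (CommRingCat.of R)).presheaf.stalk s) =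
      Ideal.span {(Spec (CommRingCat.of R)).presheaf.germ ⊤ s trivial ((Scheme.ΓSpecIso (CommRingCat.of R)).inv π)} := by
  subst hs
  letI : Algebra R ((Spec (CommRingCat.of R)).presheaf.stalk (IsLocalRing.closedPoint R)) :=
    StructureSheaf.stalkAlgebra R (IsLocalRing.closedPoint R)
  haveI : IsLocalization.AtPrime ((Spec (CommRingCat.of R)).presheaf.stalk (IsLocalRing.closedPoint R))
      (IsLocalRing.closedPoint R).asIdeal := StructureSheaf.IsLocalization.to_stalk R (IsLocalRing.closedPoint R)
  rw [← IsLocalization.AtPrime.map_eq_maximalIdeal (IsLocalRing.closedPoint R).asIdeal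
      ((Spec (CommRingCat.of R)).presheaf.stalk (IsLocalRing.closedPoint R)),
    show (IsLocalRing.closedPoint R).asIdeal = Ideal.span {π} from
      (IsDiscreteValuationRing.irreducible_iff_uniformizer π).mp hπ, Ideal.map_span, Set.image_singleton]
  rfl

theorem stalkHom_eq (x : X) (π : R) :
    Models.stalkHom R (Over.mk p) x π = (p.stalkMap x).hom
      ((Spec (CommRingCat.of R)).presheaf.germ ⊤ (p x) trivial ((Scheme.ΓSpecIso (CommRingCat.of R)).inv π)) :=
  (Scheme.Hom.germ_stalkMap_apply p ⊤ x trivial _).symm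

/-- No component of a smooth proper model is exceptional. -/
theorem not_isExcCurve_of_smooth (hC : Curve.IsSmoothProperCurve (FractionRing R) C f) (hH0 : IsIso f.appTop)
    (hX : Models.IsRegularProperModel R X p C f) [Smooth p] (Γ : ArSurf.VertComp R (Over.mk p)) :
    ¬ Models.IsExcCurve Γ.ι := by
  rintro ⟨hE, k, _, e, ⟨τ⟩⟩
  have hsurf := isSurf_of_model hC hX
  have hpre := hsurf.pre
  haveI := isNoetherian_left hpre
  haveI : IsNoetherian X := isNoetherian_left hpre
  obtain ⟨π, hπ⟩ := IsDiscreteValuationRing.exists_irreducible R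
  have hs : IsClosed ({IsLocalRing.closedPoint R} : Set (PrimeSpectrum R)) := IsLocalRing.isClosed_singleton_closedPoint R
  obtain ⟨c, hcs, hcmax, hc, -⟩ := exists_generic_of_isPreconnected p hs
    (isConnected_specialFibreSet hC hH0 hX).isPreconnected (isConnected_specialFibreSet hC hH0 hX).nonempty
    (subset_refl _)
  have hγs : p (Models.genPtOf R (Over.mk p) Γ) = IsLocalRing.closedPoint R := genPtOf_mem_specialFibreSet Γ
  have hcγ : c ⤳ Models.genPtOf R (Over.mk p) Γ := hc _ hγs
  have hγc : Models.genPtOf R (Over.mk p) Γ = c := by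
    by_contra hne
    have hc1 : ringKrullDim (X.presheaf.stalk c) = 1 :=
      SecDiv.ringKrullDim_generic (isEffCartierIdeal_fibreIdeal hpre hπ.ne_zero)
        ((mem_support_fibreIdeal hπ _).mpr hcs) fun w hw hwc => hcmax w hwc ((mem_support_fibreIdeal hπ w).mp hw)
    have h2 := SecDiv.two_le_of_specializes hcγ (Ne.symm hne) hc1
    exact absurd (h2.trans_eq (ringKrullDim_genPtOf hpre hE)) (by decide)
  let T : PUnit.{1} → ArSurf.VertComp R (Over.mk p) := fun _ => Γ
  have hinj : Function.Injective fun q => Set.range (T q).ι.base := fun _ _ _ => rfl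
  obtain ⟨a, Q, hZ, hQ, ha, hno⟩ := exists_decomp hpre hπ T (fun _ => hE) hinj
  have hcov : ∀ x ∈ Models.specialFibreSet R (Over.mk p), ∃ q, x ∈ Set.range (T q).ι.base := fun x hx => by
    refine ⟨PUnit.unit, ?_⟩
    rw [range_eq_closure, ← specializes_iff_mem_closure, hγc]
    exact hc x hx
  obtain rfl := eq_top_of_cover hpre hπ T (fun _ => hE) hcov hZ hQ hno
  obtain ⟨i⟩ := nonempty_idealMod_fibreIdeal hpre hπ.ne_zero
  -- reduced fibre
  let γ := Models.genPtOf R (Over.mk p) Γ
  have hfib : DivDesc12.stI (fibreIdeal (Over.mk p) π) γ =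
      (IsLocalRing.maximalIdeal ((Spec (CommRingCat.of R)).presheaf.stalk (p γ))).map (p.stalkMap γ).hom := by
    rw [stI_fibreIdeal, maximalIdeal_stalk_spec hπ (p γ) hγs, Ideal.map_span, Set.image_singleton, stalkHom_eq]
    rfl
  haveI := isPrime_map_of_smooth p γ
  have ha1 : a default = 1 := by
    by_contra hne
    have h2 : 2 ≤ a default := by have := ha default; omega
    rw [stI_fibreIdeal] at hfib
    have hst : DivDesc12.stI (fibreIdeal (Over.mk p) π) γ =
        IsLocalRing.maximalIdeal ((Over.mk p).left.presheaf.stalk γ) ^ a default := by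
      rw [hZ, Fintype.prod_unique, show (⊤ : (Over.mk p).left.IdealSheafData) = 1 from
        Scheme.IdealSheafData.one_eq_top.symm, mul_one, stI_pow, stI_ker_genPtOf]
    rw [stI_fibreIdeal, hfib] at hst
    have hP : (IsLocalRing.maximalIdeal ((Over.mk p).left.presheaf.stalk γ) ^ a default).IsPrime := hst ▸ inferInstance
    have hle := hP.le_of_pow_le le_rfl
    have hle2 : IsLocalRing.maximalIdeal ((Over.mk p).left.presheaf.stalk γ) ≤
        IsLocalRing.maximalIdeal ((Over.mk p).left.presheaf.stalk γ) • IsLocalRing.maximalIdeal ((Over.mk p).left.presheaf.stalk γ) := by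
      rw [smul_eq_mul, ← pow_two]
      exact hle.trans (Ideal.pow_le_pow_right h2)
    have hbot : IsLocalRing.maximalIdeal ((Over.mk p).left.presheaf.stalk γ) = ⊥ :=
      Submodule.eq_bot_of_le_smul_of_le_jacobson_bot _ _ (IsNoetherian.noetherian _) hle2
        (IsLocalRing.maximalIdeal_le_jacobson _)
    have hd := ringKrullDim_genPtOf hpre hE
    rw [show Models.genPtOf R (Over.mk p) Γ = γ from rfl, ringKrullDim_eq_zero_of_isField
      (IsLocalRing.isField_iff_maximalIdeal_eq.mpr hbot)] at hd
    exact absurd hd (by decide)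
  have hZ1 : fibreIdeal (Over.mk p) π = Γ.ι.ker := by
    rw [hZ, Fintype.prod_unique, show (⊤ : (Over.mk p).left.IdealSheafData) = 1 from
      Scheme.IdealSheafData.one_eq_top.symm, mul_one, ha1, pow_one]
  obtain ⟨i'⟩ : Nonempty (Coh.structureModule X ≅ ClSub.idealMod Γ.ι.ker) := hZ1 ▸ ⟨i⟩
  letI : (CohB1.ProjSpace 1 k).Over (Spec (CommRingCat.of k)) := ⟨CohB1.ProjSpace.toSpec 1 k⟩
  have h1 := CurveCoh17.deg_twistP1 k
  rw [CurveCoh17.deg_iso (τ.symm ≪≫ (Scheme.Modules.pullback (e.hom ≫ Γ.ι)).mapIso i'.symm ≪≫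
    PicLoc.pullbackStructureIso (e.hom ≫ Γ.ι)), CurveCoh17.deg_structureModule] at h1
  exact zero_ne_one h1

end Models

end Groth.Agent.ArInter
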