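import Groth.Agent.Lib.ArInter.RedFibre
import Groth.Agent.Lib.ArInter.Smooth
import Groth.Agent.Lib.OrbitTop19.Smooth
import Groth.Agent.Lib.CurveR1_10.Basic

/-!
# Models of smooth connected generic fibres, and constants over an algebraically closed residue field
-/

set_option autoImplicit false
set_option linter.style.haveILetI false
set_option linter.unusedSectionVars false
set_option backward.isDefEq.respectTransparency false

universe u

open CategoryTheory CategoryTheory.Limits AlgebraicGeometry TopologicalSpace Opposite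

namespace Groth.Agent.ArInter

variable {R : Type u} [CommRing R] [IsDomain R] [IsDiscreteValuationRing R]
  {C X : Scheme.{u}} {f : C ⟶ Spec (CommRingCat.of (FractionRing R))} {p : X ⟶ Spec (CommRingCat.of R)}

/-- A smooth proper scheme over a field with only constant functions is integral. -/
theorem isIntegral_of_smooth_constants {k : Type u} [Field k] {Z : Scheme.{u}}
    (q : Z ⟶ Spec (CommRingCat.of k)) [IsProper q] [Smooth q] (hq : Function.Bijective q.appTop.hom) :
    IsIntegral Z := by
  haveI : AlgebraicGeometry.IsReduced Z := OrbitTop19.isReduced_of_smooth q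
  haveI : CompactSpace Z := QuasiCompact.compactSpace_of_compactSpace q
  haveI : IsLocallyNoetherian Z := LocallyOfFiniteType.isLocallyNoetherian q
  haveI : IsNoetherian Z := {}
  haveI : Nonempty Z := by
    by_contra h
    rw [not_nonempty_iff] at h
    haveI := hq.1.nontrivial
    exact not_subsingleton Γ(Z, ⊤) inferInstance
  let s₀ : Spec (CommRingCat.of k) := IsLocalRing.closedPoint k
  haveI : Subsingleton (Spec (CommRingCat.of k)) := inferInstanceAs (Subsingleton (PrimeSpectrum k))
  have huniv : (q ⁻¹' {s₀} : Set Z) = Set.univ := Set.eq_univ_of_forall fun z => Subsingleton.elim _ _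
  have hpre : _root_.IsPreconnected (Set.univ : Set Z) :=
    huniv ▸ HensProper6.isPreconnected_fibre q hq s₀
  obtain ⟨c, -, -, hc, -⟩ := exists_generic_of_isPreconnected q (isClosed_discrete {s₀}) hpre Set.univ_nonempty
    huniv.ge
  have hgen : IsGenericPoint c (Set.univ : Set Z) :=
    Set.eq_univ_of_forall fun x => specializes_iff_mem_closure.mp (hc x trivial)
  haveI : IrreducibleSpace Z := (irreducibleSpace_def Z).mpr hgen.isIrreducible
  exact isIntegral_of_irreducibleSpace_of_isReduced Z

theorem isIntegral_of_isModel' [IsIntegral C] (hX : Models.IsModel R X p C f)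
    (hreg : Models.IsRegularScheme X) : IsIntegral X := by
  obtain ⟨hflat, hlft, -, g, hg⟩ := hX
  haveI : ∀ x : X, _root_.IsReduced (X.presheaf.stalk x) := fun x =>
    haveI := hreg x
    haveI := RegLoc.isDomain (X.presheaf.stalk x)
    inferInstance
  haveI : AlgebraicGeometry.IsReduced X := isReduced_of_isReduced_stalk X
  have hgen : IsGenericPoint (g.base (genericPoint C)) (Set.univ : Set X) :=
    Set.eq_univ_of_forall fun x => specializes_iff_mem_closure.mp (genericPoint_eq_image hflat hlft hg x)
  haveI : IrreducibleSpace X :=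
    (irreducibleSpace_def X).mpr hgen.isIrreducible
  exact isIntegral_of_irreducibleSpace_of_isReduced X

theorem bijective_appTop' [IsIntegral C] (hH0 : IsIso f.appTop)
    (hX : Models.IsRegularProperModel R X p C f) : Function.Bijective p.appTop.hom := by
  haveI := hX.2.1
  haveI := isIntegral_of_isModel' hX.1 hX.2.2
  obtain ⟨hflat, hlft, -, g, hg⟩ := hX.1
  let φ : R →+* Γ(X, ⊤) := Coh.toGlobal p
  let ψ : FractionRing R →+* Γ(C, ⊤) := Coh.toGlobal f
  have hψ : Function.Bijective ψ :=
    (ConcreteCategory.bijective_of_isIso f.appTop).comp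
      (ConcreteCategory.bijective_of_isIso (Scheme.ΓSpecIso (CommRingCat.of (FractionRing R))).inv)
  have hcomm : g.appTop.hom.comp φ = ψ.comp (algebraMap R (FractionRing R)) := by
    ext r
    have h2 := congrArg (fun π => ((Scheme.ΓSpecIso (CommRingCat.of R)).inv ≫ π.appTop).hom r) hg.w
    simp only [Scheme.Hom.comp_appTop] at h2
    rw [← Scheme.ΓSpecIso_inv_naturality_assoc] at h2
    exact h2
  have hinj := appTop_injective_of_generic g (genericPoint_eq_image hflat hlft hg)
  let j : Γ(X, ⊤) →+* FractionRing R := ((RingEquiv.ofBijective ψ hψ).symm : _ →+* _).comp g.appTop.hom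
  have hj : Function.Injective j := (RingEquiv.ofBijective ψ hψ).symm.injective.comp hinj
  have hjφ : j.comp φ = algebraMap R (FractionRing R) := by
    rw [RingHom.comp_assoc, hcomm]
    ext r
    exact (RingEquiv.ofBijective ψ hψ).symm_apply_apply _
  have hφ : Function.Bijective φ := by
    refine ⟨fun a b hab => IsFractionRing.injective R (FractionRing R) ?_, fun a => ?_⟩
    · rw [← hjφ]
      exact congrArg j hab
    · letI := φ.toAlgebra
      haveI : Module.Finite R Γ(X, ⊤) := HensProper6.finite_toGlobal p
      let jA : Γ(X, ⊤) →ₐ[R] FractionRing R := { j with commutes' := RingHom.congr_fun hjφ }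
      obtain ⟨r, hr⟩ := IsIntegrallyClosed.algebraMap_eq_of_integral
        ((IsIntegral.of_finite R a).map jA)
      exact ⟨r, hj (((RingHom.congr_fun hjφ r)).trans hr)⟩
  have e : p.appTop.hom = φ.comp (Scheme.ΓSpecIso (CommRingCat.of R)).hom.hom := by
    ext r
    show _ = p.appTop ((Scheme.ΓSpecIso (CommRingCat.of R)).inv ((Scheme.ΓSpecIso (CommRingCat.of R)).hom r))
    exact congrArg p.appTop.hom ((Scheme.ΓSpecIso (CommRingCat.of R)).hom_inv_id_apply r).symm
  rw [e, RingHom.coe_comp]
  exact hφ.comp (ConcreteCategory.bijective_of_isIso (Scheme.ΓSpecIso (CommRingCat.of R)).hom)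

theorem isConnected_specialFibreSet' [IsIntegral C] (hH0 : IsIso f.appTop)
    (hX : Models.IsRegularProperModel R X p C f) :
    _root_.IsConnected (Models.specialFibreSet R (Over.mk p)) := by
  haveI := hX.2.1
  refine ⟨?_, HensProper6.isPreconnected_fibre p (bijective_appTop' hH0 hX) (IsLocalRing.closedPoint R)⟩
  obtain ⟨-, -, -, g, -⟩ := hX.1
  let x : X := g.base (genericPoint C)
  have hcl : IsClosed (Set.range p.base) := p.isClosedMap.isClosed_range
  obtain ⟨z, hz⟩ := (IsLocalRing.specializes_closedPoint (R := R) (p x)).mem_closed hcl ⟨x, rfl⟩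
  exact ⟨z, hz⟩

/-- Over an algebraically closed residue field the constants of a vertical divisor have length one. -/
theorem lengthH_eq_one_of_isAlgClosed {X : Over (Spec (CommRingCat.of R))} [IsAlgClosed (IsLocalRing.ResidueField R)]
    {K : X.left.IdealSheafData} (hfl : FinLen R (ClSub.quotMod K)) (hF : IsField Γ(K.subscheme, ⊤)) :
    Models.lengthH R X (ClSub.quotMod K) 0 = 1 := by
  let φ : R →+* Γ(K.subscheme, ⊤) := K.subschemeι.appTop.hom.comp (Coh.toGlobal X.hom)
  have hfin : φ.Finite := finite_toGlobal_of_finLen hfl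
  letI : Algebra R Γ(K.subscheme, ⊤) := φ.toAlgebra
  haveI : Module.Finite R Γ(K.subscheme, ⊤) := hfin
  letI := hF.toField
  have hmax : (RingHom.ker φ).IsMaximal := by
    haveI := (inferInstance : Algebra.IsIntegral R Γ(K.subscheme, ⊤))
    exact Ideal.isMaximal_comap_of_isIntegral_of_isMaximal (R := R) (⊥ : Ideal Γ(K.subscheme, ⊤))
  have hker : RingHom.ker φ = IsLocalRing.maximalIdeal R := IsLocalRing.eq_maximalIdeal hmax
  let ψ : IsLocalRing.ResidueField R →+* Γ(K.subscheme, ⊤) :=
    Ideal.Quotient.lift _ φ fun r hr => by rwa [← RingHom.mem_ker, hker]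
  have hψ : ψ.IsIntegral := RingHom.IsIntegral.tower_top (IsLocalRing.residue R) ψ
    (by exact hfin.to_isIntegral)
  have hsurj : Function.Surjective φ := fun b => by
    letI := ψ.toAlgebra
    haveI : Algebra.IsIntegral (IsLocalRing.ResidueField R) Γ(K.subscheme, ⊤) := ⟨hψ⟩
    obtain ⟨c, hc⟩ := (IsAlgClosed.algebraMap_bijective_of_isIntegral
      (k := IsLocalRing.ResidueField R) (K := Γ(K.subscheme, ⊤))).2 b
    obtain ⟨r, rfl⟩ := IsLocalRing.residue_surjective c
    exact ⟨r, hc⟩
  let e : Coh.HH X.left (ClSub.quotMod K) 0 ≃ₗ[R] Γ(K.subscheme, ⊤) :=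
    { toFun := fun x => CurveCoh17.hh0 (ClSub.quotMod K) x
      invFun := fun x => (CurveCoh17.hh0 (ClSub.quotMod K)).symm x
      left_inv := fun x => (CurveCoh17.hh0 (ClSub.quotMod K)).symm_apply_apply x
      right_inv := fun x => (CurveCoh17.hh0 (ClSub.quotMod K)).apply_symm_apply x
      map_add' := fun x y => map_add _ x y
      map_smul' := fun r x => hh0_quotMod_smul (A := R) K r x }
  haveI : IsSimpleModule R Γ(K.subscheme, ⊤) :=
    { eq_bot_or_eq_top := fun N => or_iff_not_imp_left.mpr fun hN => by
        obtain ⟨a, haN, ha⟩ := N.exists_mem_ne_zero_of_ne_bot hN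
        refine (Submodule.eq_top_iff'.mpr fun b => ?_)
        obtain ⟨r, hr⟩ := hsurj (b / a)
        have : r • a = b := (Algebra.smul_def r a).trans ((congrArg (· * a) hr).trans (div_mul_cancel₀ b ha))
        exact this ▸ N.smul_mem r haN }
  rw [Models.lengthH, e.length_eq, Module.length_eq_one R Γ(K.subscheme, ⊤)]
  rfl

end Groth.Agent.ArInter
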