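import Groth.Agent.Lib.ArInter.Form
import Groth.Agent.Lib.ArInter.Geometric
import Groth.Agent.Lib.ArInter.GoDown
import Groth.Agent.Lib.IndexMult.Fibre

/-!
# Vanishing of the intersection form and isolated points of the closed fibre
-/

set_option autoImplicit false
set_option linter.style.haveILetI false
set_option linter.unusedSectionVars false
set_option maxHeartbeats 1000000
set_option backward.isDefEq.respectTransparency false

universe u

open CategoryTheory CategoryTheory.Limits AlgebraicGeometry TopologicalSpace Opposite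

namespace Groth.Agent.ArInter

variable {R : Type u} [CommRing R] [IsDomain R] [IsDiscreteValuationRing R]
  {X : Over (Spec (CommRingCat.of R))}

/-- A vector on which the form is non-negative is supported on a union of connected pieces of the closed fibre. -/
theorem exists_split_of_form_nonneg (hS : IsSurf X) {r : ℕ} (Γ : Fin r → ArSurf.VertComp R X)
    (hΓ : Function.Injective fun i => Set.range ((Γ i).ι.base : (Γ i).curve.left → X.left))
    (L : Fin r → X.left.Modules) (hL : ∀ j, ClSub.IsInverseOf (L j) (ClSub.idealMod (Γ j).ι.ker))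
    (x : Fin r → ℤ) (hx : x ≠ 0)
    (hge : 0 ≤ (Finset.univ : Finset (Fin r × Fin r)).sum (fun p => x p.1 * x p.2 * ArSurf.inter R X (L p.2) (Γ p.1))) :
    ∃ (p₀ : Fin r) (S : Set (Fin r)) (C' : Set X.left), p₀ ∈ S ∧ IsClosed (⋃ p ∈ S, Set.range (Γ p).ι.base) ∧
      IsClosed C' ∧ Disjoint (⋃ p ∈ S, Set.range (Γ p).ι.base) C' ∧
      ∀ z ∈ Models.specialFibreSet R X, z ∈ (⋃ p ∈ S, Set.range (Γ p).ι.base) ∨ z ∈ C' := by
  classical
  -- the divisor of the closed fibre
  obtain ⟨π, hπ⟩ := IsDiscreteValuationRing.exists_irreducible R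
  have hE := fun p => isEffCartierIdeal_ker (hL p)
  obtain ⟨a, Q, hZ, hQ, ha, hno⟩ := exists_decomp hS.pre hπ Γ hE hΓ
  obtain ⟨LQ, -, ⟨eQ⟩⟩ := M2.exists_inverse (M2.isInvertible_idealMod Q hQ)
  have hLQ : ClSub.IsInverseOf LQ (ClSub.idealMod Q) := ⟨M2.tensorComm _ _ ≪≫ eQ⟩
  have hrow : ∀ p, ∑ q, (a q : ℤ) * ArSurf.inter R X (L q) (Γ p) = -ArSurf.inter R X LQ (Γ p) := fun p => by
    rw [sum_mul_inter hS hπ Γ L hL hZ hQ, inter_eq_neg_ideg hS (Γ p) hQ hLQ, neg_neg]
  have hrow0 := fun p => inter_nonneg_and_eq_zero_iff hS (Γ p) hQ (hno p) hLQ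
  let N : Fin r → Fin r → ℚ := fun q p => (ArSurf.inter R X (L q) (Γ p) : ℚ)
  let w : Fin r → ℚ := fun p => (a p : ℚ)
  have hw : ∀ p, 0 < w p := fun p => Nat.cast_pos.mpr (ha p)
  have hoff : ∀ p q, p ≠ q → 0 ≤ N q p := fun p q h =>
    Int.cast_nonneg (inter_nonneg hS hΓ hL p q h)
  have hsymm : ∀ p q, N p q = N q p := fun p q => congrArg (fun z : ℤ => (z : ℚ)) (inter_symm hS hΓ hL p q)
  have hN : ∀ p, ∑ q, w q * N q p = -(ArSurf.inter R X LQ (Γ p) : ℚ) := fun p => by
    have h := congrArg (fun z : ℤ => (z : ℚ)) (hrow p)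
    push_cast at h
    exact h
  let y' : Fin r → ℚ := fun p => (x p : ℚ) / w p
  have hxy : ∀ p, w p * y' p = (x p : ℚ) := fun p => mul_div_cancel₀ _ (hw p).ne'
  have hid := form_identity N w hsymm y'
  simp only [hxy] at hid
  have hA : ∀ p, w p * y' p ^ 2 * (∑ q, w q * N q p) ≤ 0 := fun p =>
    mul_nonpos_of_nonneg_of_nonpos (mul_nonneg (hw p).le (sq_nonneg _)) (by
      rw [hN]; exact neg_nonpos.mpr (Int.cast_nonneg (hrow0 p).1))
  have hB := fun p q => term_nonneg N w hw hoff y' p q
  rw [Fintype.sum_prod_type] at hge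
  have hge' : (0 : ℚ) ≤ ∑ p, ∑ q, (x p : ℚ) * (x q : ℚ) * N q p := by
    have h := Int.cast_nonneg (R := ℚ) hge
    push_cast at h
    exact h
  have hA' := Finset.sum_nonpos (s := Finset.univ) fun p _ => hA p
  have hB' := Finset.sum_nonneg (s := Finset.univ) fun p _ => Finset.sum_nonneg (s := Finset.univ) fun q _ => hB p q
  have hA0 := (Finset.sum_eq_zero_iff_of_nonpos fun p _ => hA p).1 (by linarith : ∑ p, w p * y' p ^ 2 * (∑ q, w q * N q p) = 0)
  have hB0 := (Finset.sum_eq_zero_iff_of_nonneg fun p _ => Finset.sum_nonneg fun q _ => hB p q).1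
    (by linarith : ∑ p, ∑ q, w p * w q * N q p * (y' p - y' q) ^ 2 = 0)
  obtain ⟨p₀, hp₀⟩ : ∃ p, x p ≠ 0 := by
    by_contra h
    push_neg at h
    exact hx (funext h)
  let S : Set (Fin r) := {p | x p ≠ 0}
  have hy0 : ∀ p, p ∈ S ↔ y' p ≠ 0 := fun p => by
    simp [S, y', (hw p).ne']
  have hdQ : ∀ p ∈ S, Disjoint (Set.range (Γ p).ι.base) (Q.support : Set X.left) := fun p hp => by
    refine (hrow0 p).2.1 ?_
    have h := hA0 p (Finset.mem_univ p)
    rw [hN] at h
    have h2 : w p * y' p ^ 2 ≠ 0 := mul_ne_zero (hw p).ne' (pow_ne_zero 2 ((hy0 p).1 hp))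
    have h3 := (mul_eq_zero.1 h).resolve_left h2
    rw [neg_eq_zero, Int.cast_eq_zero] at h3
    exact h3
  have hdS : ∀ p ∈ S, ∀ q, q ∉ S → Disjoint (Set.range (Γ p).ι.base) (Set.range (Γ q).ι.base) := fun p hp q hq => by
    have hne : p ≠ q := fun h => hq (h ▸ hp)
    have h1 := (Finset.sum_eq_zero_iff_of_nonneg fun q _ => hB p q).1 (hB0 p (Finset.mem_univ p)) q (Finset.mem_univ q)
    have h2 : y' q = 0 := by_contra fun h => hq ((hy0 q).2 h)
    rw [h2, sub_zero] at h1
    have h3 : N q p = 0 := by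
      rcases mul_eq_zero.1 h1 with h | h
      · exact (mul_eq_zero.1 h).resolve_left (mul_ne_zero (hw p).ne' (hw q).ne')
      · exact absurd (pow_eq_zero_iff two_ne_zero |>.1 h) ((hy0 p).1 hp)
    have hgenp : (Γ p).ι.base (genericPoint ↥(Γ p).curve.left) ∉ ((Γ q).ι.ker.support : Set ↥X.left) := by
      rw [coe_support_ker]
      exact genPtOf_notMem_range hS.pre (hE p) (hE q) fun e => hne (hΓ e)
    have h4 := (inter_nonneg_and_eq_zero_iff hS (Γ p) (hE q) hgenp (hL q)).2.1 (Int.cast_eq_zero.1 h3)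
    rwa [coe_support_ker] at h4
  -- the clopen piece contracted to `y`
  let C : Set X.left := ⋃ p ∈ S, Set.range (Γ p).ι.base
  let C' : Set X.left := (Q.support : Set X.left) ∪ ⋃ q ∈ Sᶜ, Set.range (Γ q).ι.base
  have hC : IsClosed C := (Set.toFinite _).isClosed_biUnion fun p _ => (Γ p).ι.isClosedEmbedding.isClosed_range
  have hC' : IsClosed C' := Q.support.isClosed.union
    ((Set.toFinite _).isClosed_biUnion fun p _ => (Γ p).ι.isClosedEmbedding.isClosed_range)
  have hdisj : Disjoint C C' := by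
    rw [Set.disjoint_left]
    intro z hz hz'
    obtain ⟨p, hp, hzp⟩ := Set.mem_iUnion₂.1 hz
    rcases hz' with h | h
    · exact Set.disjoint_left.1 (hdQ p hp) hzp h
    · obtain ⟨q, hq, hzq⟩ := Set.mem_iUnion₂.1 h
      exact Set.disjoint_left.1 (hdS p hp q hq) hzp hzq
  have hcov : ∀ z ∈ Models.specialFibreSet R X, z ∈ C ∨ z ∈ C' := fun z hz => by
    have h := (mem_support_fibreIdeal hπ z).2 hz
    rw [hZ, Scheme.IdealSheafData.support_mul] at h
    rcases h with h | h
    · obtain ⟨q, -, -, hq⟩ := support_finsetProd _ _ _ h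
      have hq' := (coe_support_ker (Γ q)).le hq
      rcases em (q ∈ S) with hqS | hqS
      · exact Or.inl (Set.mem_biUnion hqS hq')
      · exact Or.inr (Or.inr (Set.mem_biUnion (s := Sᶜ) hqS hq'))
    · exact Or.inr (Or.inl h)
  exact ⟨p₀, S, C', hp₀, hC, hC', hdisj, hcov⟩

variable {Y : Over (Spec (CommRingCat.of R))}

theorem specMap_stalkHom_eq (y : Y.left) :
    Spec.map (CommRingCat.ofHom (Models.stalkHom R Y y)) = Y.left.fromSpecStalk y ≫ Y.hom := by
  have h : Y.left.toSpecΓ ≫ Spec.map ((Scheme.ΓSpecIso (CommRingCat.of R)).inv ≫ Y.hom.appTop) = Y.hom := by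
    rw [Spec.map_comp, ← Category.assoc, ← Scheme.toSpecΓ_naturality, Category.assoc,
      toSpecΓ_SpecMap_ΓSpecIso_inv, Category.comp_id]
  conv_rhs => rw [← h, ← Category.assoc, Scheme.fromSpecStalk_toSpecΓ, ← Spec.map_comp]
  rfl

/-- An isolated point of the closed fibre of a normal family has a valuation ring. -/
theorem valuationRing_of_isolated [IsIntegral Y.left] [IsLocallyNoetherian Y.left] (y : Y.left)
    [IsIntegrallyClosed (Y.left.presheaf.stalk y)] (hys : Y.hom y = IsLocalRing.closedPoint R)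
    (hiso : ∀ z : Y.left, z ⤳ y → Y.hom z = IsLocalRing.closedPoint R → z = y) :
    ValuationRing (Y.left.presheaf.stalk y) := by
  obtain ⟨π, hπ⟩ := IsDiscreteValuationRing.exists_irreducible R
  let O := Y.left.presheaf.stalk y
  have hval : ValuationRing O := by
    have hprime : ∀ P : Ideal O, P.IsPrime → Models.stalkHom R Y y π ∈ P → P = IsLocalRing.maximalIdeal O := by
      intro P hP hπP
      let z : Y.left := Y.left.fromSpecStalk y ⟨P, hP⟩
      have hzy : z ⤳ y := by
        have : z ∈ Set.range (Y.left.fromSpecStalk y) := ⟨_, rfl⟩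
        rw [Scheme.range_fromSpecStalk] at this
        exact this
      have hzs : Y.hom z = IsLocalRing.closedPoint R := by
        show Y.hom (Y.left.fromSpecStalk y ⟨P, hP⟩) = _
        rw [← Scheme.Hom.comp_apply, ← specMap_stalkHom_eq y]
        refine PrimeSpectrum.ext ?_
        haveI := hP
        symm
        refine (IsLocalRing.maximalIdeal.isMaximal R).eq_of_le (Ideal.IsPrime.comap (Models.stalkHom R Y y)).ne_top ?_
        rw [(IsDiscreteValuationRing.irreducible_iff_uniformizer π).mp hπ, Ideal.span_singleton_le_iff_mem]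
        exact hπP
      have h1 := hiso z hzy hzs
      have h2 : (⟨P, hP⟩ : PrimeSpectrum O) = IsLocalRing.closedPoint O :=
        (Y.left.fromSpecStalk y).isEmbedding.injective (h1.trans Scheme.fromSpecStalk_closedPoint.symm)
      exact congrArg PrimeSpectrum.asIdeal h2
    have hπm : Models.stalkHom R Y y π ∈ IsLocalRing.maximalIdeal O := by
      by_contra h
      have h' : IsUnit (Models.stalkHom R Y y π) := by_contra fun hh => h hh
      have h1 := congrArg (fun q : PrimeSpectrum R => q.asIdeal) hys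
      have h2 : π ∈ (IsLocalRing.closedPoint R).asIdeal := hπ.not_isUnit
      rw [← Scheme.fromSpecStalk_closedPoint (X := Y.left) (x := y), ← Scheme.Hom.comp_apply,
        ← specMap_stalkHom_eq y] at hys
      rw [← hys] at h2
      exact h2 h'
    have hmin : IsLocalRing.maximalIdeal O ∈ (Ideal.span {Models.stalkHom R Y y π}).minimalPrimes :=
      ⟨⟨inferInstance, (Ideal.span_singleton_le_iff_mem _).2 hπm⟩, fun P hP _ =>
        (hprime P hP.1 ((Ideal.span_singleton_le_iff_mem _).1 hP.2)).ge⟩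
    have hht := Ideal.height_le_one_of_isPrincipal_of_mem_minimalPrimes _ _ hmin
    have hT : IsIntegrallyClosed O ∧ (∀ P : Ideal O, P ≠ ⊥ → P.IsPrime → P = IsLocalRing.maximalIdeal O) → ValuationRing O :=
      ((tfae_of_isNoetherianRing_of_isLocalRing_of_isDomain O).out 3 1).1
    refine hT ⟨inferInstance, fun P hP0 hP => ?_⟩
    by_contra hne
    have hlt : P < IsLocalRing.maximalIdeal O := lt_of_le_of_ne (IsLocalRing.le_maximalIdeal hP.ne_top) hne
    have h1 : (0 : ℕ∞) < P.height := by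
      rw [pos_iff_ne_zero]
      intro h
      exact hP0 ((Ideal.height_eq_zero_iff_eq_bot).1 h)
    have h2 := Ideal.height_strict_mono_of_isPrime hlt
    have h3 : (1 : ℕ∞) ≤ P.height := Order.one_le_iff_pos.2 h1
    exact absurd (lt_of_le_of_lt h3 h2) (not_lt.2 hht)
  exact hval

end Groth.Agent.ArInter
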