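import Groth.Agent.Lib.ArInter.Section
import Groth.Agent.Lib.ArInter.Chain
import Mathlib.AlgebraicGeometry.ValuativeCriterion

/-!
# Fields of constants through a rational point; sections from rational points
-/

set_option autoImplicit false
set_option linter.style.haveILetI false
set_option linter.unusedSectionVars false
set_option backward.isDefEq.respectTransparency false

universe u

open CategoryTheory CategoryTheory.Limits AlgebraicGeometry TopologicalSpace Opposite

namespace Groth.Agent.ArInter

variable {R : Type u} [CommRing R] [IsDomain R] [IsDiscreteValuationRing R]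
  {X : Over (Spec (CommRingCat.of R))}

/-- A field of global functions with an evaluation at a rational point is a quotient of the base. -/
theorem surjective_toGlobal_of_rational {Z : Scheme.{u}} (h : Z ⟶ X.left) [IsClosedImmersion h] (z : Z)
    (hF : IsField Γ(Z, ⊤))
    (hrat : Function.Surjective ((X.left.residue (h z)).hom.comp (Models.stalkHom R X (h z)))) :
    Function.Surjective (h.appTop.hom.comp (Coh.toGlobal X.hom)) := by
  letI := hF.toField
  have hev : Function.Injective (Z.Γevaluation z).hom := RingHom.injective _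
  have hsurj : Function.Surjective (h.residueFieldMap z).hom := by
    intro w
    obtain ⟨a, rfl⟩ := Z.residue_surjective z w
    obtain ⟨b, rfl⟩ := (SurjectiveOnStalks.stalkMap_surjective h z) a
    exact ⟨X.left.residue (h z) b, congrArg (fun φ => φ.hom b) (Scheme.residue_residueFieldMap h z)⟩
  intro a
  obtain ⟨w, hw⟩ := hsurj (Z.Γevaluation z a)
  obtain ⟨r, hr⟩ := hrat w
  refine ⟨r, hev ?_⟩
  refine (Scheme.Γevaluation_naturality_apply h z (Coh.toGlobal X.hom r)).symm.trans ?_
  refine Eq.trans ?_ hw
  exact congrArg _ hr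

theorem toGlobal_residue (Γ : ArSurf.VertComp R X) (r : R) :
    (Γ.ι.appTop.hom.comp (Coh.toGlobal X.hom)) r = Coh.toGlobal Γ.curve.hom (IsLocalRing.residue R r) := by
  have h1 := congrArg (fun φ => φ.appTop.hom ((Scheme.ΓSpecIso (CommRingCat.of R)).inv.hom r)) Γ.w
  rw [Scheme.Hom.comp_appTop, Scheme.Hom.comp_appTop] at h1
  refine h1.trans ?_
  exact congrArg (fun t => Γ.curve.hom.appTop.hom t)
    (congrArg (fun φ => φ.hom r) (Scheme.ΓSpecIso_inv_naturality (CommRingCat.ofHom (IsLocalRing.residue R)))).symm

/-- A vertical curve through a rational point has the residue field as field of constants. -/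
theorem wdeg_eq_one (hX : IsSurf X) (Γ : ArSurf.VertComp R X) (y : Γ.curve.left)
    (hrat : Function.Surjective ((X.left.residue (Γ.ι y)).hom.comp (Models.stalkHom R X (Γ.ι y)))) :
    Models.wdeg R X Γ = 1 := by
  let k := IsLocalRing.ResidueField R
  haveI : IsProper Γ.curve.hom := isProper_curve hX Γ
  let κ := Coh.Γtop Γ.curve.left
  let φ : k →+* Γ(Γ.curve.left, ⊤) := Coh.toGlobal Γ.curve.hom
  letI : CommRing κ := inferInstanceAs (CommRing Γ(Γ.curve.left, ⊤))
  letI : Algebra k κ := RingHom.toAlgebra (S := κ) φ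
  haveI : Module.Finite k κ := HensProper6.finite_toGlobal Γ.curve.hom
  haveI : IsDomain κ := inferInstanceAs (IsDomain Γ(Γ.curve.left, ⊤))
  have hF : IsField κ := isField_of_isIntegral_of_isField' (Field.toIsField k)
  have hφ : Function.Surjective φ := fun w => by
    obtain ⟨r, hr⟩ := surjective_toGlobal_of_rational Γ.ι y hF hrat w
    exact ⟨IsLocalRing.residue R r, (toGlobal_residue Γ r).symm.trans hr⟩
  letI := hF.toField
  let O := Coh.structureModule Γ.curve.left
  haveI : IsScalarTower k κ (Coh.HH Γ.curve.left O 0) := ⟨fun r c x => by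
    rw [Algebra.smul_def, mul_smul]
    rfl⟩
  let x₀ : Coh.HH Γ.curve.left O 0 := (CurveCoh17.hh0 O).symm (1 : Γ(Γ.curve.left, ⊤))
  have hval : ∀ c : κ, CurveCoh17.hh0 O (LinearMap.toSpanSingleton κ _ x₀ c) = (c : Γ(Γ.curve.left, ⊤)) := fun c => by
    refine (CurveCoh17.hh0_smul (M := O) c x₀).trans ?_
    exact (congrArg _ ((CurveCoh17.hh0 O).apply_symm_apply (1 : Γ(Γ.curve.left, ⊤)))).trans
      (mul_one (c : Γ(Γ.curve.left, ⊤)))
  have hb : Function.Bijective (LinearMap.toSpanSingleton κ _ x₀) :=
    ⟨fun c d h => ((hval c).symm.trans (congrArg _ h)).trans (hval d),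
      fun z => ⟨_, (CurveCoh17.hh0 O).injective (hval _)⟩⟩
  refine (Module.finrank_mul_finrank k κ (Coh.HH Γ.curve.left O 0)).symm.trans ?_
  rw [← (LinearEquiv.ofBijective _ hb).finrank_eq, Module.finrank_self, mul_one,
    ← (LinearEquiv.ofBijective (Algebra.linearMap k κ) ⟨RingHom.injective _, hφ⟩).finrank_eq, Module.finrank_self]

/-- Constants of a closed subscheme with a rational point: length one. -/
theorem lengthH_eq_one {K : X.left.IdealSheafData} (hF : IsField Γ(K.subscheme, ⊤)) {x : X.left}
    (hx : x ∈ K.support)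
    (hrat : Function.Surjective ((X.left.residue x).hom.comp (Models.stalkHom R X x))) :
    Models.lengthH R X (ClSub.quotMod K) 0 = 1 := by
  obtain ⟨z, rfl⟩ : x ∈ Set.range K.subschemeι := K.range_subschemeι.ge hx
  let φ : R →+* Γ(K.subscheme, ⊤) := K.subschemeι.appTop.hom.comp (Coh.toGlobal X.hom)
  have hsurj : Function.Surjective φ := surjective_toGlobal_of_rational K.subschemeι z hF hrat
  letI : Algebra R Γ(K.subscheme, ⊤) := φ.toAlgebra
  let e : Coh.HH X.left (ClSub.quotMod K) 0 ≃ₗ[R] Γ(K.subscheme, ⊤) :=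
    { toFun := fun x => CurveCoh17.hh0 (ClSub.quotMod K) x
      invFun := fun x => (CurveCoh17.hh0 (ClSub.quotMod K)).symm x
      left_inv := fun x => (CurveCoh17.hh0 (ClSub.quotMod K)).symm_apply_apply x
      right_inv := fun x => (CurveCoh17.hh0 (ClSub.quotMod K)).apply_symm_apply x
      map_add' := fun x y => map_add _ x y
      map_smul' := fun r x => hh0_quotMod_smul (A := R) K r x }
  letI := hF.toField
  haveI : IsSimpleModule R Γ(K.subscheme, ⊤) :=
    { eq_bot_or_eq_top := fun N => or_iff_not_imp_left.mpr fun hN => by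
        obtain ⟨a, haN, ha⟩ := N.exists_mem_ne_zero_of_ne_bot hN
        refine (Submodule.eq_top_iff'.mpr fun b => ?_)
        obtain ⟨r, hr⟩ := hsurj (b / a)
        have : r • a = b := (Algebra.smul_def r a).trans ((congrArg (· * a) hr).trans (div_mul_cancel₀ b ha))
        exact this ▸ N.smul_mem r haN }
  rw [Models.lengthH, e.length_eq, Module.length_eq_one R Γ(K.subscheme, ⊤)]
  rfl

/-- The closed point of a section is closed. -/
theorem isClosed_secPt [IsSeparated X.hom] (σ : Spec (CommRingCat.of R) ⟶ X.left) (hσ : σ ≫ X.hom = 𝟙 _) :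
    IsClosed ({secPt σ} : Set X.left) := by
  haveI : IsClosedImmersion (σ ≫ X.hom) := by rw [hσ]; infer_instance
  haveI := IsClosedImmersion.of_comp σ X.hom
  have h := σ.isClosedEmbedding.isClosedMap _ (IsLocalRing.isClosed_singleton_closedPoint R)
  rwa [Set.image_singleton] at h

/-- A rational point of the generic fibre extends to a section. -/
theorem exists_section_of_rational {C X : Scheme.{u}} {f : C ⟶ Spec (CommRingCat.of (FractionRing R))}
    {p : X ⟶ Spec (CommRingCat.of R)} [IsProper p] (g : C ⟶ X)
    (hg : IsPullback g f p (Spec.map (CommRingCat.ofHom (algebraMap R (FractionRing R)))))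
    (s : Spec (CommRingCat.of (FractionRing R)) ⟶ C) (hs : s ≫ f = 𝟙 _) :
    ∃ σ : Spec (CommRingCat.of R) ⟶ X, σ ≫ p = 𝟙 _ := by
  have h : (ValuativeCriterion.Existence ⊓ @QuasiCompact : MorphismProperty Scheme) p := by
    rw [← UniversallyClosed.eq_valuativeCriterion]
    infer_instance
  have hsq : CommSq (s ≫ g) (Spec.map (CommRingCat.ofHom (algebraMap R (FractionRing R)))) p (𝟙 _) :=
    ⟨by rw [Category.assoc, hg.w, reassoc_of% hs, Category.comp_id]⟩
  let S : ValuativeCommSq p := ⟨R, FractionRing R, s ≫ g, 𝟙 _, hsq⟩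
  haveI := h.1 S
  exact ⟨S.commSq.lift, S.commSq.fac_right⟩

end Groth.Agent.ArInter
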