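import Groth.Agent.Lib.ArInter.ChainGen
import Groth.Agent.Lib.ArInter.Exc
import Groth.Agent.S3322

/-!
# The reduced closed fibre and growth of `h¹` along a computation sequence
-/

set_option autoImplicit false
set_option linter.style.haveILetI false
set_option linter.unusedSectionVars false
set_option backward.isDefEq.respectTransparency false

universe u

open CategoryTheory CategoryTheory.Limits AlgebraicGeometry TopologicalSpace Opposite

namespace Groth.Agent.ArInter

variable {R : Type u} [CommRing R] [IsDomain R] [IsDiscreteValuationRing R]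
  {X : Over (Spec (CommRingCat.of R))}

theorem radical_ker (Γ : ArSurf.VertComp R X) : Γ.ι.ker.radical = Γ.ι.ker := by
  refine le_antisymm (fun U => ?_) (Scheme.IdealSheafData.le_radical _)
  rw [Scheme.IdealSheafData.radical_ideal]
  rintro x ⟨m, hm⟩
  rw [Scheme.Hom.ker_apply, RingHom.mem_ker] at hm ⊢
  rw [map_pow] at hm
  exact IsReduced.eq_zero _ ⟨m, hm⟩

/-- A prime divisor times a divisor not containing it is their intersection. -/
theorem ker_mul_eq_inf (Γ : ArSurf.VertComp R X) {J : X.left.IdealSheafData} (hJ : BlowUp.IsEffCartierIdeal J)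
    (hΓ : Models.genPtOf R X Γ ∉ (J.support : Set X.left)) : Γ.ι.ker * J = Γ.ι.ker ⊓ J := by
  refine EffCartier.eq_of_forall_exists fun x => ?_
  obtain ⟨U, hxU, f, -, hfU⟩ := hJ x
  refine ⟨U, hxU, ?_⟩
  rw [Scheme.IdealSheafData.ideal_mul, Pi.mul_apply, Scheme.IdealSheafData.ideal_inf, Pi.inf_apply, hfU]
  refine le_antisymm Ideal.mul_le_inf fun z hz => ?_
  obtain ⟨hzP, hzf⟩ := Ideal.mem_inf.mp hz
  obtain ⟨y, rfl⟩ := Ideal.mem_span_singleton'.mp hzf
  refine Ideal.mul_mem_mul ?_ (Ideal.mem_span_singleton_self f)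
  rw [Scheme.Hom.ker_apply, RingHom.mem_ker] at hzP ⊢
  rcases Set.eq_empty_or_nonempty ((Γ.ι ⁻¹ᵁ U.1 : Γ.curve.left.Opens) : Set Γ.curve.left) with he | hne
  · haveI : Subsingleton Γ(Γ.curve.left, Γ.ι ⁻¹ᵁ U.1) := by
      rw [show Γ.ι ⁻¹ᵁ U.1 = ⊥ from TopologicalSpace.Opens.ext he]
      infer_instance
    exact Subsingleton.elim _ _
  haveI : Nonempty (Γ.ι ⁻¹ᵁ U.1) := hne.to_subtype
  have hgU : Models.genPtOf R X Γ ∈ U.1 := by
    obtain ⟨w, hw⟩ := hne
    exact ((genericPoint_spec Γ.curve.left).mem_open_set_iff (Γ.ι ⁻¹ᵁ U.1).isOpen).mpr ⟨w, trivial, hw⟩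
  have hf0 : Γ.ι.app U.1 f ≠ 0 := fun h0 => by
    refine hΓ ?_
    rw [SetLike.mem_coe, Scheme.IdealSheafData.mem_support_iff_of_mem (U := U) hgU, Scheme.mem_zeroLocus_iff]
    intro g hg hgx
    rw [hfU, SetLike.mem_coe, Ideal.mem_span_singleton'] at hg
    obtain ⟨c, rfl⟩ := hg
    rw [X.left.mem_basicOpen _ _ hgU, map_mul, IsUnit.mul_iff] at hgx
    exact (mem_maximalIdeal_iff_app_eq_zero Γ U hgU f).mp
      (by rw [Scheme.Hom.ker_apply, RingHom.mem_ker]; exact h0) hgx.2
  rw [map_mul] at hzP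
  exact (mul_eq_zero.mp hzP).resolve_right hf0

/-- The radical of an effective vertical divisor with full support. -/
theorem radical_finsetProd (hX : IsPre X) {T : Type*} {Γ : T → ArSurf.VertComp R X}
    (hE : ∀ q, BlowUp.IsEffCartierIdeal (Γ q).ι.ker) (hinj : Function.Injective fun q => Set.range (Γ q).ι.base)
    {a : T → ℕ} (ha : ∀ q, 1 ≤ a q) (s : Finset T) :
    (∏ q ∈ s, (Γ q).ι.ker ^ a q).radical = ∏ q ∈ s, (Γ q).ι.ker := by
  classical
  induction s using Finset.induction_on with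
  | empty =>
    rw [Finset.prod_empty, Finset.prod_empty, Scheme.IdealSheafData.one_eq_top, Scheme.IdealSheafData.radical_top]
  | insert q s hq ih =>
    rw [Finset.prod_insert hq, Finset.prod_insert hq, Scheme.IdealSheafData.radical_mul, ih]
    have hp : ((Γ q).ι.ker ^ a q).radical = (Γ q).ι.ker := by
      have h0 : a q ≠ 0 := by have := ha q; omega
      rw [← Scheme.IdealSheafData.vanishingIdeal_support, Scheme.IdealSheafData.support_pow _ _ h0,
        Scheme.IdealSheafData.vanishingIdeal_support, radical_ker]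
    rw [hp, ker_mul_eq_inf]
    · have h := isEffCartierIdeal_finsetProd (fun q => (Γ q).ι.ker) (fun _ => 1) hE s
      simpa using h
    · intro hx
      have hx' : Models.genPtOf R X (Γ q) ∈ (∏ p ∈ s, (Γ p).ι.ker ^ (1 : ℕ)).support := by simpa using hx
      obtain ⟨p, hp', -, hmem⟩ := support_finsetProd (fun q => (Γ q).ι.ker) (fun _ => 1) s hx'
      refine genPtOf_notMem_range hX (hE q) (hE p) (fun e => hq (hinj e ▸ hp')) ?_
      exact (coe_support_ker (Γ p)).le hmem

theorem redFibreIdeal_eq (hX : IsPre X) {π : R} (hπ : Irreducible π) {n : ℕ} {Γ : Fin n → ArSurf.VertComp R X}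
    (hE : ∀ q, BlowUp.IsEffCartierIdeal (Γ q).ι.ker) (hΓ : Models.IsComponentList R X Γ) :
    Models.redFibreIdeal R X = ∏ q, (Γ q).ι.ker ^ (1 : Fin n → ℕ) q ∧
      fibreIdeal X π = ∏ q, (Γ q).ι.ker ^ Models.mult R X (Γ q) := by
  obtain ⟨a, Q, hZ, hQ, hpos, hno⟩ := exists_decomp hX hπ Γ hE hΓ.1
  obtain rfl := eq_top_of_cover hX hπ Γ hE (cover_of_isComponentList hΓ) hZ hQ hno
  have hF : fibreIdeal X π = ∏ q, (Γ q).ι.ker ^ Models.mult R X (Γ q) := by
    rw [hZ, ← Scheme.IdealSheafData.one_eq_top, mul_one]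
    exact Finset.prod_congr rfl fun q _ => by rw [mult_eq hX hπ Γ hE hΓ.1 hZ hno q]
  refine ⟨?_, hF⟩
  have hsupp : (⟨Models.specialFibreSet R X, Models.isClosed_specialFibreSet R X⟩ : Closeds X.left) =
      (fibreIdeal X π).support :=
    TopologicalSpace.Closeds.ext (Set.ext fun x => (mem_support_fibreIdeal hπ x).symm)
  rw [Models.redFibreIdeal, hsupp, Scheme.IdealSheafData.vanishingIdeal_support, hZ,
    ← Scheme.IdealSheafData.one_eq_top, mul_one, radical_finsetProd hX hE hΓ.1 hpos]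
  simp only [Pi.one_apply, pow_one]

/-- An injective restriction of functions does not increase lengths. -/
theorem length_HH0_le {J K : X.left.IdealSheafData} (h : K ≤ J)
    (hinj : Function.Injective (Scheme.IdealSheafData.inclusion h).appTop.hom) :
    Module.length R (Coh.HH X.left (ClSub.quotMod K) 0) ≤ Module.length R (Coh.HH X.left (ClSub.quotMod J) 0) := by
  let i : Γ(K.subscheme, ⊤) →+* Γ(J.subscheme, ⊤) := (Scheme.IdealSheafData.inclusion h).appTop.hom
  let eK : Coh.HH X.left (ClSub.quotMod K) 0 ≃+ Γ(K.subscheme, ⊤) := CurveCoh17.hh0 (ClSub.quotMod K)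
  let eJ : Coh.HH X.left (ClSub.quotMod J) 0 ≃+ Γ(J.subscheme, ⊤) := CurveCoh17.hh0 (ClSub.quotMod J)
  have hc : ∀ r, i (K.subschemeι.appTop (Coh.toGlobal X.hom r)) = J.subschemeι.appTop (Coh.toGlobal X.hom r) := fun r => by
    show (Scheme.IdealSheafData.inclusion h).appTop (K.subschemeι.appTop _) = _
    rw [← ConcreteCategory.comp_apply, ← Scheme.Hom.comp_appTop, Scheme.IdealSheafData.inclusion_subschemeι]
  let g : Coh.HH X.left (ClSub.quotMod K) 0 →ₗ[R] Coh.HH X.left (ClSub.quotMod J) 0 :=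
    { toFun := fun z => eJ.symm (i (eK z))
      map_add' := fun x y => by simp only [map_add]
      map_smul' := fun r x => by
        apply eJ.injective
        rw [AddEquiv.apply_symm_apply, RingHom.id_apply]
        refine Eq.trans ?_ (hh0_quotMod_smul (A := R) J r _).symm
        refine (congrArg i (hh0_quotMod_smul (A := R) K r x)).trans ?_
        exact (map_mul i _ _).trans (congrArg₂ (· * ·) (hc r) (eJ.apply_symm_apply _).symm) }
  exact Module.length_le_of_injective g fun a b hab => eK.injective (hinj (eJ.symm.injective hab))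

theorem prod_pow_add_single {T : Type*} [Fintype T] [DecidableEq T] (E : T → X.left.IdealSheafData) (a : T → ℕ)
    (i : T) : (∏ j, E j ^ (a + Pi.single i 1 : T → ℕ) j) = E i * ∏ j, E j ^ a j := by
  simp only [Pi.add_apply, pow_add, Finset.prod_mul_distrib]
  rw [mul_comm, Finset.prod_eq_single i (fun j _ hji => by rw [Pi.single_eq_of_ne hji, pow_zero])
    (fun h => absurd (Finset.mem_univ i) h), Pi.single_eq_same, pow_one]

theorem wdeg_dvd_inter (hX : IsSurf X) (Γ : ArSurf.VertComp R X) (L : X.left.Modules) :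
    (Models.wdeg R X Γ : ℤ) ∣ ArSurf.inter R X L Γ := by
  obtain ⟨-, hd⟩ := Groth.Agent.S3322.wdeg_dvd_finrank R hX Γ
  simp only [ArSurf.inter, ArSurf.curveDeg, FGA.eulerCharLE, Finset.sum_range_succ, Finset.range_zero,
    Finset.sum_empty, pow_zero, pow_one, one_mul, zero_add]
  exact (((hd _ 0).add ((hd _ 1).mul_left _)).sub ((hd _ 0).add ((hd _ 1).mul_left _)))

section growth

variable {T : Type*} [Fintype T] [DecidableEq T] {Γ : T → ArSurf.VertComp R X} {L : T → X.left.Modules}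

/-- One step from a divisor with `h⁰ = 1`. -/
theorem growth_step (hX : IsSurf X) (hL : ∀ j, ClSub.IsInverseOf (L j) (ClSub.idealMod (Γ j).ι.ker))
    {a : T → ℕ} {i : T} (hF : IsFieldDiv Γ a) (hpos : 0 < dot Γ L a i)
    (h0 : Models.lengthH R X (ClSub.quotMod (∏ j, (Γ j).ι.ker ^ a j)) 0 = 1) :
    Models.lengthH R X (ClSub.quotMod (∏ j, (Γ j).ι.ker ^ (a + Pi.single i 1 : T → ℕ) j)) 0 = 1 ∧
      (Models.lengthH R X (ClSub.quotMod (∏ j, (Γ j).ι.ker ^ (a + Pi.single i 1 : T → ℕ) j)) 1 : ℤ) =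
        (Models.lengthH R X (ClSub.quotMod (∏ j, (Γ j).ι.ker ^ a j)) 1 : ℤ) +
          (dot Γ L a i - Models.wdeg R X (Γ i) + Models.h1 R X (Γ i)) ∧
      (Models.wdeg R X (Γ i) : ℤ) ≤ dot Γ L a i := by
  have hE := fun j => isEffCartierIdeal_ker (hL j)
  obtain ⟨hJ, hfl⟩ := finLen_finsetProd hX Γ hE a Finset.univ
  have hprod := prod_pow_add_single (fun j => (Γ j).ι.ker) a i
  beta_reduce at hprod
  set J := ∏ j, (Γ j).ι.ker ^ a j with hJdef
  have hdot : dot Γ L a i = -ideg (Γ i) J := by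
    rw [hJdef, ideg_finsetProd hX (Γ i) (fun j => (Γ j).ι.ker) a hE, dot, ← Finset.sum_neg_distrib]
    exact Finset.sum_congr rfl fun j _ => by rw [inter_eq_neg_ideg hX (Γ i) (hE j) (hL j)]; ring
  have hle : (Γ i).ι.ker * J ≤ J := fun U => by
    rw [Scheme.IdealSheafData.ideal_mul, Pi.mul_apply]
    exact Ideal.mul_le_right
  obtain ⟨hfl', hchi⟩ := chiLen_mul_component hX (Γ i) (hE i) hJ hfl
  have hinj := injective_inclusion_appTop hX (Γ i) (hE i) hJ (by linarith) hle
  have hF' := isFieldDiv_add_single Γ L hX hL hF hpos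
  rw [IsFieldDiv, hprod] at hF'
  have hnz : Module.length R (Coh.HH X.left (ClSub.quotMod ((Γ i).ι.ker * J)) 0) ≠ 0 := by
    rw [Ne, Module.length_eq_zero_iff, not_subsingleton_iff_nontrivial]
    letI := hF'.toField
    haveI : Nontrivial Γ(ClSub.quotMod ((Γ i).ι.ker * J), ⊤) := (inferInstance : Nontrivial Γ(((Γ i).ι.ker * J).subscheme, ⊤))
    exact (CurveCoh17.hh0 (ClSub.quotMod ((Γ i).ι.ker * J))).toEquiv.nontrivial
  have hle1 := length_HH0_le hle hinj
  rw [hprod]
  unfold Models.lengthH at h0 ⊢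
  obtain ⟨l, hl⟩ := ENat.ne_top_iff_exists.mp hfl'.1
  obtain ⟨l', hl'⟩ := ENat.ne_top_iff_exists.mp hfl.1
  rw [← hl, ← hl'] at hle1
  rw [← hl'] at h0
  rw [← hl] at hnz
  have hl1 : l = 1 := by
    simp only [ENat.toNat_natCast] at h0
    have h2 : l ≤ l' := by exact_mod_cast hle1
    have h3 : l ≠ 0 := fun h => hnz (by rw [h]; rfl)
    omega
  refine ⟨by rw [← hl, ENat.toNat_natCast, hl1], ?_, ?_⟩
  · simp only [chiLen, LenEuler15.len] at hchi
    rw [← hl, ← hl', ENat.toNat_natCast, ENat.toNat_natCast] at hchi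
    simp only [ENat.toNat_natCast] at h0
    rw [hl1, h0] at hchi
    push_cast at hchi
    linarith
  · refine Int.le_of_dvd hpos (Finset.dvd_sum fun j _ => (wdeg_dvd_inter hX (Γ i) (L j)).mul_left _)

theorem Reach.growth (hX : IsSurf X) (hL : ∀ j, ClSub.IsInverseOf (L j) (ClSub.idealMod (Γ j).ι.ker))
    {a₀ a : T → ℕ} (hF : IsFieldDiv Γ a₀)
    (h0 : Models.lengthH R X (ClSub.quotMod (∏ j, (Γ j).ι.ker ^ a₀ j)) 0 = 1) (h : Reach Γ L a₀ a) :
    Models.lengthH R X (ClSub.quotMod (∏ j, (Γ j).ι.ker ^ a j)) 0 = 1 ∧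
      Models.lengthH R X (ClSub.quotMod (∏ j, (Γ j).ι.ker ^ a₀ j)) 1 ≤
        Models.lengthH R X (ClSub.quotMod (∏ j, (Γ j).ι.ker ^ a j)) 1 := by
  induction h with
  | refl => exact ⟨h0, le_rfl⟩
  | step i hb hpos ih =>
    obtain ⟨e0, e1, hw⟩ := growth_step hX hL (hb.isFieldDiv Γ L hX hL hF) hpos ih.1
    have h2 := ih.2
    exact ⟨e0, by omega⟩

/-- Strict growth into a divisor of degree zero on a surface without exceptional components. -/
theorem Reach.growth_lt (hX : IsSurf X) (hL : ∀ j, ClSub.IsInverseOf (L j) (ClSub.idealMod (Γ j).ι.ker))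
    {a₀ z : T → ℕ} (hF : IsFieldDiv Γ a₀)
    (h0 : Models.lengthH R X (ClSub.quotMod (∏ j, (Γ j).ι.ker ^ a₀ j)) 0 = 1)
    (hexc : ∀ i, ¬ Models.IsExcCurve (Γ i).ι) (h : Reach Γ L a₀ z) (hz : ∀ i, dot Γ L z i = 0) (hne : z ≠ a₀) :
    Models.lengthH R X (ClSub.quotMod (∏ j, (Γ j).ι.ker ^ a₀ j)) 1 <
      Models.lengthH R X (ClSub.quotMod (∏ j, (Γ j).ι.ker ^ z j)) 1 := by
  cases h with
  | refl => exact absurd rfl hne
  | @step b i hb hpos =>
    obtain ⟨e0, hge⟩ := hb.growth hX hL hF h0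
    obtain ⟨-, e1, hw⟩ := growth_step hX hL (hb.isFieldDiv Γ L hX hL hF) hpos e0
    refine lt_of_not_ge fun hle => hexc i ?_
    have hb' : dot Γ L (b + Pi.single i 1) i = dot Γ L b i + ArSurf.inter R X (L i) (Γ i) := by
      simp only [dot, Pi.add_apply, Nat.cast_add, add_mul, Finset.sum_add_distrib]
      congr 1
      rw [Finset.sum_eq_single i (fun j _ hji => by rw [Pi.single_eq_of_ne hji, Nat.cast_zero, zero_mul])
        (fun h => absurd (Finset.mem_univ i) h), Pi.single_eq_same, Nat.cast_one, one_mul]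
    have hii := hz i
    rw [hb'] at hii
    exact isExcCurve_of_numerics hX (Γ i) (isEffCartierIdeal_ker (hL i)) (hL i) (by omega) (by omega)

end growth

/-- `h¹` of the reduced fibre against `h¹` of the fibre. -/
theorem lengthH_redFibre_le (hS : IsSurf X) (hreg : Models.IsRegularScheme X.left)
    (hconn : _root_.IsConnected (Models.specialFibreSet R X)) (hexc : ∀ Δ : ArSurf.VertComp R X, ¬ Models.IsExcCurve Δ.ι)
    {n : ℕ} (Γ : Fin n → ArSurf.VertComp R X) (hΓ : Models.IsComponentList R X Γ)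
    (hgcd : Models.multGcd R X Γ = 1) {π : R} (hπ : Irreducible π)
    (h0 : Models.lengthH R X (ClSub.quotMod (Models.redFibreIdeal R X)) 0 = 1) :
    Models.lengthH R X (ClSub.quotMod (fibreIdeal X π)) 0 = 1 ∧
      Models.lengthH R X (ClSub.quotMod (Models.redFibreIdeal R X)) 1 ≤
        Models.lengthH R X (ClSub.quotMod (fibreIdeal X π)) 1 ∧
      ((∃ i, Models.mult R X (Γ i) ≠ 1) →
        Models.lengthH R X (ClSub.quotMod (Models.redFibreIdeal R X)) 1 <
          Models.lengthH R X (ClSub.quotMod (fibreIdeal X π)) 1) := by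
  classical
  obtain ⟨L, D, i₀, hmD, -, hL, hr₀, hr⟩ := exists_chain_of_connected hS hreg hconn Γ hΓ
  obtain ⟨hred, hfib⟩ := redFibreIdeal_eq hS.pre hπ (fun q => isEffCartierIdeal_ker (hL q)) hΓ
  have hD : ∀ i, Models.mult R X (Γ i) = D i := fun i => by rw [hmD i, hgcd, one_mul]
  simp only [hD] at hfib
  rw [hred] at h0 ⊢
  rw [hfib]
  have hF := hr₀.isFieldDiv Γ L hS hL (isFieldDiv_single Γ hS i₀)
  obtain ⟨e0, hle⟩ := hr.growth hS hL hF h0
  refine ⟨e0, hle, fun ⟨i, hi⟩ => hr.growth_lt hS hL hF h0 (fun i => hexc (Γ i)) (fun i => ?_) fun he => hi ?_⟩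
  · obtain ⟨w, Q, -, -, -, hsum, -, hc⟩ := exists_weights hS hΓ.1 hL
    obtain ⟨rfl, hm⟩ := hc (cover_of_isComponentList hΓ)
    have h := (hsum (Γ i)).trans (ideg_top hS (Γ i))
    rw [dot]
    refine Eq.trans (Finset.sum_congr rfl fun j _ => ?_) h
    rw [← hm j, hD j]
  · rw [hD i, he]; rfl

end Groth.Agent.ArInter
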