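import Groth.Agent.Lib.ArInter.Model
import Groth.Agent.Lib.RegLoc.Quotient

/-!
# A section meets the closed fibre in a smooth rational point
-/

set_option autoImplicit false
set_option linter.style.haveILetI false
set_option linter.unusedSectionVars false
set_option backward.isDefEq.respectTransparency false

universe u

open CategoryTheory CategoryTheory.Limits AlgebraicGeometry TopologicalSpace Opposite

namespace Groth.Agent.ArInter

variable {R : Type u} [CommRing R] [IsDomain R] [IsDiscreteValuationRing R]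
  {X : Over (Spec (CommRingCat.of R))}

theorem germ_to_closedPoint (g : Spec (CommRingCat.of R) ⟶ Spec (CommRingCat.of R)) (hg : g = 𝟙 _) :
    (Spec (CommRingCat.of R)).presheaf.germ ⊤ (g (IsLocalRing.closedPoint R)) trivial ≫ Scheme.stalkClosedPointTo g =
      (Scheme.ΓSpecIso (CommRingCat.of R)).hom := by
  rw [← Spec.map_id] at hg
  subst hg
  exact (Scheme.germ_stalkClosedPointTo_Spec (𝟙 (CommRingCat.of R))).trans (Category.comp_id _)

/-- The image of the closed point under a section. -/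
noncomputable abbrev secPt (σ : Spec (CommRingCat.of R) ⟶ X.left) : X.left := σ.base (IsLocalRing.closedPoint R)

/-- Evaluation at a section inverts the structure map. -/
theorem stalkClosedPointTo_stalkHom (σ : Spec (CommRingCat.of R) ⟶ X.left) (hσ : σ ≫ X.hom = 𝟙 _) (r : R) :
    Scheme.stalkClosedPointTo σ (Models.stalkHom R X (secPt σ) r) = r := by
  have h := germ_to_closedPoint (σ ≫ X.hom) hσ
  rw [Scheme.stalkClosedPointTo_comp] at h
  have h2 := congrArg (fun φ => φ.hom ((Scheme.ΓSpecIso (CommRingCat.of R)).inv r)) h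
  refine Eq.trans ?_ (h2.trans ((Scheme.ΓSpecIso (CommRingCat.of R)).inv_hom_id_apply r))
  show _ = Scheme.stalkClosedPointTo σ (X.hom.stalkMap (secPt σ)
    ((Spec (CommRingCat.of R)).presheaf.germ ⊤ (X.hom (secPt σ)) trivial ((Scheme.ΓSpecIso (CommRingCat.of R)).inv r)))
  rw [Scheme.Hom.germ_stalkMap_apply X.hom ⊤ (secPt σ) trivial]
  rfl

theorem secPt_mem_fibre (σ : Spec (CommRingCat.of R) ⟶ X.left) (hσ : σ ≫ X.hom = 𝟙 _) :
    secPt σ ∈ Models.specialFibreSet R X := by
  show X.hom (σ (IsLocalRing.closedPoint R)) = _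
  rw [← Scheme.Hom.comp_apply, hσ]
  rfl

/-- The residue field at the point of a section is that of the base. -/
theorem surjective_residue_secPt (σ : Spec (CommRingCat.of R) ⟶ X.left) (hσ : σ ≫ X.hom = 𝟙 _) :
    Function.Surjective ((X.left.residue (secPt σ)).hom.comp (Models.stalkHom R X (secPt σ))) := by
  intro z
  obtain ⟨a, rfl⟩ := (X.left.residue_surjective (secPt σ)) z
  refine ⟨Scheme.stalkClosedPointTo σ a, ?_⟩
  let ev := (Scheme.stalkClosedPointTo σ).hom
  let ι : X.left.residueField (secPt σ) →+* IsLocalRing.ResidueField R := IsLocalRing.ResidueField.map ev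
  refine ι.injective ?_
  show ι (IsLocalRing.residue _ (Models.stalkHom R X (secPt σ) (ev a))) = ι (IsLocalRing.residue _ a)
  refine (IsLocalRing.ResidueField.map_residue ev _).trans (Eq.trans ?_ (IsLocalRing.ResidueField.map_residue ev _).symm)
  exact congrArg _ (stalkClosedPointTo_stalkHom σ hσ (ev a))

theorem notMem_sq_secPt (σ : Spec (CommRingCat.of R) ⟶ X.left) (hσ : σ ≫ X.hom = 𝟙 _) {π : R} (hπ : Irreducible π) :
    Models.stalkHom R X (secPt σ) π ∈ IsLocalRing.maximalIdeal _ ∧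
      Models.stalkHom R X (secPt σ) π ∉ IsLocalRing.maximalIdeal (X.left.presheaf.stalk (secPt σ)) ^ 2 := by
  let ev := (Scheme.stalkClosedPointTo σ).hom
  haveI : IsLocalHom ev := inferInstanceAs (IsLocalHom (Scheme.stalkClosedPointTo σ).hom)
  have hev : ev (Models.stalkHom R X (secPt σ) π) = π := stalkClosedPointTo_stalkHom σ hσ π
  refine ⟨fun h => hπ.not_isUnit (hev ▸ h.map ev), fun h => ?_⟩
  have hle : (IsLocalRing.maximalIdeal (X.left.presheaf.stalk (secPt σ))).map ev ≤ Ideal.span {π} := by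
    rw [← (IsDiscreteValuationRing.irreducible_iff_uniformizer π).mp hπ]
    exact ((IsLocalRing.local_hom_TFAE ev).out 0 2 rfl rfl).mp inferInstance
  have h2 := Ideal.mem_map_of_mem ev h
  rw [Ideal.map_pow, hev] at h2
  obtain ⟨c, hc⟩ := Ideal.mem_span_singleton'.mp
    ((Ideal.span_singleton_pow π 2).le (Ideal.pow_right_mono hle 2 h2))
  refine hπ.not_isUnit (IsUnit.of_mul_eq_one c (mul_right_cancel₀ hπ.ne_zero ?_))
  rw [one_mul]
  linear_combination hc

theorem isRegularLocalRing_fibre_secPt (σ₀ : Spec (CommRingCat.of R) ⟶ X.left) [IsRegularLocalRing (X.left.presheaf.stalk (secPt (X := X) σ₀))]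
    {π : R} (hπ : Irreducible π) (hσ : σ₀ ≫ X.hom = 𝟙 _) :
    IsRegularLocalRing (X.left.presheaf.stalk (secPt σ₀) ⧸
      Ideal.map (Models.stalkHom R X (secPt σ₀)) (IsLocalRing.maximalIdeal R)) := by
  obtain ⟨h1, h2⟩ := notMem_sq_secPt σ₀ hσ hπ
  have h := (RegLoc.regular_of_independent 1 (X.left.presheaf.stalk (secPt σ₀))
    ![Models.stalkHom R X (secPt σ₀) π] (fun i => by fin_cases i; exact h1) fun a ha i => by
      fin_cases i
      rw [Fin.sum_univ_one] at ha
      by_contra hu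
      exact h2 ((Ideal.unit_mul_mem_iff_mem _ (IsLocalRing.notMem_maximalIdeal.mp hu)).mp ha)).1
  rw [Matrix.range_cons, Matrix.range_empty, Set.union_empty] at h
  rwa [(IsDiscreteValuationRing.irreducible_iff_uniformizer π).mp hπ, Ideal.map_span, Set.image_singleton]

/-- Only one component passes through the point of a section, with multiplicity one. -/
theorem unique_component_secPt (hX : IsPre X) {π : R} (hπ : Irreducible π) (σ : Spec (CommRingCat.of R) ⟶ X.left)
    (hσ : σ ≫ X.hom = 𝟙 _) {n : ℕ} (Γ : Fin n → ArSurf.VertComp R X) (hΓ : Models.IsComponentList R X Γ)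
    (hE : ∀ i, BlowUp.IsEffCartierIdeal (Γ i).ι.ker) :
    (∃! i : Fin n, secPt σ ∈ Set.range (Γ i).ι.base) ∧
      ∀ i : Fin n, secPt σ ∈ Set.range (Γ i).ι.base → Models.mult R X (Γ i) = 1 := by
  classical
  let x := secPt σ
  obtain ⟨a, Q, hZ, hQ, ha, hno⟩ := exists_decomp hX hπ Γ hE hΓ.1
  obtain rfl := eq_top_of_cover hX hπ Γ hE (cover_of_isComponentList hΓ) hZ hQ hno
  obtain ⟨i₀, hi₀⟩ := cover_of_isComponentList hΓ x (secPt_mem_fibre σ hσ)
  let m := IsLocalRing.maximalIdeal (X.left.presheaf.stalk x)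
  have hπx : Models.stalkHom R X x π ∈ DivDesc12.stI (fibreIdeal X π) x := by
    rw [stI_fibreIdeal]
    exact Ideal.mem_span_singleton_self _
  have hle : ∀ i, x ∈ Set.range (Γ i).ι.base → DivDesc12.stI (Γ i).ι.ker x ≤ m := by
    intro i hi
    obtain ⟨U, hU, hx⟩ := DivDesc12.exists_affine x
    rw [DivDesc12.stI_eq _ ⟨U, hU⟩ hx]
    refine Ideal.map_le_iff_le_comap.mpr fun f hf hunit => ?_
    have hs := (coe_support_ker (Γ i)).ge hi
    rw [SetLike.mem_coe, Scheme.IdealSheafData.mem_support_iff_of_mem (U := ⟨U, hU⟩) hx, Scheme.mem_zeroLocus_iff] at hs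
    exact hs f hf ((X.left.mem_basicOpen f x hx).mpr hunit)
  have hnotsq : Models.stalkHom R X x π ∉ m ^ 2 := (notMem_sq_secPt σ hσ hπ).2
  rw [hZ, stI_mul, stI_finsetProd] at hπx
  have hprod : Models.stalkHom R X x π ∈ ∏ q, DivDesc12.stI (Γ q).ι.ker x ^ a q := Ideal.mul_le_left hπx
  have hsplit : ∀ i, (∏ q, DivDesc12.stI (Γ q).ι.ker x ^ a q) =
      DivDesc12.stI (Γ i).ι.ker x ^ a i * ∏ q ∈ Finset.univ.erase i, DivDesc12.stI (Γ q).ι.ker x ^ a q :=
    fun i => (Finset.mul_prod_erase _ _ (Finset.mem_univ i)).symm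
  refine ⟨⟨i₀, hi₀, fun j hj => ?_⟩, fun i hi => ?_⟩
  · by_contra hne
    have hmem : Models.stalkHom R X x π ∈
        DivDesc12.stI (Γ i₀).ι.ker x ^ a i₀ * DivDesc12.stI (Γ j).ι.ker x ^ a j := by
      rw [hsplit i₀] at hprod
      refine Ideal.mul_mono_right ?_ hprod
      rw [← Finset.mul_prod_erase _ _ (Finset.mem_erase.mpr ⟨hne, Finset.mem_univ j⟩)]
      exact Ideal.mul_le_left
    have h1 : ∀ i, x ∈ Set.range (Γ i).ι.base → DivDesc12.stI (Γ i).ι.ker x ^ a i ≤ m := fun i hi =>
      (Ideal.pow_le_self (ha i).ne').trans (hle i hi)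
    exact hnotsq ((pow_two m).symm ▸ Ideal.mul_mono (h1 i₀ hi₀) (h1 j hj) hmem)
  · rw [mult_eq hX hπ Γ hE hΓ.1 hZ hno i]
    by_contra hne
    have h2 : 2 ≤ a i := by have := ha i; omega
    rw [hsplit i] at hprod
    have h3 : DivDesc12.stI (Γ i).ι.ker x ^ a i ≤ m ^ 2 :=
      (Ideal.pow_le_pow_right h2).trans (Ideal.pow_right_mono (hle i hi) 2)
    exact hnotsq (h3 (Ideal.mul_le_left hprod))

end Groth.Agent.ArInter
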