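import Groth.Agent.Lib.ArInter.ChainGen
import Groth.Agent.Lib.ArInter.Genus
import Groth.Agent.Lib.DVRTriv4.Seq
import Groth.Agent.Lib.FormalH7.ModLim
import Mathlib.Dynamics.Newton

/-!
# Separable constants of the closed fibre lift
-/

set_option autoImplicit false
set_option linter.style.haveILetI false
set_option linter.unusedSectionVars false
set_option backward.isDefEq.respectTransparency false

universe u

open CategoryTheory CategoryTheory.Limits AlgebraicGeometry TopologicalSpace Opposite Polynomial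

namespace Groth.Agent.ArInter

variable {R : Type u} [CommRing R] [IsDomain R] [IsDiscreteValuationRing R]
  {X : Over (Spec (CommRingCat.of R))}

/-- The base in the sections over an open. -/
noncomputable def sc (U : X.left.Opens) : R →+* Γ(X.left, U) :=
  (X.left.presheaf.map (homOfLE (le_top : U ≤ ⊤)).op).hom.comp (Coh.toGlobal X.hom)

theorem presheaf_map_map {Z : Scheme.{u}} {U V W : Z.Opens} (h : V ≤ U) (h' : W ≤ V) (s : Γ(Z, U)) :
    (Z.presheaf.map (homOfLE h').op) ((Z.presheaf.map (homOfLE h).op) s) =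
      (Z.presheaf.map (homOfLE (h'.trans h)).op) s := by
  rw [← ConcreteCategory.comp_apply, ← Z.presheaf.map_comp]
  rfl

theorem sc_map {U V : X.left.Opens} (h : V ≤ U) (r : R) :
    (X.left.presheaf.map (homOfLE h).op) (sc U r) = sc V r :=
  presheaf_map_map (le_top : U ≤ ⊤) h _

theorem ideal_fibreIdeal_pow (π : R) (m : ℕ) (U : X.left.affineOpens) :
    (fibreIdeal X (π ^ m)).ideal U = Ideal.span {sc U.1 π ^ m} := by
  rw [ideal_fibreIdeal, ← map_pow]
  rfl

theorem app_eq_zero_iff (π : R) (m : ℕ) (U : X.left.affineOpens) (y : Γ(X.left, U.1)) :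
    (fibreIdeal X (π ^ m)).subschemeι.app U.1 y = 0 ↔ sc U.1 π ^ m ∣ y := by
  rw [← Ideal.mem_span_singleton, ← ideal_fibreIdeal_pow, ← Scheme.IdealSheafData.ker_subschemeι_app]
  exact RingHom.mem_ker.symm

/-- What is reduced to zero is nilpotent one level up. -/
theorem isNilpotent_of_app_eq_zero (π : R) (N : ℕ) (U : X.left.affineOpens) {y : Γ(X.left, U.1)}
    (hy : (fibreIdeal X (π ^ 1)).subschemeι.app U.1 y = 0) :
    IsNilpotent ((fibreIdeal X (π ^ (N + 1))).subschemeι.app U.1 y) := by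
  obtain ⟨c, rfl⟩ := (app_eq_zero_iff π 1 U y).mp hy
  refine ⟨N + 1, ?_⟩
  rw [← map_pow, app_eq_zero_iff, pow_one, mul_pow]
  exact dvd_mul_right _ _

theorem app_eq_zero_of_le (π : R) (N : ℕ) (U : X.left.affineOpens) {y : Γ(X.left, U.1)}
    (hy : (fibreIdeal X (π ^ (N + 1))).subschemeι.app U.1 y = 0) :
    (fibreIdeal X (π ^ 1)).subschemeι.app U.1 y = 0 := by
  rw [app_eq_zero_iff] at hy ⊢
  exact (pow_dvd_pow _ (Nat.le_add_left 1 N)).trans hy

variable {π : R} {P : R[X]} {N : ℕ}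

/-- Two roots over the base agreeing on the reduction agree. -/
theorem root_unique {U : X.left.affineOpens} {x y : Γ(X.left, U.1)}
    (hx : (fibreIdeal X (π ^ (N + 1))).subschemeι.app U.1 (P.eval₂ (sc U.1) x) = 0)
    (hy : (fibreIdeal X (π ^ (N + 1))).subschemeι.app U.1 (P.eval₂ (sc U.1) y) = 0)
    (hu : ∃ z, (fibreIdeal X (π ^ 1)).subschemeι.app U.1 (P.derivative.eval₂ (sc U.1) x * z - 1) = 0)
    (hxy : (fibreIdeal X (π ^ 1)).subschemeι.app U.1 (x - y) = 0) :
    (fibreIdeal X (π ^ (N + 1))).subschemeι.app U.1 x = (fibreIdeal X (π ^ (N + 1))).subschemeι.app U.1 y := by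
  let q := ((fibreIdeal X (π ^ (N + 1))).subschemeι.app U.1).hom
  letI := (q.comp (sc U.1)).toAlgebra
  have hev : ∀ (Q : R[X]) (t : Γ(X.left, U.1)), aeval (q t) Q = q (Q.eval₂ (sc U.1) t) :=
    fun Q t => (aeval_def _ _).trans (hom_eval₂ Q _ _ _).symm
  obtain ⟨z, hz⟩ := hu
  have h' : IsUnit (aeval (q x) P.derivative) := by
    have h1 := (isNilpotent_of_app_eq_zero π N U hz).isUnit_add_one
    rw [← map_one q, ← map_add, sub_add_cancel, map_mul] at h1
    rw [hev]
    exact isUnit_of_mul_isUnit_left h1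
  have h0 : aeval (q x) P = 0 := (hev _ _).trans hx
  refine (existsUnique_nilpotent_sub_and_aeval_eq_zero (P := P) (x := q x) (h0 ▸ IsNilpotent.zero) h').unique
    ⟨by rw [sub_self]; exact IsNilpotent.zero, h0⟩ ⟨?_, (hev _ _).trans hy⟩
  rw [← map_sub]
  exact isNilpotent_of_app_eq_zero π N U hxy

/-- A separable root on the reduction lifts over an affine open. -/
theorem root_lift (π : R) (P : R[X]) (N : ℕ) (U : X.left.affineOpens)
    (b : Γ((fibreIdeal X (π ^ 1)).subscheme, (fibreIdeal X (π ^ 1)).subschemeι ⁻¹ᵁ U.1))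
    (hb : P.eval₂ (((fibreIdeal X (π ^ 1)).subschemeι.app U.1).hom.comp (sc U.1)) b = 0)
    (hu : IsUnit (P.derivative.eval₂ (((fibreIdeal X (π ^ 1)).subschemeι.app U.1).hom.comp (sc U.1)) b)) :
    ∃ x, (fibreIdeal X (π ^ 1)).subschemeι.app U.1 x = b ∧
      (fibreIdeal X (π ^ (N + 1))).subschemeι.app U.1 (P.eval₂ (sc U.1) x) = 0 ∧
      ∃ z, (fibreIdeal X (π ^ 1)).subschemeι.app U.1 (P.derivative.eval₂ (sc U.1) x * z - 1) = 0 := by
  obtain ⟨x, rfl⟩ := (fibreIdeal X (π ^ 1)).subschemeι_app_surjective U b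
  let q₁ := ((fibreIdeal X (π ^ 1)).subschemeι.app U.1).hom
  let q := ((fibreIdeal X (π ^ (N + 1))).subschemeι.app U.1).hom
  rw [← hom_eval₂] at hb hu
  obtain ⟨u, hu'⟩ := hu
  obtain ⟨z, hz⟩ := (fibreIdeal X (π ^ 1)).subschemeι_app_surjective U (↑u⁻¹)
  have hz1 : q₁ (P.derivative.eval₂ (sc U.1) x * z - 1) = 0 := by
    rw [map_sub, map_mul, map_one, show q₁ (P.derivative.eval₂ (sc U.1) x) = (u : _) from hu'.symm,
      show q₁ z = _ from hz, Units.mul_inv, sub_self]
  letI := (q.comp (sc U.1)).toAlgebra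
  have hev : ∀ (Q : R[X]) (t : Γ(X.left, U.1)), aeval (q t) Q = q (Q.eval₂ (sc U.1) t) :=
    fun Q t => (aeval_def _ _).trans (hom_eval₂ Q _ _ _).symm
  have h' : IsUnit (aeval (q x) P.derivative) := by
    have h1 := (isNilpotent_of_app_eq_zero π N U hz1).isUnit_add_one
    rw [← map_one q, ← map_add, sub_add_cancel, map_mul] at h1
    rw [hev]
    exact isUnit_of_mul_isUnit_left h1
  have h : IsNilpotent (aeval (q x) P) := by
    rw [hev]
    exact isNilpotent_of_app_eq_zero π N U hb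
  obtain ⟨r, ⟨hr1, hr2⟩, -⟩ := existsUnique_nilpotent_sub_and_aeval_eq_zero h h'
  obtain ⟨y, hy⟩ := (fibreIdeal X (π ^ (N + 1))).subschemeι_app_surjective U r
  have hy' : q y = r := hy
  have hyP : q (P.eval₂ (sc U.1) y) = 0 := by rw [← hev, hy', hr2]
  -- on the reduction both are the same root
  have h1 : q₁ x = q₁ y := by
    letI := (q₁.comp (sc U.1)).toAlgebra
    have hev₁ : ∀ (Q : R[X]) (t : Γ(X.left, U.1)), aeval (q₁ t) Q = q₁ (Q.eval₂ (sc U.1) t) :=
      fun Q t => (aeval_def _ _).trans (hom_eval₂ Q _ _ _).symm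
    have h0 : aeval (q₁ x) P = 0 := (hev₁ _ _).trans hb
    refine (existsUnique_nilpotent_sub_and_aeval_eq_zero (P := P) (x := q₁ x) (h0 ▸ IsNilpotent.zero) ?_).unique
      ⟨by rw [sub_self]; exact IsNilpotent.zero, h0⟩ ⟨?_, (hev₁ _ _).trans (app_eq_zero_of_le π N U hyP)⟩
    · rw [hev₁]
      exact hu' ▸ u.isUnit
    · rw [← hy', ← map_sub] at hr1
      obtain ⟨m, hm⟩ := hr1
      rw [← map_pow] at hm
      exact ⟨m, by rw [← map_sub, ← map_pow]; exact app_eq_zero_of_le π N U hm⟩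
  refine ⟨y, h1.symm, hyP, z, ?_⟩
  show q₁ _ = 0
  rw [map_sub, map_mul, hom_eval₂, ← h1, ← hom_eval₂, ← map_mul, ← map_sub]
  exact hz1

theorem subschemeι_app_map {K : X.left.IdealSheafData} {U V : X.left.Opens} (h : V ≤ U) (x : Γ(X.left, U)) :
    K.subschemeι.app V ((X.left.presheaf.map (homOfLE h).op) x) =
      (K.subscheme.presheaf.map (homOfLE (K.subschemeι.preimage_mono h)).op) (K.subschemeι.app U x) :=
  congrArg (fun φ => φ.hom x) (K.subschemeι.naturality (homOfLE h).op)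

theorem eval₂_map {U V : X.left.Opens} (h : V ≤ U) (Q : R[X]) (x : Γ(X.left, U)) :
    (X.left.presheaf.map (homOfLE h).op) (Q.eval₂ (sc U) x) =
      Q.eval₂ (sc V) ((X.left.presheaf.map (homOfLE h).op) x) := by
  refine (hom_eval₂ Q (sc U) (X.left.presheaf.map (homOfLE h).op).hom x).trans ?_
  congr 1
  exact RingHom.ext fun r => sc_map h r

/-- A separable root on the closed fibre lifts to every infinitesimal neighbourhood. -/
theorem exists_root_thickening (π : R) (P : R[X]) (N : ℕ)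
    (τ : ClSub.quotMod (fibreIdeal X (π ^ (N + 1))) ⟶ ClSub.quotMod (fibreIdeal X (π ^ 1)))
    (hτ : ClSub.toSubscheme (fibreIdeal X (π ^ (N + 1))) ≫ τ = ClSub.toSubscheme (fibreIdeal X (π ^ 1)))
    (a : Γ((fibreIdeal X (π ^ 1)).subscheme, ⊤))
    (ha : P.eval₂ ((fibreIdeal X (π ^ 1)).subschemeι.appTop.hom.comp (Coh.toGlobal X.hom)) a = 0)
    (hu : IsUnit (P.derivative.eval₂ ((fibreIdeal X (π ^ 1)).subschemeι.appTop.hom.comp (Coh.toGlobal X.hom)) a)) :
    ∃ b : Γ((fibreIdeal X (π ^ (N + 1))).subscheme, ⊤), τ.app ⊤ b = a := by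
  let K₁ := fibreIdeal X (π ^ 1)
  let K := fibreIdeal X (π ^ (N + 1))
  let res₁ : ∀ U : X.left.Opens, Γ(K₁.subscheme, ⊤) →+* Γ(K₁.subscheme, K₁.subschemeι ⁻¹ᵁ U) := fun U =>
    (K₁.subscheme.presheaf.map (homOfLE (le_top : K₁.subschemeι ⁻¹ᵁ U ≤ ⊤)).op).hom
  have hcomp : ∀ U, (res₁ U).comp (K₁.subschemeι.appTop.hom.comp (Coh.toGlobal X.hom)) =
      (K₁.subschemeι.app U).hom.comp (sc U) := fun U =>
    RingHom.ext fun r => (subschemeι_app_map (K := K₁) (le_top : U ≤ ⊤) _).symm
  have hloc : ∀ U : X.left.affineOpens, ∃ x : Γ(X.left, U.1), K₁.subschemeι.app U.1 x = res₁ U.1 a ∧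
      K.subschemeι.app U.1 (P.eval₂ (sc U.1) x) = 0 ∧
      ∃ z, K₁.subschemeι.app U.1 (P.derivative.eval₂ (sc U.1) x * z - 1) = 0 := fun U => by
    refine root_lift π P N U (res₁ U.1 a) ?_ ?_
    · rw [← hcomp U.1, ← hom_eval₂, ha, map_zero]
    · rw [← hcomp U.1, ← hom_eval₂]
      exact hu.map _
  choose x hxa hxP hxu using hloc
  let V : X.left.affineOpens → K.subscheme.Opens := fun U => K.subschemeι ⁻¹ᵁ U.1
  let sf : ∀ U, Γ(K.subscheme, V U) := fun U => K.subschemeι.app U.1 (x U)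
  -- agreement on a smaller affine open
  have key : ∀ (U W : X.left.affineOpens) (h : W.1 ≤ U.1),
      (K.subscheme.presheaf.map (homOfLE (K.subschemeι.preimage_mono h)).op) (sf U) = sf W := by
    intro U W h
    refine (subschemeι_app_map (K := K) h (x U)).symm.trans ?_
    refine (root_unique (π := π) (P := P) (N := N) (hxP W) ?_ (hxu W) ?_).symm
    · rw [← eval₂_map h, subschemeι_app_map (K := K) h, hxP U, map_zero]
    · rw [map_sub, subschemeι_app_map (K := K₁) h, hxa U, hxa W, sub_eq_zero]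
      exact (presheaf_map_map le_top (K₁.subschemeι.preimage_mono h) a).symm
  have hcov : (⊤ : X.left.Opens) ≤ ⨆ U : X.left.affineOpens, U.1 := (iSup_affineOpens_eq_top X.left).ge
  have hcovV : (⊤ : K.subscheme.Opens) ≤ ⨆ U, V U := fun z _ => by
    obtain ⟨U, hU⟩ := Opens.mem_iSup.mp (hcov (trivial : K.subschemeι z ∈ (⊤ : X.left.Opens)))
    exact Opens.mem_iSup.mpr ⟨U, hU⟩
  have hcompat : TopCat.Presheaf.IsCompatible K.subscheme.presheaf V sf := by
    intro U U'
    refine K.subscheme.sheaf.eq_of_locally_eq'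
      (fun W : {W : X.left.affineOpens // W.1 ≤ U.1 ⊓ U'.1} => K.subschemeι ⁻¹ᵁ W.1.1) (V U ⊓ V U')
      (fun W => homOfLE (le_inf (K.subschemeι.preimage_mono (W.2.trans inf_le_left))
        (K.subschemeι.preimage_mono (W.2.trans inf_le_right)))) ?_ _ _ fun W => ?_
    · intro z hz
      obtain ⟨W, hW, hzW, hWU⟩ := exists_isAffineOpen_mem_and_subset (U := U.1 ⊓ U'.1) (x := K.subschemeι z) hz
      exact Opens.mem_iSup.mpr ⟨⟨⟨W, hW⟩, hWU⟩, hzW⟩
    · refine ((presheaf_map_map inf_le_left _ (sf U)).trans ?_).trans (presheaf_map_map inf_le_right _ (sf U')).symm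
      exact (key U W.1 (W.2.trans inf_le_left)).trans (key U' W.1 (W.2.trans inf_le_right)).symm
  obtain ⟨b, hb, -⟩ := K.subscheme.sheaf.existsUnique_gluing' V ⊤ (fun U => homOfLE le_top) hcovV sf hcompat
  refine ⟨b, M1.modules_eq_of_locally_eq (ClSub.quotMod K₁) ⊤ (fun U : X.left.affineOpens => U.1)
    (fun U => le_top) hcov _ _ fun U => ?_⟩
  refine (M1.map_app_eq τ (le_top : U.1 ≤ ⊤) b).symm.trans ?_
  refine (congrArg (τ.app U.1) (hb U)).trans ?_
  exact (congrArg (fun g => g.app U.1 (x U)) hτ).trans (hxa U)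

theorem ofMono_smulMod (r : R) [Mono (Formal.smulMod R (Coh.structureModule X.left) r)] :
    letI := M1.isQCoh_structureModule X.left
    SecDiv.ofMono (Formal.smulMod R (Coh.structureModule X.left) r) = fibreIdeal X r := by
  unfold fibreIdeal
  congr 1
  exact (secHom_glob_eq_smulMod r).symm

theorem mono_smulMod (hX : IsPre X) {r : R} (hr : r ≠ 0) : Mono (Formal.smulMod R (Coh.structureModule X.left) r) :=
  secHom_glob_eq_smulMod (X := X) r ▸ mono_secHom_glob hX hr

theorem shortExact_fibre (hX : IsPre X) {r : R} (hr : r ≠ 0) :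
    ∃ h : Formal.smulMod R (Coh.structureModule X.left) r ≫ ClSub.toSubscheme (fibreIdeal X r) = 0,
      (ShortComplex.mk _ _ h).ShortExact := by
  haveI := M1.isQCoh_structureModule X.left
  haveI := isNoetherian_left hX
  let φ := Formal.smulMod R (Coh.structureModule X.left) r
  haveI : Mono φ := mono_smulMod hX hr
  obtain ⟨e, he⟩ := exists_cokernel_ofMono φ (ofMono_smulMod r)
  have h0 : φ ≫ ClSub.toSubscheme (fibreIdeal X r) = 0 := by rw [← he, cokernel.condition_assoc, Limits.zero_comp]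
  refine ⟨h0, ShortComplex.shortExact_of_iso (ShortComplex.isoMk (S₁ := ShortComplex.mk φ (cokernel.π φ) (cokernel.condition φ))
    (S₂ := ShortComplex.mk φ _ h0) (Iso.refl _) (Iso.refl _) e ?_ ?_) (CohFound.shortExact_cokernel φ)⟩
  · exact (Category.id_comp _).trans (Category.comp_id _).symm
  · exact (Category.id_comp _).trans he.symm

theorem appTop_fibre_eq_zero (π : R) (m : ℕ) :
    (fibreIdeal X (π ^ m)).subschemeι.appTop (Coh.toGlobal X.hom (π ^ m)) = 0 := by
  let K := fibreIdeal X (π ^ m)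
  refine K.subscheme.sheaf.eq_of_locally_eq' (fun U : X.left.affineOpens => K.subschemeι ⁻¹ᵁ U.1) ⊤
    (fun U => homOfLE le_top) (fun z _ => ?_) _ _ fun U => ?_
  · obtain ⟨U, hU⟩ := Opens.mem_iSup.mp ((iSup_affineOpens_eq_top X.left).ge (trivial : K.subschemeι z ∈ (⊤ : X.left.Opens)))
    exact Opens.mem_iSup.mpr ⟨U, hU⟩
  · refine ((subschemeι_app_map (K := K) (le_top : U.1 ≤ ⊤) (Coh.toGlobal X.hom (π ^ m))).symm.trans ?_).trans
      (map_zero _).symm
    rw [app_eq_zero_iff, ← map_pow]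
    exact dvd_rfl

theorem finite_toGlobal_of_finite {K : X.left.IdealSheafData}
    (h : Module.length R (Coh.HH X.left (ClSub.quotMod K) 0) ≠ ⊤) :
    letI := (K.subschemeι.appTop.hom.comp (Coh.toGlobal X.hom)).toAlgebra
    Module.Finite R Γ(K.subscheme, ⊤) := by
  letI := (K.subschemeι.appTop.hom.comp (Coh.toGlobal X.hom)).toAlgebra
  let e : Coh.HH X.left (ClSub.quotMod K) 0 ≃ₗ[R] Γ(K.subscheme, ⊤) :=
    { toFun := fun x => CurveCoh17.hh0 (ClSub.quotMod K) x
      invFun := fun x => (CurveCoh17.hh0 (ClSub.quotMod K)).symm x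
      left_inv := fun x => (CurveCoh17.hh0 (ClSub.quotMod K)).symm_apply_apply x
      right_inv := fun x => (CurveCoh17.hh0 (ClSub.quotMod K)).apply_symm_apply x
      map_add' := fun x y => map_add _ x y
      map_smul' := fun r x => hh0_quotMod_smul (A := R) K r x }
  haveI := (isFiniteLength_iff_isNoetherian_isArtinian.mp (Module.length_ne_top_iff.mp h)).1
  exact Module.Finite.equiv e

theorem hh0_hmap_symm {M M' : X.left.Modules} (τ : M ⟶ M') (b : Γ(M, ⊤)) :
    CurveCoh17.hh0 M' (CurveCoh17.hmap R τ 0 ((CurveCoh17.hh0 M).symm b)) = τ.app ⊤ b := by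
  rw [CurveCoh17.hh0_hmap, AddEquiv.apply_symm_apply]

/-- With perfect residue field and a field of constants on the fibre, the constants lift. -/
theorem surjective_toSubscheme_fibre (hX : IsSurf X) [PerfectField (IsLocalRing.ResidueField R)]
    {π : R} (hπ : Irreducible π) (hF : IsField Γ((fibreIdeal X π).subscheme, ⊤))
    (hfin : Module.length R (Coh.HH X.left (ClSub.quotMod (fibreIdeal X π)) 0) ≠ ⊤) :
    Function.Surjective (CurveCoh17.hmap R (ClSub.toSubscheme (fibreIdeal X π)) 0) := by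
  rw [← pow_one π] at hF hfin ⊢
  haveI := isNoetherian_left hX.pre
  haveI : IsProper (X.left ↘ Spec (CommRingCat.of R)) := hX.proper
  have hO : Coh.IsCoh (Coh.structureModule X.left) :=
    Snapper.isCoh_of_isInvertible (PicLoc.isInvertible_structureModule _)
  haveI := CohFound.finite_HH_of_isProper (A := R) (Coh.structureModule X.left) hO 1
  obtain ⟨N, hN⟩ := monotone_stabilizes_iff_noetherian.mpr
    (inferInstance : IsNoetherian R (Coh.HH X.left (Coh.structureModule X.left) 1))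
    ⟨fun n => LinearMap.ker (smulEnd (Coh.HH X.left (Coh.structureModule X.left) 1) (π ^ n)), fun a b hab x hx => by
      obtain ⟨c, rfl⟩ := Nat.exists_eq_add_of_le hab
      show π ^ (a + c) • x = 0
      rw [pow_add, mul_comm, mul_smul, show π ^ a • x = 0 from hx, smul_zero]⟩
  intro z
  let K₁ := fibreIdeal X (π ^ 1)
  let F := Γ(K₁.subscheme, ⊤)
  let φ : R →+* F := K₁.subschemeι.appTop.hom.comp (Coh.toGlobal X.hom)
  let a : F := CurveCoh17.hh0 (ClSub.quotMod K₁) z
  have hπ0 : φ π = 0 := by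
    have h := appTop_fibre_eq_zero (X := X) π 1
    exact (congrArg φ (pow_one π)).symm.trans h
  letI := hF.toField
  let k := IsLocalRing.ResidueField R
  have hker : ∀ r ∈ IsLocalRing.maximalIdeal R, φ r = 0 := fun r hr => by
    rw [(IsDiscreteValuationRing.irreducible_iff_uniformizer π).mp hπ, Ideal.mem_span_singleton'] at hr
    obtain ⟨c, rfl⟩ := hr
    rw [map_mul, hπ0, mul_zero]
  let φk : k →+* F := Ideal.Quotient.lift (IsLocalRing.maximalIdeal R) φ hker
  letI : Algebra R F := φ.toAlgebra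
  letI : Algebra k F := φk.toAlgebra
  haveI : IsScalarTower R k F := IsScalarTower.of_algebraMap_eq fun r => rfl
  haveI : Module.Finite R F := finite_toGlobal_of_finite hfin
  haveI : Module.Finite k F := Module.Finite.of_restrictScalars_finite R k F
  have hint : IsIntegral k a := IsIntegral.of_finite k a
  obtain ⟨P, hP⟩ := Polynomial.map_surjective (IsLocalRing.residue R) IsLocalRing.residue_surjective (minpoly k a)
  have hcomp : φ = φk.comp (IsLocalRing.residue R) := rfl
  have ha : P.eval₂ φ a = 0 := by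
    rw [hcomp, ← Polynomial.eval₂_map, hP]
    exact minpoly.aeval k a
  have hu : IsUnit (P.derivative.eval₂ φ a) := by
    rw [hcomp, ← Polynomial.eval₂_map, ← derivative_map, hP]
    exact isUnit_iff_ne_zero.mpr
      ((PerfectField.separable_of_irreducible (minpoly.irreducible hint)).aeval_derivative_ne_zero (minpoly.aeval k a))
  -- the two sequences
  obtain ⟨h1, hS1⟩ := shortExact_fibre hX.pre (pow_ne_zero 1 hπ.ne_zero)
  obtain ⟨hN1, hSN⟩ := shortExact_fibre hX.pre (pow_ne_zero (N + 1) hπ.ne_zero)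
  haveI := hSN.epi_g
  have hcomm : Formal.smulMod R (Coh.structureModule X.left) (π ^ (N + 1)) =
      Formal.smulMod R (Coh.structureModule X.left) (π ^ N) ≫ Formal.smulMod R (Coh.structureModule X.left) (π ^ 1) := by
    rw [← FormalH7.smulMod_mul, ← pow_add, add_comm]
  have hfac : Formal.smulMod R (Coh.structureModule X.left) (π ^ (N + 1)) ≫ ClSub.toSubscheme K₁ = 0 := by
    rw [hcomm, Category.assoc, h1, Limits.comp_zero]
  let τ := hSN.exact.gIsCokernel.desc (CokernelCofork.ofπ _ hfac)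
  have hτ : ClSub.toSubscheme (fibreIdeal X (π ^ (N + 1))) ≫ τ = ClSub.toSubscheme K₁ :=
    hSN.exact.gIsCokernel.fac (CokernelCofork.ofπ _ hfac) WalkingParallelPair.one
  obtain ⟨b, hb⟩ := exists_root_thickening π P N τ hτ a ha hu
  let w : Coh.HH X.left (ClSub.quotMod (fibreIdeal X (π ^ (N + 1)))) 0 := (CurveCoh17.hh0 _).symm b
  have hw : CurveCoh17.hmap R τ 0 w = z := (CurveCoh17.hh0 (ClSub.quotMod K₁)).injective (
    (hh0_hmap_symm (M := ClSub.quotMod (fibreIdeal X (π ^ (N + 1)))) (M' := ClSub.quotMod K₁) τ b).trans hb)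
  let θ : ShortComplex.mk _ _ hN1 ⟶ ShortComplex.mk _ _ h1 :=
    ShortComplex.homMk (Formal.smulMod R (Coh.structureModule X.left) (π ^ N)) (𝟙 _) τ
      (hcomm.symm.trans (Category.comp_id _).symm) ((Category.id_comp _).trans hτ.symm)
  have hδ : π ^ (N + 1) • CurveCoh17.hdelta R hSN 0 w = 0 := by
    rw [← DVRTriv4.hmap_smulMod R]
    exact (CurveCoh17.exact_hdelta_hmap R hSN 0 _).2 ⟨w, rfl⟩
  have hδ' : π ^ N • CurveCoh17.hdelta R hSN 0 w = 0 := (hN (N + 1) (Nat.le_succ N)).ge hδ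
  refine (CurveCoh17.exact_hmap_hdelta R hS1 0 z).1 ?_
  refine (congrArg _ hw.symm).trans ((DVRTriv4.hdelta_natural R hSN hS1 θ 0 w).symm.trans ?_)
  exact (DVRTriv4.hmap_smulMod R _ _ 1 _).trans hδ'

end Groth.Agent.ArInter
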