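import Groth.Agent.Lib.ArInter.Smooth
import Groth.Agent.Lib.WeilExt.Apply
import Groth.Agent.Lib.WeilExt.Generic

/-!
# Smooth arithmetic surfaces are relatively minimal
-/

set_option autoImplicit false
set_option linter.style.haveILetI false
set_option linter.unusedSectionVars false
set_option backward.isDefEq.respectTransparency false

universe u

open CategoryTheory CategoryTheory.Limits AlgebraicGeometry TopologicalSpace Opposite

namespace Groth.Agent.ArInter

variable {R : Type u} [CommRing R] [IsDedekindDomain R]

theorem genPt_apply (v : Spec (CommRingCat.of (FractionRing R))) :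
    (Neron.genPt R).base v = (⟨⊥, Ideal.isPrime_bot⟩ : PrimeSpectrum R) := by
  apply PrimeSpectrum.ext
  show v.asIdeal.comap (algebraMap R (FractionRing R)) = ⊥
  rw [(Ideal.eq_bot_or_top v.asIdeal).resolve_right v.isPrime.ne_top, ← RingHom.ker_eq_comap_bot,
    (RingHom.injective_iff_ker_eq_bot _).1 (IsFractionRing.injective _ _)]

theorem range_fst_genPt {X : Scheme.{u}} (p : X ⟶ Spec (CommRingCat.of R)) :
    Set.range (pullback.fst p (Neron.genPt R)) = p ⁻¹' {(⟨⊥, Ideal.isPrime_bot⟩ : PrimeSpectrum R)} := by
  rw [Scheme.Pullback.range_fst]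
  congr 1
  ext y
  exact ⟨fun ⟨v, hv⟩ => hv ▸ genPt_apply v, fun hy =>
    ⟨(Nonempty.some (inferInstance : Nonempty (PrimeSpectrum (FractionRing R)))), (genPt_apply _).trans hy.symm⟩⟩

theorem bijective_stalkMap_fst {X : Scheme.{u}} (p : X ⟶ Spec (CommRingCat.of R)) (w : ↑(pullback p (Neron.genPt R))) :
    Function.Bijective ((pullback.fst p (Neron.genPt R)).stalkMap w).hom := by
  let j := pullback.fst p (Neron.genPt R)
  haveI : IsPreimmersion j := MorphismProperty.pullback_fst _ _ inferInstance
  haveI : Flat (Neron.genPt R) := by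
    rw [HasRingHomProperty.Spec_iff (P := @Flat)]
    exact RingHom.flat_algebraMap_iff.mpr (IsLocalization.flat (FractionRing R) (nonZeroDivisors R))
  haveI : Flat j := MorphismProperty.pullback_fst _ _ inferInstance
  refine ⟨?_, j.stalkMap_surjective w⟩
  letI := (j.stalkMap w).hom.toAlgebra
  haveI : Module.Flat (X.presheaf.stalk (j w)) ((pullback p (Neron.genPt R)).presheaf.stalk w) := Flat.stalkMap j w
  haveI : IsLocalHom (algebraMap (X.presheaf.stalk (j w)) ((pullback p (Neron.genPt R)).presheaf.stalk w)) :=
    inferInstanceAs (IsLocalHom (j.stalkMap w).hom)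
  haveI := Module.FaithfullyFlat.of_flat_of_isLocalHom (A := X.presheaf.stalk (j w)) (B := (pullback p (Neron.genPt R)).presheaf.stalk w)
  exact FaithfulSMul.algebraMap_injective (X.presheaf.stalk (j w)) ((pullback p (Neron.genPt R)).presheaf.stalk w)

/-- A morphism out of a smooth arithmetic surface to a regular one which is an isomorphism on
generic fibres is an isomorphism. -/
theorem isIso_of_smooth_surface (X : Over (Spec (CommRingCat.of R))) [Smooth X.hom] [IsProper X.hom]
    [IsIntegral X.left] (hdim : topologicalKrullDim X.left ≤ 2)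
    (Y : Over (Spec (CommRingCat.of R))) (hreg : ∀ y : Y.left, IsRegularLocalRing (Y.left.presheaf.stalk y))
    [IsProper Y.hom] [Flat Y.hom] (g : X ⟶ Y) (hg : IsIso ((Neron.genericFibre R).map g)) : IsIso g := by
  haveI : IsLocallyNoetherian X.left := LocallyOfFiniteType.isLocallyNoetherian X.hom
  haveI : CompactSpace X.left := QuasiCompact.compactSpace_of_compactSpace X.hom
  haveI : IsNoetherian X.left := {}
  haveI : IsLocallyNoetherian Y.left := LocallyOfFiniteType.isLocallyNoetherian Y.hom
  let η : PrimeSpectrum R := ⟨⊥, Ideal.isPrime_bot⟩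
  have hgw : g.left ≫ Y.hom = X.hom := Over.w g
  haveI : IsProper (g.left ≫ Y.hom) := hgw.symm ▸ inferInstance
  haveI : IsProper g.left := IsProper.of_comp g.left Y.hom
  -- the generic fibres
  let jX := pullback.fst X.hom (Neron.genPt R)
  let jY := pullback.fst Y.hom (Neron.genPt R)
  haveI : IsPreimmersion jX := MorphismProperty.pullback_fst _ _ inferInstance
  haveI : IsPreimmersion jY := MorphismProperty.pullback_fst _ _ inferInstance
  let gK : pullback X.hom (Neron.genPt R) ⟶ pullback Y.hom (Neron.genPt R) := ((Neron.genericFibre R).map g).left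
  haveI : IsIso gK := inferInstanceAs (IsIso ((Over.forget _).map ((Neron.genericFibre R).map g)))
  have hgK : gK ≫ jY = jX ≫ g.left := by
    simp [gK, jY, jX]
  -- generic points
  have hξη : X.hom (genericPoint X.left) = η := by
    obtain ⟨y, hy, hyq⟩ := Flat.generalizingMap X.hom
      ((PrimeSpectrum.le_iff_specializes η (X.hom.base (genericPoint X.left))).mp bot_le)
    obtain rfl : y = genericPoint X.left := (hy.antisymm ((genericPoint_spec X.left).specializes trivial)).eq
    exact hyq
  obtain ⟨ξ', hξ'⟩ := (range_fst_genPt X.hom).ge hξη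
  have hgenY : ∀ y : Y.left, g.left (genericPoint X.left) ⤳ y := by
    intro y
    obtain ⟨y', hy', hy'η⟩ := Flat.generalizingMap Y.hom
      ((PrimeSpectrum.le_iff_specializes η (Y.hom.base y)).mp bot_le)
    obtain ⟨v, hv⟩ := (range_fst_genPt Y.hom).ge hy'η
    obtain ⟨w, rfl⟩ := gK.homeomorph.surjective v
    have h1 : jY (gK w) = g.left (jX w) := by rw [← Scheme.Hom.comp_apply, hgK, Scheme.Hom.comp_apply]
    have h2 : g.left (jX w) = y' := h1.symm.trans hv
    exact (((genericPoint_spec X.left).specializes (trivial : jX w ∈ _)).map g.left.continuous).trans (h2 ▸ hy')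
  haveI : Nonempty Y.left := ⟨g.left (genericPoint X.left)⟩
  haveI : IrreducibleSpace Y.left := by
    rw [irreducibleSpace_def]
    show IsIrreducible (Set.univ : Set Y.left)
    have hu : (Set.univ : Set Y.left) = closure {g.left (genericPoint X.left)} :=
      (Set.eq_univ_of_forall fun y => specializes_iff_mem_closure.mp (hgenY y)).symm
    rw [hu]
    exact isIrreducible_singleton.closure
  haveI : IsReduced Y.left := by
    haveI : ∀ y : Y.left, _root_.IsReduced (Y.left.presheaf.stalk y) := fun y => by
      haveI := hreg y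
      haveI := (Groth.Agent.S2821.result (Y.left.presheaf.stalk y)).1
      infer_instance
    exact isReduced_of_isReduced_stalk Y.left
  haveI : IsIntegral Y.left := isIntegral_of_irreducibleSpace_of_isReduced Y.left
  have hN := RH26.isNormalScheme_of_regular hreg
  have hgen : g.left (genericPoint X.left) = genericPoint Y.left :=
    ((hgenY _).antisymm ((genericPoint_spec Y.left).specializes trivial)).eq
  have hbir : Function.Bijective (g.left.stalkMap (genericPoint X.left)).hom := by
    rw [← hξ']
    haveI : IsIso (jY.stalkMap (gK ξ')) := (ConcreteCategory.isIso_iff_bijective _).mpr (bijective_stalkMap_fst Y.hom _)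
    haveI : IsIso (jX.stalkMap ξ') := (ConcreteCategory.isIso_iff_bijective _).mpr (bijective_stalkMap_fst X.hom _)
    have h1 : IsIso ((gK ≫ jY).stalkMap ξ') := by rw [Scheme.Hom.stalkMap_comp]; infer_instance
    rw [Scheme.Hom.stalkMap_congr_hom _ _ hgK ξ'] at h1
    have h2 : IsIso ((jX ≫ g.left).stalkMap ξ') := (isIso_comp_left_iff _ _).mp h1
    rw [Scheme.Hom.stalkMap_comp] at h2
    have h3 := IsIso.of_isIso_comp_right (g.left.stalkMap (jX ξ')) (jX.stalkMap ξ')
    exact (ConcreteCategory.isIso_iff_bijective _).mp h3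
  obtain ⟨V, hV, hiso, hdimV⟩ := Groth.Agent.S11555.result g.left hN hgen hbir
  suffices hall : ∀ y : Y.left, y ∈ V by
    haveI : IsIso g.left := by
      have : V = ⊤ := top_le_iff.mp fun y _ => hall y
      subst this
      exact (IsZariskiLocalAtTarget.iff_of_iSup_eq_top (P := MorphismProperty.isomorphisms Scheme.{u})
        (fun _ : PUnit.{1} => (⊤ : Y.left.Opens)) iSup_const).mpr fun _ => hV
    haveI : IsIso ((Over.forget _).map g) := inferInstanceAs (IsIso g.left)
    exact isIso_of_reflects_iso g (Over.forget _)
  intro y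
  by_contra hy
  have hnoiso := hiso y hy
  have hdimy := hdimV y hy
  let F : Set X.left := g.left ⁻¹' {y}
  let s := Y.hom y
  have hFs : F ⊆ X.hom ⁻¹' {s} := fun x hx => by
    show X.hom x = s
    rw [← hgw, Scheme.Hom.comp_apply, (hx : g.left x = y)]
  have hnoisoF : ∀ x : F, ¬ IsOpen ({x} : Set F) := fun x hx => by
    let e := g.left.fiberHomeo y
    refine hnoiso (e.symm x) ?_
    have : ({e.symm x} : Set ↥(g.left.fiber y)) = e ⁻¹' {x} := by
      ext z
      exact ⟨fun h => (congrArg e (h : z = e.symm x)).trans (e.apply_symm_apply x), fun h => (e.symm_apply_apply z).symm.trans (congrArg e.symm h)⟩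
    rw [this]
    exact hx.preimage e.continuous
  haveI : ConnectedSpace F := (g.left.fiberHomeo y).connectedSpace_iff.mp
    (Groth.Agent.S15544.result hN g.left hgen ((ConcreteCategory.isIso_iff_bijective _).mpr hbir) y)
  have hFconn : _root_.IsConnected F := isConnected_iff_connectedSpace.mpr inferInstance
  -- the point is not over the generic point
  have hsη : s ≠ η := fun he => by
    have hone : ∀ x₁ ∈ F, ∀ x₂ ∈ F, x₁ = x₂ := by
      intro x₁ h₁ x₂ h₂
      obtain ⟨w₁, rfl⟩ := (range_fst_genPt X.hom).ge ((hFs h₁).trans he)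
      obtain ⟨w₂, rfl⟩ := (range_fst_genPt X.hom).ge ((hFs h₂).trans he)
      have k1 : jY (gK w₁) = y := by rw [← Scheme.Hom.comp_apply, hgK, Scheme.Hom.comp_apply]; exact h₁
      have k2 : jY (gK w₂) = y := by rw [← Scheme.Hom.comp_apply, hgK, Scheme.Hom.comp_apply]; exact h₂
      rw [gK.homeomorph.injective (jY.isEmbedding.injective (k1.trans k2.symm))]
    haveI : Subsingleton F := ⟨fun a b => Subtype.ext (hone a a.2 b b.2)⟩
    obtain ⟨x⟩ := (inferInstance : Nonempty F)
    exact hnoisoF x (isOpen_discrete _)
  haveI : s.asIdeal.IsMaximal := s.isPrime.isMaximal fun h => hsη (PrimeSpectrum.ext h)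
  have hs : IsClosed ({s} : Set (Spec (CommRingCat.of R))) :=
    (PrimeSpectrum.isClosed_singleton_iff_isMaximal _).mpr inferInstance
  obtain ⟨c, hcs, hcmax, hcF, hdisj⟩ := exists_generic_of_isPreconnected X.hom hs hFconn.isPreconnected
    hFconn.nonempty hFs
  -- the generic point of the component is contracted
  have hcy : g.left c = y := by
    by_contra hcn
    have hcl : ∀ x ∈ F, IsClosed ({x} : Set X.left) := by
      intro x hx
      by_contra hnc
      obtain ⟨v, hv, hvx⟩ : ∃ v ∈ closure {x}, v ≠ x := by
        by_contra hh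
        push Not at hh
        exact hnc (closure_eq_iff_isClosed.mp (Set.Subset.antisymm hh subset_closure))
      let cl : X.left → IrreducibleCloseds X.left := fun z => ⟨closure {z}, isIrreducible_singleton.closure, isClosed_closure⟩
      have hlt : ∀ {a b : X.left}, b ⤳ a → a ≠ b → cl a < cl b := by
        intro a b hab hne
        refine lt_of_le_of_ne (show closure {a} ⊆ closure {b} from isClosed_closure.closure_subset_iff.mpr
          (Set.singleton_subset_iff.mpr (specializes_iff_mem_closure.mp hab))) fun he => hne ?_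
        have h1 : b ∈ closure {a} := (congrArg (fun S : IrreducibleCloseds X.left => (S : Set X.left)) he).ge (subset_closure rfl)
        exact ((specializes_iff_mem_closure.mpr h1).antisymm hab).eq
      have hxc : x ≠ c := fun e => hcn (e ▸ hx)
      have hcξ : c ≠ genericPoint X.left := fun e => hsη (hcs.symm.trans (e ▸ hξη))
      let l : LTSeries (IrreducibleCloseds X.left) :=
        (((RelSeries.singleton _ (cl v)).snoc (cl x) (by simpa using hlt (specializes_iff_mem_closure.mpr hv) hvx)).snoc
          (cl c) (by simpa using hlt (hcF x hx) hxc)).snoc (cl (genericPoint X.left))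
          (by simpa using hlt ((genericPoint_spec X.left).specializes trivial) hcξ)
      have h := (Order.LTSeries.length_le_krullDim l).trans hdim
      rw [show l.length = 3 from rfl] at h
      exact absurd h (by decide)
    haveI : NoetherianSpace F := Topology.IsInducing.subtypeVal.noetherianSpace
    haveI : T1Space F := ⟨fun x => by
      have : ({x} : Set F) = (↑) ⁻¹' ({x.1} : Set X.left) := by ext z; simp [Subtype.ext_iff]
      rw [this]
      exact (hcl x.1 x.2).preimage continuous_subtype_val⟩
    haveI : QuasiSober F := (g.left.fiberHomeo y).symm.isClosedEmbedding.quasiSober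
    haveI : Finite F := by
      have huniv : (Set.univ : Set F).Finite := by
        refine ((NoetherianSpace.finite_irreducibleComponents (α := F)).biUnion (t := fun C => C) fun C hC => ?_).subset
          fun x _ => Set.mem_biUnion (irreducibleComponent_mem_irreducibleComponents x) mem_irreducibleComponent
        obtain ⟨c', hc'⟩ := QuasiSober.sober hC.1 (isClosed_of_mem_irreducibleComponents C hC)
        rw [← hc'.def, closure_singleton]
        exact Set.finite_singleton c'
      exact Set.finite_univ_iff.mp huniv
    obtain ⟨x⟩ := (inferInstance : Nonempty F)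
    exact hnoisoF x (isOpen_discrete _)
  -- so the point is a minimal point of the fibre of `Y`
  haveI : IrreducibleSpace X.left := inferInstance
  haveI : IsDominant g.left := ⟨show Dense (Set.range g.left) from dense_iff_closure_eq.2 (Set.eq_univ_of_forall fun z =>
    closure_mono (Set.singleton_subset_iff.2 (show genericPoint Y.left ∈ Set.range g.left from ⟨_, hgen⟩)) (specializes_iff_mem_closure.mp ((genericPoint_spec Y.left).specializes trivial)))⟩
  haveI : Surjective g.left := ⟨fun z => by
    have h := g.left.isClosedMap.isClosed_range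
    exact h.closure_subset (g.left.denseRange.closure_range ▸ trivial)⟩
  have hmin : ∀ y' : Y.left, y' ⤳ y → Y.hom y' = s → y' = y := by
    intro y' hy' hy's
    obtain ⟨x', rfl⟩ := g.left.surjective y'
    have hx's : X.hom x' = s := by rw [← hgw, Scheme.Hom.comp_apply]; exact hy's
    obtain ⟨c', hc's, hc'max, hc'x, -⟩ := exists_generic_of_isPreconnected X.hom hs isPreconnected_singleton
      (Set.singleton_nonempty x') (fun a ha => (ha : a = x').symm ▸ hx's)
    have h1 : g.left c' ⤳ y := ((hc'x x' rfl).map g.left.continuous).trans hy'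
    have h2 : y ∈ g.left '' closure {c'} :=
      h1.mem_closed (g.left.isClosedMap _ isClosed_closure) ⟨c', subset_closure rfl, rfl⟩
    obtain ⟨x'', hx'', hx''y⟩ := h2
    have hcc : c' = c := hdisj x'' ((hFs hx''y : _)) (hcF x'' hx''y) c' hc's hc'max (specializes_iff_mem_closure.mpr hx'')
    subst hcc
    exact (hy'.antisymm (hcy ▸ (hc'x x' rfl).map g.left.continuous)).eq
  -- whence its local ring has dimension at most one
  obtain ⟨t, hts, ht0⟩ := Submodule.exists_mem_ne_zero_of_ne_bot (fun h : s.asIdeal = ⊥ => hsη (PrimeSpectrum.ext h))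
  let O := Y.left.presheaf.stalk y
  let φ : R →+* O := (Y.hom.stalkMap y).hom.comp (((Spec (CommRingCat.of R)).presheaf.germ ⊤ (Y.hom y) trivial).hom.comp
    (Scheme.ΓSpecIso (CommRingCat.of R)).inv.hom)
  have hφ : ∀ Q : PrimeSpectrum O, (Y.hom (Y.left.fromSpecStalk y Q)).asIdeal = Q.asIdeal.comap φ := by
    intro Q
    rw [← Scheme.Hom.comp_apply, ← Scheme.SpecMap_stalkMap_fromSpecStalk Y.hom (x := y), Scheme.Hom.comp_apply,
      Spec.fromSpecStalk_eq, ← Scheme.Hom.comp_apply, ← Spec.map_comp]
    rfl
  have hmem : IsLocalRing.maximalIdeal O ∈ (Ideal.span {φ t}).minimalPrimes := by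
    refine ⟨⟨(IsLocalRing.maximalIdeal.isMaximal O).isPrime, ?_⟩, fun Q hQ hQle => ?_⟩
    · rw [Ideal.span_le, Set.singleton_subset_iff]
      show t ∈ (IsLocalRing.maximalIdeal O).comap φ
      rw [← hφ ⟨IsLocalRing.maximalIdeal O, inferInstance⟩,
        show Y.left.fromSpecStalk y ⟨IsLocalRing.maximalIdeal O, inferInstance⟩ = y from Scheme.fromSpecStalk_closedPoint]
      exact hts
    · haveI := hQ.1
      let Q' : PrimeSpectrum O := ⟨Q, hQ.1⟩
      have htQ : t ∈ (Y.hom (Y.left.fromSpecStalk y Q')).asIdeal := by
        rw [hφ]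
        exact hQ.2 (Ideal.mem_span_singleton_self _)
      have hle : (Y.hom (Y.left.fromSpecStalk y Q')).asIdeal ≤ s.asIdeal :=
        (PrimeSpectrum.le_iff_specializes _ _).mpr
          (((Scheme.range_fromSpecStalk (X := Y.left) (x := y)).le ⟨Q', rfl⟩).map Y.hom.continuous)
      haveI : (Y.hom (Y.left.fromSpecStalk y Q')).asIdeal.IsMaximal :=
        (Y.hom (Y.left.fromSpecStalk y Q')).isPrime.isMaximal fun h => ht0 (by rw [h] at htQ; exact htQ)
      have heq : Y.hom (Y.left.fromSpecStalk y Q') = s :=
        PrimeSpectrum.ext (Ideal.IsMaximal.eq_of_le inferInstance s.isPrime.ne_top hle)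
      have := hmin _ ((Scheme.range_fromSpecStalk (X := Y.left) (x := y)).le ⟨Q', rfl⟩) heq
      exact (congrArg PrimeSpectrum.asIdeal ((Y.left.fromSpecStalk y).isEmbedding.injective
        (this.trans (Scheme.fromSpecStalk_closedPoint (X := Y.left) (x := y)).symm))).ge
  have h1 := Ideal.height_le_one_of_isPrincipal_of_mem_minimalPrimes (Ideal.span {φ t}) _ hmem
  have h2 : ringKrullDim O ≤ 1 := by
    rw [← IsLocalRing.maximalIdeal_height_eq_ringKrullDim]
    exact WithBot.coe_le_coe.mpr h1
  exact absurd (hdimy.trans h2) (by decide)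

end Groth.Agent.ArInter
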