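import Groth.Agent.Lib.ArInter.Model
import Groth.Agent.Lib.Snapper.Twist

/-!
# Twists by components of the closed fibre
-/

set_option autoImplicit false
set_option linter.style.haveILetI false
set_option linter.unusedSectionVars false
set_option backward.isDefEq.respectTransparency false

universe u

open CategoryTheory CategoryTheory.Limits AlgebraicGeometry TopologicalSpace Opposite

namespace Groth.Agent.ArInter

section general

variable {Y : Scheme.{u}}

theorem isInverseOf_mul {I J : Y.IdealSheafData} (hI : BlowUp.IsEffCartierIdeal I) (hJ : BlowUp.IsEffCartierIdeal J)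
    {P Q : Y.Modules} (hP : ClSub.IsInverseOf P (ClSub.idealMod I)) (hQ : ClSub.IsInverseOf Q (ClSub.idealMod J)) :
    ClSub.IsInverseOf (CohB1.tensorMod P Q) (ClSub.idealMod (I * J)) := by
  obtain ⟨e⟩ := hP
  obtain ⟨e'⟩ := hQ
  obtain ⟨k⟩ := CurveCoh17.nonempty_idealMod_mul hI hJ
  exact ⟨M2.tensorIso (Iso.refl _) k.symm ≪≫ M2.tensorInterchange P Q _ _ ≪≫ M2.tensorIso e e' ≪≫
    M2.tensorLUnit _⟩

theorem isInverseOf_top : ClSub.IsInverseOf (Coh.structureModule Y) (ClSub.idealMod (⊤ : Y.IdealSheafData)) := by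
  obtain ⟨e⟩ := CurveCoh17.nonempty_idealMod_pow (EffCartier.isEffCartierIdeal_top (X := Y)) 0
  exact ⟨M2.tensorLUnit _ ≪≫ eqToIso (congrArg ClSub.idealMod Scheme.IdealSheafData.one_eq_top).symm ≪≫
    eqToIso (congrArg ClSub.idealMod (pow_zero (⊤ : Y.IdealSheafData))).symm ≪≫ e.symm⟩

theorem isInverseOf_pow {I : Y.IdealSheafData} (hI : BlowUp.IsEffCartierIdeal I) {P : Y.Modules}
    (hP : ClSub.IsInverseOf P (ClSub.idealMod I)) :
    ∀ n : ℕ, ClSub.IsInverseOf (CohB1.tensorPow P n) (ClSub.idealMod (I ^ n))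
  | 0 => by
    rw [pow_zero, Scheme.IdealSheafData.one_eq_top]
    exact isInverseOf_top
  | n + 1 => by
    rw [pow_succ]
    exact isInverseOf_mul (BlowUpExist.isEffCartierIdeal_pow hI n) hI (isInverseOf_pow hI hP n) hP

theorem isEffCartierIdeal_listProd {ι : Type} (E : ι → Y.IdealSheafData) (hE : ∀ i, BlowUp.IsEffCartierIdeal (E i))
    (m : ι → ℕ) : ∀ l : List ι, BlowUp.IsEffCartierIdeal (l.map fun i => E i ^ m i).prod
  | [] => by
    rw [List.map_nil, List.prod_nil, Scheme.IdealSheafData.one_eq_top]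
    exact EffCartier.isEffCartierIdeal_top
  | i :: l => by
    rw [List.map_cons, List.prod_cons]
    exact EffCartier.isEffCartierIdeal_mul (BlowUpExist.isEffCartierIdeal_pow (hE i) _)
      (isEffCartierIdeal_listProd E hE m l)

theorem isInverseOf_tensorList {ι : Type} (E : ι → Y.IdealSheafData) (hE : ∀ i, BlowUp.IsEffCartierIdeal (E i))
    (L : ι → Y.Modules) (hL : ∀ i, ClSub.IsInverseOf (L i) (ClSub.idealMod (E i))) (m : ι → ℕ) :
    ∀ l : List ι, ClSub.IsInverseOf (FGA.tensorList (l.map fun i => CohB1.tensorPow (L i) (m i)))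
      (ClSub.idealMod (l.map fun i => E i ^ m i).prod)
  | [] => by
    rw [List.map_nil, List.map_nil, List.prod_nil, Scheme.IdealSheafData.one_eq_top]
    exact isInverseOf_top
  | i :: l => by
    rw [List.map_cons, List.map_cons, List.prod_cons]
    exact isInverseOf_mul (BlowUpExist.isEffCartierIdeal_pow (hE i) _) (isEffCartierIdeal_listProd E hE m l)
      (isInverseOf_pow (hE i) (hL i) _) (isInverseOf_tensorList E hE L hL m l)

theorem isInverseOf_multiTwist {n : ℕ} (E : Fin n → Y.IdealSheafData) (hE : ∀ i, BlowUp.IsEffCartierIdeal (E i))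
    (L : Fin n → Y.Modules) (hL : ∀ i, ClSub.IsInverseOf (L i) (ClSub.idealMod (E i))) (m : Fin n → ℕ) :
    ClSub.IsInverseOf (FGA.multiTwist L m) (ClSub.idealMod (∏ i, E i ^ m i)) := by
  have h : ((List.finRange n).map fun i => E i ^ m i).prod = ∏ i, E i ^ m i := by
    rw [← List.ofFn_eq_map, List.prod_ofFn]
  rw [← h]
  exact isInverseOf_tensorList E hE L hL m _

theorem nonempty_iso_inverse {M M' I I' : Y.Modules} (h : ClSub.IsInverseOf M I) (h' : ClSub.IsInverseOf M' I')
    (e : I ≅ I') : Nonempty (M ≅ M') := by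
  obtain ⟨a⟩ := h
  obtain ⟨b⟩ := h'
  exact ⟨M2.inverseUnique (M2.tensorComm _ _ ≪≫ a) (M2.tensorIso e (Iso.refl M') ≪≫ M2.tensorComm _ _ ≪≫ b)⟩

end general

variable {R : Type u} [CommRing R] [IsDomain R] [IsDiscreteValuationRing R]
  {X : Over (Spec (CommRingCat.of R))}

theorem glob_mul (a b : R) : glob X (a * b) = glob X a * glob X b := map_mul _ a b

theorem glob_pow (a : R) (n : ℕ) : glob X (a ^ n) = glob X a ^ n := map_pow _ a n

theorem fibreIdeal_pow (π : R) (n : ℕ) : fibreIdeal X (π ^ n) = fibreIdeal X π ^ n := by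
  refine EffCartier.eq_of_forall_exists fun x => ?_
  obtain ⟨U, hU, hx⟩ := DivDesc12.exists_affine x
  refine ⟨⟨U, hU⟩, hx, ?_⟩
  rw [Scheme.IdealSheafData.ideal_pow, Pi.pow_apply, ideal_fibreIdeal, ideal_fibreIdeal, Ideal.span_singleton_pow,
    glob_pow, map_pow]

theorem fibreIdeal_unit_mul (π : R) (u : Rˣ) : fibreIdeal X (u * π) = fibreIdeal X π := by
  refine EffCartier.eq_of_forall_exists fun x => ?_
  obtain ⟨U, hU, hx⟩ := DivDesc12.exists_affine x
  refine ⟨⟨U, hU⟩, hx, ?_⟩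
  rw [ideal_fibreIdeal, ideal_fibreIdeal, glob_mul, map_mul]
  exact Ideal.span_singleton_mul_left_unit (((u.isUnit).map (Coh.toGlobal X.hom)).map _) _

theorem exponent_eq (hX : IsPre X) {T : Type*} [Fintype T] (Γ : T → ArSurf.VertComp R X)
    (hE : ∀ p, BlowUp.IsEffCartierIdeal (Γ p).ι.ker) (hinj : Function.Injective fun p => Set.range (Γ p).ι.base)
    {a b : T → ℕ} (h : ∏ p, (Γ p).ι.ker ^ a p = ∏ p, (Γ p).ι.ker ^ b p) : a = b := by
  classical
  haveI := isNoetherian_left hX
  funext p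
  let γ := Models.genPtOf R X (Γ p)
  obtain ⟨U, hγU, f, hf, hfnzd, -, -⟩ := SecDiv.exists_stalk_eqn (hE p)
    ((coe_support_ker (Γ p)).ge (genPtOf_mem_range (Γ p)))
  let t := X.left.presheaf.germ U.1 γ hγU f
  have hm : IsLocalRing.maximalIdeal (X.left.presheaf.stalk γ) = Ideal.span {t} := by
    rw [← stI_ker_genPtOf, DivDesc12.stI_eq _ U hγU, hf, Ideal.map_span, Set.image_singleton]
  have key : ∀ c : T → ℕ, DivDesc12.stI (∏ q, (Γ q).ι.ker ^ c q) γ = Ideal.span {t ^ c p} := fun c => by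
    rw [stI_finsetProd, Finset.prod_eq_single p, stI_ker_genPtOf, hm, Ideal.span_singleton_pow]
    · intro q _ hqp
      rw [stI_eq_top_of_notMem, Ideal.top_pow]
      · exact Ideal.one_eq_top.symm
      · rw [coe_support_ker]
        exact genPtOf_notMem_range hX (hE p) (hE q) fun e => hqp (hinj e).symm
    · exact fun h => absurd (Finset.mem_univ p) h
  obtain ⟨_, _⟩ := SecDiv.exists_isDiscreteValuationRing hfnzd hm
  have ht : Irreducible t := (IsDiscreteValuationRing.irreducible_iff_uniformizer t).mpr hm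
  have e : ∀ k : ℕ, Module.length (X.left.presheaf.stalk γ) (X.left.presheaf.stalk γ ⧸ Ideal.span {t ^ k}) = (k : ℕ∞) :=
    fun k => by
      show Ring.ord _ (t ^ k) = _
      rw [Ring.ord_pow hfnzd, Ring.ord_of_irreducible ht, nsmul_one]
  have h1 : Ideal.span {t ^ a p} = Ideal.span {t ^ b p} := by rw [← key, ← key, h]
  have h2 := e (a p)
  rw [h1, e (b p)] at h2
  exact_mod_cast h2.symm

/-- An isomorphism of the ideal modules of two divisors below a multiple of the fibre compares them by a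
multiple of the fibre. -/
theorem exists_mul_eq_mul (hX : IsPre X) (hglob : Function.Bijective (Coh.toGlobal X.hom)) {π : R}
    (hπ : Irreducible π) {A B : X.left.IdealSheafData} {N : ℕ} (hA : fibreIdeal X (π ^ N) ≤ A)
    (e : ClSub.idealMod A ≅ ClSub.idealMod B) :
    ∃ M : ℕ, fibreIdeal X (π ^ N) * B = fibreIdeal X (π ^ M) * A := by
  haveI := hX.integral
  let g := glob X (π ^ N)
  have hg : A.subschemeι.app ⊤ g = 0 := by
    choose U hU hxU using fun x : X.left => DivDesc12.exists_affine x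
    refine TopCat.Sheaf.eq_of_locally_eq' A.subscheme.sheaf (fun x => A.subschemeι ⁻¹ᵁ U x) _
      (fun x => homOfLE le_top) (fun z _ => Opens.mem_iSup.mpr ⟨A.subschemeι z, hxU (A.subschemeι z)⟩) _ 0
      fun x => ?_
    refine (Eq.trans ?_ (map_zero _).symm)
    have hm : (X.left.presheaf.map (homOfLE (le_top : U x ≤ ⊤)).op) g ∈ A.ideal ⟨U x, hU x⟩ :=
      hA ⟨U x, hU x⟩ (by rw [ideal_fibreIdeal]; exact Ideal.mem_span_singleton_self _)
    rw [← A.ker_subschemeι, Scheme.Hom.ker_apply, RingHom.mem_ker] at hm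
    refine Eq.trans ?_ hm
    exact (congrArg (fun φ => φ.hom g) (A.subschemeι.naturality (homOfLE (le_top : U x ≤ ⊤)).op)).symm
  have h0 : M1.secHom (M := Coh.structureModule X.left) g ≫ ClSub.toSubscheme A = 0 := by
    refine M1.unit_hom_ext ?_
    show (ClSub.toSubscheme A).app ⊤ ((M1.secHom (M := Coh.structureModule X.left) g).app ⊤ (M1.one ⊤)) = _
    rw [M1.secHom_app_one]
    exact hg
  let s : Γ(ClSub.idealMod A, ⊤) := (kernel.lift _ _ h0).app ⊤ (M1.one ⊤)
  have hs : M2.idealIncl A s = g := by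
    show ((kernel.lift _ _ h0) ≫ ClSub.idealModι A).app ⊤ (M1.one ⊤) = g
    rw [show kernel.lift _ _ h0 ≫ ClSub.idealModι A = M1.secHom (M := Coh.structureModule X.left) g from
      kernel.lift_ι _ _ _]
    exact M1.secHom_app_one (M := Coh.structureModule X.left) g
  let t : Γ(X.left, ⊤) := M2.idealIncl B (e.hom.app ⊤ s)
  obtain ⟨r, hr⟩ := hglob.2 t
  have hne : Nonempty (⊤ : X.left.Opens) := ⟨⟨genericPoint X.left, trivial⟩⟩
  have hg0 : g ≠ 0 := fun h => by
    refine glob_res_ne_zero hX (pow_ne_zero N hπ.ne_zero) ⊤ ?_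
    rw [show glob X (π ^ N) = g from rfl, h, map_zero]
  have hr0 : r ≠ 0 := fun h => hg0 (by
    have h1 : M2.idealIncl B (e.hom.app ⊤ s) = M2.idealIncl B 0 := by
      show t = _
      rw [← hr, h, map_zero]
      exact (map_zero ((ClSub.idealModι B).app ⊤).hom).symm
    have h2 := M2.idealIncl_injective B ⊤ h1
    have h3 : s = 0 := (ConcreteCategory.bijective_of_isIso (e.hom.app ⊤)).1 (h2.trans (map_zero _).symm)
    rw [← hs, h3]
    exact map_zero ((ClSub.idealModι A).app ⊤).hom)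
  obtain ⟨M, ε, rfl⟩ := IsDiscreteValuationRing.eq_unit_mul_pow_irreducible hr0 hπ
  refine ⟨M, ?_⟩
  rw [← fibreIdeal_unit_mul (X := X) (π ^ M) ε]
  refine EffCartier.eq_of_forall_exists fun x => ?_
  obtain ⟨V, hV, hx⟩ := DivDesc12.exists_affine x
  refine ⟨⟨V, hV⟩, hx, ?_⟩
  let ρ := X.left.presheaf.map (homOfLE (le_top : V ≤ ⊤)).op
  have key : ∀ z : Γ(ClSub.idealMod A, V),
      ρ g * M2.idealIncl B (e.hom.app V z) = M2.idealIncl A z * ρ t := fun z => by
    have h1 : ρ g • z = M2.idealIncl A z • M1.mres (ClSub.idealMod A) (le_top : V ≤ ⊤) s := by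
      refine M2.idealIncl_injective A V ?_
      rw [M2.idealIncl_smul, M2.idealIncl_smul]
      refine (mul_comm _ _).trans (congrArg (M2.idealIncl A z * ·) ?_)
      exact ((congrArg ρ hs).symm).trans (M2.idealIncl_res A (le_top : V ≤ ⊤) s).symm
    have h2 := congrArg (fun w => M2.idealIncl B (e.hom.app V w)) h1
    simp only [Scheme.Modules.Hom.app_smul] at h2
    erw [M2.idealIncl_smul, M2.idealIncl_smul] at h2
    refine h2.trans (congrArg (M2.idealIncl A z * ·) ?_)
    rw [show e.hom.app V (M1.mres (ClSub.idealMod A) (le_top : V ≤ ⊤) s) =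
      M1.mres (ClSub.idealMod B) (le_top : V ≤ ⊤) (e.hom.app ⊤ s) from (M1.app_mres e.hom _ _)]
    exact M2.idealIncl_res B (le_top : V ≤ ⊤) _
  have hrt : ρ (glob X (ε * π ^ M)) = ρ t := congrArg ρ hr
  have hrA := M2.range_idealIncl A ⟨V, hV⟩
  have hrB := M2.range_idealIncl B ⟨V, hV⟩
  rw [Scheme.IdealSheafData.ideal_mul, Scheme.IdealSheafData.ideal_mul, Pi.mul_apply, Pi.mul_apply,
    ideal_fibreIdeal, ideal_fibreIdeal]
  ext z
  rw [Ideal.mem_span_singleton_mul, Ideal.mem_span_singleton_mul]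
  constructor
  · rintro ⟨y, hy, rfl⟩
    obtain ⟨w, hw⟩ := hrB.ge hy
    obtain ⟨w', rfl⟩ := (ConcreteCategory.bijective_of_isIso (e.hom.app V)).2 w
    refine ⟨M2.idealIncl A w', hrA.le ⟨w', rfl⟩, ?_⟩
    rw [← hw]
    exact ((congrArg (· * _) hrt).trans (mul_comm _ _)).trans (key w').symm
  · rintro ⟨y, hy, rfl⟩
    obtain ⟨w, rfl⟩ := hrA.ge hy
    refine ⟨M2.idealIncl B (e.hom.app V w), hrB.le ⟨_, rfl⟩, ?_⟩
    exact (key w).trans ((mul_comm _ _).trans (congrArg (· * _) hrt.symm))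

end Groth.Agent.ArInter
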