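import Groth.Agent.Lib.ArInter.Generic
import Groth.Agent.S3314
import Groth.Agent.S3320
import Groth.Agent.Lib.TensorMod.PullTensor

/-!
# Integral combinations of fibre components as invertible modules
-/

set_option autoImplicit false
set_option linter.style.haveILetI false
set_option linter.unusedSectionVars false
set_option backward.isDefEq.respectTransparency false

universe u

open CategoryTheory CategoryTheory.Limits AlgebraicGeometry TopologicalSpace Opposite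

namespace Groth.Agent.ArInter

/-- A regular proper model with its components and their inverse ideal modules. -/
structure Ctx (R : Type u) [CommRing R] [IsDomain R] [IsDiscreteValuationRing R] (C X : Scheme.{u})
    (f : C ⟶ Spec (CommRingCat.of (FractionRing R))) (p : X ⟶ Spec (CommRingCat.of R)) {n : ℕ}
    (Γ : Fin n → ArSurf.VertComp R (Over.mk p)) (L : Fin n → X.Modules) : Prop where
  hC : Curve.IsSmoothProperCurve (FractionRing R) C f
  hH0 : IsIso f.appTop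
  hX : Models.IsRegularProperModel R X p C f
  hΓ : Models.IsComponentList R (Over.mk p) Γ
  hL : ∀ i, ClSub.IsInverseOf (L i) (ClSub.idealMod (Γ i).ι.ker)

/-- `M` is the module of the integral combination `v` of the components. -/
def Rep {X : Scheme.{u}} {n : ℕ} (L : Fin n → X.Modules) (M : X.Modules) (v : Fin n → ℤ) : Prop :=
  ∃ a b : Fin n → ℕ, (∀ i, (b i : ℤ) = (a i : ℤ) + v i) ∧
    Nonempty (CohB1.tensorMod M (FGA.multiTwist L a) ≅ FGA.multiTwist L b)

theorem exists_bezout {ι : Type*} (s : Finset ι) (m : ι → ℕ) :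
    ∃ t : ι → ℤ, ∑ i ∈ s, t i * (m i : ℤ) = ((s.gcd m : ℕ) : ℤ) := by
  classical
  induction s using Finset.induction_on with
  | empty => exact ⟨0, by simp⟩
  | insert i s hi ih =>
    obtain ⟨t, ht⟩ := ih
    refine ⟨Function.update (fun j => Nat.gcdB (m i) (s.gcd m) * t j) i (Nat.gcdA (m i) (s.gcd m)), ?_⟩
    rw [Finset.gcd_insert, Finset.sum_insert hi, Function.update_self,
      Finset.sum_congr rfl fun j hj => by
        rw [Function.update_of_ne (ne_of_mem_of_not_mem hj hi), mul_assoc],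
      ← Finset.mul_sum, ht]
    show _ = ((Nat.gcd (m i) (s.gcd m) : ℕ) : ℤ)
    rw [Nat.gcd_eq_gcd_ab]
    ring

variable {R : Type u} [CommRing R] [IsDomain R] [IsDiscreteValuationRing R] {C X : Scheme.{u}}
  {f : C ⟶ Spec (CommRingCat.of (FractionRing R))} {p : X ⟶ Spec (CommRingCat.of R)} {n : ℕ}
  {Γ : Fin n → ArSurf.VertComp R (Over.mk p)} {L : Fin n → X.Modules}

namespace Ctx

theorem hE (c : Ctx R C X f p Γ L) (i : Fin n) : BlowUp.IsEffCartierIdeal (Γ i).ι.ker :=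
  isEffCartierIdeal_ker (X := Over.mk p) (c.hL i)

theorem hS (c : Ctx R C X f p Γ L) : IsSurf (Over.mk p) := isSurf_of_model c.hC c.hX

theorem mult_pos (c : Ctx R C X f p Γ L) (i : Fin n) : 0 < Models.mult R (Over.mk p) (Γ i) := by
  obtain ⟨a, Q, ha, -, -, -, -, hc⟩ := exists_weights c.hS c.hΓ.1 c.hL
  rw [(hc (cover_of_isComponentList c.hΓ)).2 i]
  exact ha i

theorem nonempty_index (c : Ctx R C X f p Γ L) : Nonempty (Fin n) := by
  obtain ⟨x, hx⟩ := (isConnected_specialFibreSet c.hC c.hH0 c.hX).nonempty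
  obtain ⟨i, -⟩ := cover_of_isComponentList c.hΓ x hx
  exact ⟨i⟩

theorem multGcd_pos (c : Ctx R C X f p Γ L) : 0 < Models.multGcd R (Over.mk p) Γ := by
  obtain ⟨i⟩ := c.nonempty_index
  exact Nat.pos_of_ne_zero fun h => (c.mult_pos i).ne' ((Finset.gcd_eq_zero_iff.mp h) i (Finset.mem_univ i))

theorem invertible_mt (c : Ctx R C X f p Γ L) (a : Fin n → ℕ) : PicF.IsInvertible (FGA.multiTwist L a) :=
  Snapper.isInvertible_multiTwist (fun i => M2.isInvertible_of_tensor_iso (M2.isInvertible_idealMod _ (c.hE i))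
    (c.hL i).some) a

theorem inv_mt (c : Ctx R C X f p Γ L) (a : Fin n → ℕ) :
    ClSub.IsInverseOf (FGA.multiTwist L a) (ClSub.idealMod (∏ i, (Γ i).ι.ker ^ a i)) :=
  isInverseOf_multiTwist _ c.hE L c.hL a

theorem mt_zero (c : Ctx R C X f p Γ L) :
    Nonempty (FGA.multiTwist L (fun _ => 0) ≅ Coh.structureModule X) :=
  nonempty_iso_inverse (c.inv_mt fun _ => 0) isInverseOf_top (eqToIso (congrArg ClSub.idealMod (by
    simp only [pow_zero, Finset.prod_const_one]
    exact Scheme.IdealSheafData.one_eq_top)))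

theorem mt_add (c : Ctx R C X f p Γ L) (a b : Fin n → ℕ) :
    Nonempty (CohB1.tensorMod (FGA.multiTwist L a) (FGA.multiTwist L b) ≅ FGA.multiTwist L (a + b)) :=
  nonempty_iso_inverse
    (isInverseOf_mul (isEffCartierIdeal_finsetProd (X := Over.mk p) _ a c.hE _)
      (isEffCartierIdeal_finsetProd (X := Over.mk p) _ b c.hE _) (c.inv_mt a) (c.inv_mt b))
    (c.inv_mt (a + b)) (eqToIso (congrArg ClSub.idealMod (by
      rw [← Finset.prod_mul_distrib]
      exact Finset.prod_congr rfl fun i _ => (pow_add _ _ _).symm)))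

theorem cancel (c : Ctx R C X f p Γ L) {A B : X.Modules} (a : Fin n → ℕ)
    (h : Nonempty (CohB1.tensorMod A (FGA.multiTwist L a) ≅ CohB1.tensorMod B (FGA.multiTwist L a))) :
    Nonempty (A ≅ B) :=
  CurveOm17.nonempty_iso_of_tensor_iso (c.invertible_mt a) (Iso.refl _) h

/-! ### The calculus of combinations -/

theorem rep_iso {M N : X.Modules} {v : Fin n → ℤ} (h : Rep L M v) (e : M ≅ N) : Rep L N v := by
  obtain ⟨a, b, hab, ⟨i⟩⟩ := h
  exact ⟨a, b, hab, ⟨M2.tensorIso e.symm (Iso.refl _) ≪≫ i⟩⟩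

theorem rep_congr {M : X.Modules} {v w : Fin n → ℤ} (h : Rep L M v) (e : ∀ i, v i = w i) : Rep L M w :=
  (funext e : v = w) ▸ h

theorem rep_mt (c : Ctx R C X f p Γ L) (a : Fin n → ℕ) : Rep L (FGA.multiTwist L a) (fun i => (a i : ℤ)) := by
  obtain ⟨e⟩ := c.mt_zero
  exact ⟨fun _ => 0, a, fun i => by simp, ⟨M2.tensorIso (Iso.refl _) e ≪≫ M2.tensorRUnit _⟩⟩

theorem rep_zero (c : Ctx R C X f p Γ L) : Rep L (Coh.structureModule X) (fun _ => 0) := by
  obtain ⟨e⟩ := c.mt_zero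
  exact rep_congr (rep_iso (c.rep_mt fun _ => 0) e) fun i => Nat.cast_zero

theorem rep_mul (c : Ctx R C X f p Γ L) {M N : X.Modules} {v w : Fin n → ℤ} (hv : Rep L M v) (hw : Rep L N w) :
    Rep L (CohB1.tensorMod M N) (fun i => v i + w i) := by
  obtain ⟨a, b, hab, ⟨e⟩⟩ := hv
  obtain ⟨a', b', hab', ⟨e'⟩⟩ := hw
  obtain ⟨ea⟩ := c.mt_add a a'
  obtain ⟨eb⟩ := c.mt_add b b'
  refine ⟨a + a', b + b', fun i => ?_, ⟨M2.tensorIso (Iso.refl _) ea.symm ≪≫ M2.tensorInterchange M N _ _ ≪≫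
    M2.tensorIso e e' ≪≫ eb⟩⟩
  simp only [Pi.add_apply, Nat.cast_add, hab i, hab' i]
  ring

theorem rep_pow (c : Ctx R C X f p Γ L) {M : X.Modules} {v : Fin n → ℤ} (hv : Rep L M v) :
    ∀ k : ℕ, Rep L (CohB1.tensorPow M k) (fun i => (k : ℤ) * v i)
  | 0 => rep_congr c.rep_zero fun i => by simp
  | k + 1 => rep_congr (c.rep_mul (c.rep_pow hv k) hv) fun i => by push_cast; ring

theorem exists_rep (c : Ctx R C X f p Γ L) (v : Fin n → ℤ) :
    ∃ M : X.Modules, PicF.IsInvertible M ∧ Rep L M v := by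
  let a : Fin n → ℕ := fun i => (-v i).toNat
  let b : Fin n → ℕ := fun i => (v i).toNat
  obtain ⟨D, hD, ⟨e⟩⟩ := M2.exists_inverse (c.invertible_mt a)
  refine ⟨CohB1.tensorMod (FGA.multiTwist L b) D, M2.isInvertible_tensor (c.invertible_mt b) hD, a, b,
    fun i => by simp only [a, b]; omega, ⟨M2.tensorAssoc _ _ _ ≪≫
      M2.tensorIso (Iso.refl _) (M2.tensorComm _ _ ≪≫ e) ≪≫ M2.tensorRUnit _⟩⟩

/-- The combination determines the module, up to multiples of the fibre. -/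
theorem rep_iso_iff (c : Ctx R C X f p Γ L) {M N : X.Modules} {v w : Fin n → ℤ} (hv : Rep L M v)
    (hw : Rep L N w) :
    Nonempty (M ≅ N) ↔ ∃ k : ℤ, ∀ i, v i - w i = k * (Models.mult R (Over.mk p) (Γ i) : ℤ) := by
  obtain ⟨a, b, hab, ⟨e⟩⟩ := hv
  obtain ⟨a', b', hab', ⟨e'⟩⟩ := hw
  have hthm := fun s t => Groth.Agent.S3314.result R C X f p c.hC c.hH0 c.hX Γ c.hΓ L c.hL s t
  constructor
  · rintro ⟨φ⟩
    obtain ⟨e1⟩ := c.mt_add b a'
    obtain ⟨e2⟩ := c.mt_add b' a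
    obtain ⟨k, hk⟩ := (hthm (b + a') (b' + a)).mp
      ⟨e1.symm ≪≫ M2.tensorIso e.symm (Iso.refl _) ≪≫ M2.tensorAssoc _ _ _ ≪≫
        M2.tensorIso φ (M2.tensorComm _ _) ≪≫ (M2.tensorAssoc _ _ _).symm ≪≫ M2.tensorIso e' (Iso.refl _) ≪≫ e2⟩
    refine ⟨k, fun i => ?_⟩
    have h := hk i
    simp only [Pi.add_apply, Nat.cast_add, hab i, hab' i] at h
    linarith
  · rintro ⟨k, hk⟩
    obtain ⟨e1⟩ := c.mt_add a b'
    obtain ⟨e2⟩ := c.mt_add a' b
    obtain ⟨e3⟩ := c.mt_add b b'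
    obtain ⟨e4⟩ := c.mt_add b' b
    have hbb : Nonempty (FGA.multiTwist L (b + b') ≅ FGA.multiTwist L (b' + b)) := ⟨eqToIso (by rw [add_comm])⟩
    obtain ⟨ψ⟩ := (hthm (a + b') (a' + b)).mpr ⟨-k, fun i => by
      simp only [Pi.add_apply, Nat.cast_add, hab i, hab' i]
      linarith [hk i]⟩
    refine c.cancel (a' + b) ⟨M2.tensorIso (Iso.refl M) (ψ.symm ≪≫ e1.symm) ≪≫ (M2.tensorAssoc _ _ _).symm ≪≫
      M2.tensorIso e (Iso.refl _) ≪≫ e3 ≪≫ hbb.some ≪≫ e4.symm ≪≫ M2.tensorIso e'.symm (Iso.refl _) ≪≫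
      M2.tensorAssoc _ _ _ ≪≫ M2.tensorIso (Iso.refl N) e2⟩

/-- Triviality. -/
theorem trivial_iff (c : Ctx R C X f p Γ L) {M : X.Modules} {v : Fin n → ℤ} (hv : Rep L M v) :
    Nonempty (M ≅ Coh.structureModule X) ↔ ∃ k : ℤ, ∀ i, v i = k * (Models.mult R (Over.mk p) (Γ i) : ℤ) := by
  rw [c.rep_iso_iff hv c.rep_zero]
  simp only [sub_zero]

/-- An integral vector proportional to the multiplicities. -/
theorem exists_int_of_prop (c : Ctx R C X f p Γ L) {v : Fin n → ℤ} {q : ℚ}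
    (h : ∀ i, (v i : ℚ) = q * (Models.mult R (Over.mk p) (Γ i) : ℚ)) :
    ∃ k : ℤ, ∀ i, (Models.multGcd R (Over.mk p) Γ : ℤ) * v i = k * (Models.mult R (Over.mk p) (Γ i) : ℤ) := by
  obtain ⟨t, ht⟩ := exists_bezout Finset.univ fun i => Models.mult R (Over.mk p) (Γ i)
  refine ⟨∑ j, t j * v j, fun i => ?_⟩
  have hk : ((∑ j, t j * v j : ℤ) : ℚ) = q * (Models.multGcd R (Over.mk p) Γ : ℚ) := by
    have h2 : ((∑ j, t j * (Models.mult R (Over.mk p) (Γ j) : ℤ) : ℤ) : ℚ) =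
        (((Models.multGcd R (Over.mk p) Γ : ℕ) : ℤ) : ℚ) := congrArg _ ht
    push_cast at h2 ⊢
    rw [← h2, Finset.mul_sum]
    exact Finset.sum_congr rfl fun j _ => by rw [h j]; ring
  suffices H : (((Models.multGcd R (Over.mk p) Γ : ℤ) * v i : ℤ) : ℚ) =
      (((∑ j, t j * v j) * (Models.mult R (Over.mk p) (Γ i) : ℤ) : ℤ) : ℚ) by exact_mod_cast H
  rw [Int.cast_mul, Int.cast_mul, hk, h i]
  push_cast
  ring

/-! ### Degrees -/

theorem inter_tensor (c : Ctx R C X f p Γ L) (Δ : ArSurf.VertComp R (Over.mk p)) {M N : X.Modules}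
    (hM : PicF.IsInvertible M) (hN : PicF.IsInvertible N) :
    ArSurf.inter R (Over.mk p) (CohB1.tensorMod M N) Δ =
      ArSurf.inter R (Over.mk p) M Δ + ArSurf.inter R (Over.mk p) N Δ := by
  haveI : IsProper (Δ.curve.left ↘ Spec (CommRingCat.of (IsLocalRing.ResidueField R))) := isProper_curve c.hS Δ
  have hc := CurveAmple18.curveLike (IsLocalRing.ResidueField R) Δ.curve.left Δ.dim_eq.le
  haveI := hc.noetherian
  have h1 := PicLoc.isInvertible_pullback Δ.ι hM
  have h2 := PicLoc.isInvertible_pullback Δ.ι hN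
  have h3 := PicLoc.isInvertible_pullback Δ.ι (M2.isInvertible_tensor hM hN)
  unfold ArSurf.inter
  rw [curveDeg_eq_deg c.hS Δ (Snapper.isCoh_of_isInvertible h1), curveDeg_eq_deg c.hS Δ (Snapper.isCoh_of_isInvertible h2),
    curveDeg_eq_deg c.hS Δ (Snapper.isCoh_of_isInvertible h3),
    CurveCoh17.deg_iso (M2.pullTensorIso Δ.ι M N), hc.deg_tensor_invertible h1 h2]

theorem inter_iso (c : Ctx R C X f p Γ L) (Δ : ArSurf.VertComp R (Over.mk p)) {M N : X.Modules}
    (hM : PicF.IsInvertible M) (e : M ≅ N) :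
    ArSurf.inter R (Over.mk p) M Δ = ArSurf.inter R (Over.mk p) N Δ := by
  haveI : IsProper (Δ.curve.left ↘ Spec (CommRingCat.of (IsLocalRing.ResidueField R))) := isProper_curve c.hS Δ
  have hc := CurveAmple18.curveLike (IsLocalRing.ResidueField R) Δ.curve.left Δ.dim_eq.le
  haveI := hc.noetherian
  have h1 := PicLoc.isInvertible_pullback Δ.ι hM
  have h2 := PicLoc.isInvertible_pullback Δ.ι (M2.isInvertible_of_iso e hM)
  unfold ArSurf.inter
  rw [curveDeg_eq_deg c.hS Δ (Snapper.isCoh_of_isInvertible h1), curveDeg_eq_deg c.hS Δ (Snapper.isCoh_of_isInvertible h2),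
    CurveCoh17.deg_iso ((Scheme.Modules.pullback Δ.ι).mapIso e)]

theorem inter_mt (c : Ctx R C X f p Γ L) (Δ : ArSurf.VertComp R (Over.mk p)) (a : Fin n → ℕ) :
    ArSurf.inter R (Over.mk p) (FGA.multiTwist L a) Δ = ∑ i, (a i : ℤ) * ArSurf.inter R (Over.mk p) (L i) Δ := by
  have hp := isEffCartierIdeal_finsetProd (X := Over.mk p) _ a c.hE Finset.univ
  rw [inter_eq_neg_ideg (X := Over.mk p) c.hS Δ hp (c.inv_mt a), ideg_finsetProd c.hS Δ _ a c.hE,
    ← Finset.sum_neg_distrib]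
  refine Finset.sum_congr rfl fun i _ => ?_
  rw [inter_eq_neg_ideg (X := Over.mk p) c.hS Δ (c.hE i) (c.hL i)]
  ring

theorem inter_rep (c : Ctx R C X f p Γ L) (Δ : ArSurf.VertComp R (Over.mk p)) {M : X.Modules}
    (hM : PicF.IsInvertible M) {v : Fin n → ℤ} (hv : Rep L M v) :
    ArSurf.inter R (Over.mk p) M Δ = ∑ i, v i * ArSurf.inter R (Over.mk p) (L i) Δ := by
  obtain ⟨a, b, hab, ⟨e⟩⟩ := hv
  have h := c.inter_iso Δ (M2.isInvertible_tensor hM (c.invertible_mt a)) e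
  rw [c.inter_tensor Δ hM (c.invertible_mt a), c.inter_mt Δ a, c.inter_mt Δ b] at h
  simp only [hab, add_mul, Finset.sum_add_distrib] at h
  linarith

/-- A combination of degree zero on every component is proportional to the fibre. -/
theorem prop_of_degree_zero (c : Ctx R C X f p Γ L) {v : Fin n → ℤ}
    (h : ∀ i, ∑ j, v j * ArSurf.inter R (Over.mk p) (L j) (Γ i) = 0) :
    ∃ q : ℚ, ∀ i, (v i : ℚ) = q * (Models.mult R (Over.mk p) (Γ i) : ℚ) := by
  refine (Groth.Agent.S3320.result R C X f p c.hC c.hH0 c.hX Γ c.hΓ L c.hL v).2.mp ?_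
  rw [Fintype.sum_prod_type]
  refine Finset.sum_eq_zero fun i _ => ?_
  simp only [mul_assoc, ← Finset.mul_sum, h i, mul_zero]

/-! ### Restriction to the generic fibre -/

theorem pullback_mt (c : Ctx R C X f p Γ L) {g : C ⟶ X}
    (hg : IsPullback g f p (Spec.map (CommRingCat.ofHom (algebraMap R (FractionRing R))))) (a : Fin n → ℕ) :
    Nonempty ((Scheme.Modules.pullback g).obj (FGA.multiTwist L a) ≅ Coh.structureModule C) := by
  let D := ∏ i, (Γ i).ι.ker ^ a i
  have hD : BlowUp.IsEffCartierIdeal D := isEffCartierIdeal_finsetProd (X := Over.mk p) _ a c.hE Finset.univ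
  obtain ⟨π, hπ⟩ := IsDiscreteValuationRing.exists_irreducible R
  have htop : D.comap g = ⊤ := EffCartier.comap_eq_top D g fun z hz => by
    obtain ⟨i, -, -, hi⟩ := support_finsetProd (X := Over.mk p) _ _ _ hz
    have hr : g z ∈ X.basicOpen (Coh.toGlobal p π) := (range_generic hg hπ).le ⟨z, rfl⟩
    obtain ⟨w, hw⟩ := (coe_support_ker (Γ i)).le hi
    have hwF : g z ∈ Models.specialFibreSet R (Over.mk p) := by
      refine hw ▸ ?_
      have hsp : Models.genPtOf R (Over.mk p) (Γ i) ⤳ (Γ i).ι.base w :=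
        ((genericPoint_spec (Γ i).curve.left).specializes (y := w) trivial).map (Γ i).ι.continuous
      exact hsp.mem_closed (Models.isClosed_specialFibreSet R (Over.mk p)) (genPtOf_mem_specialFibreSet (Γ i))
    obtain ⟨U, hU, hzU⟩ := DivDesc12.exists_affine (X := (Over.mk p).left) (g z)
    have hs := (mem_support_fibreIdeal (X := Over.mk p) hπ (g z)).mpr hwF
    rw [Scheme.IdealSheafData.mem_support_iff_of_mem (U := ⟨U, hU⟩) hzU, ideal_fibreIdeal, Scheme.zeroLocus_span,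
      Scheme.mem_zeroLocus_iff] at hs
    simp only [Set.mem_singleton_iff, forall_eq] at hs
    exact hs ((Scheme.basicOpen_res X (Coh.toGlobal p π) (homOfLE (le_top : U ≤ ⊤)).op).ge ⟨hzU, hr⟩)
  have hJ : BlowUp.IsEffCartierIdeal (D.comap g) := htop ▸ EffCartier.isEffCartierIdeal_top
  obtain ⟨ψ⟩ := nonempty_pullback_idealMod g hD hJ
  obtain ⟨e⟩ := c.inv_mt a
  have e' : ClSub.IsInverseOf ((Scheme.Modules.pullback g).obj (FGA.multiTwist L a)) (ClSub.idealMod (⊤ : C.IdealSheafData)) :=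
    ⟨M2.tensorIso (Iso.refl _) (eqToIso (congrArg ClSub.idealMod htop.symm) ≪≫ ψ.symm) ≪≫
      (M2.pullTensorIso g _ _).symm ≪≫ (Scheme.Modules.pullback g).mapIso e ≪≫ PicLoc.pullbackStructureIso g⟩
  exact nonempty_iso_inverse e' isInverseOf_top (Iso.refl _)

theorem pullback_rep (c : Ctx R C X f p Γ L) {g : C ⟶ X}
    (hg : IsPullback g f p (Spec.map (CommRingCat.ofHom (algebraMap R (FractionRing R))))) {M : X.Modules}
    {v : Fin n → ℤ} (hv : Rep L M v) :
    Nonempty ((Scheme.Modules.pullback g).obj M ≅ Coh.structureModule C) := by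
  obtain ⟨a, b, -, ⟨e⟩⟩ := hv
  obtain ⟨ea⟩ := c.pullback_mt hg a
  obtain ⟨eb⟩ := c.pullback_mt hg b
  exact ⟨(M2.tensorRUnit _).symm ≪≫ M2.tensorIso (Iso.refl _) ea.symm ≪≫ (M2.pullTensorIso g _ _).symm ≪≫
    (Scheme.Modules.pullback g).mapIso e ≪≫ eb⟩

theorem exists_rep_of_trivial (c : Ctx R C X f p Γ L) {g : C ⟶ X}
    (hg : IsPullback g f p (Spec.map (CommRingCat.ofHom (algebraMap R (FractionRing R))))) {M : X.Modules}
    (hM : PicF.IsInvertible M) (h : Nonempty ((Scheme.Modules.pullback g).obj M ≅ Coh.structureModule C)) :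
    ∃ v, Rep L M v := by
  obtain ⟨a, ⟨e⟩⟩ := exists_twist_of_trivial c.hC c.hX c.hΓ hg c.hL hM h
  exact ⟨_, rep_iso (c.rep_mt a) e.symm⟩

/-- Two modules with the same generic restriction differ by a combination of components. -/
theorem exists_rep_quot (c : Ctx R C X f p Γ L) {g : C ⟶ X}
    (hg : IsPullback g f p (Spec.map (CommRingCat.ofHom (algebraMap R (FractionRing R))))) {M M' : X.Modules}
    (hM : PicF.IsInvertible M) (hM' : PicF.IsInvertible M')
    (h : Nonempty ((Scheme.Modules.pullback g).obj M' ≅ (Scheme.Modules.pullback g).obj M)) :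
    ∃ (v : Fin n → ℤ) (T : X.Modules), PicF.IsInvertible T ∧ Rep L T v ∧ Nonempty (M' ≅ CohB1.tensorMod M T) := by
  obtain ⟨e⟩ := h
  obtain ⟨D, hD, ⟨eD⟩⟩ := M2.exists_inverse hM
  have hT := M2.isInvertible_tensor hD hM'
  obtain ⟨v, hv⟩ := c.exists_rep_of_trivial hg hT ⟨M2.pullTensorIso g D M' ≪≫ M2.tensorIso (Iso.refl _) e ≪≫
    (M2.pullTensorIso g D M).symm ≪≫ (Scheme.Modules.pullback g).mapIso (M2.tensorComm _ _ ≪≫ eD) ≪≫
    PicLoc.pullbackStructureIso g⟩
  exact ⟨v, _, hT, hv, ⟨(M2.tensorLUnit M').symm ≪≫ M2.tensorIso eD.symm (Iso.refl _) ≪≫ M2.tensorAssoc _ _ _⟩⟩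

end Ctx

end Groth.Agent.ArInter
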